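import Mathlib.AlgebraicGeometry.Morphisms.Flat

/-! Global sections of a flat base change of a qcqs scheme over an affine scheme. -/

set_option autoImplicit false
universe u

namespace Groth.HensPair

open AlgebraicGeometry CategoryTheory Limits
open scoped TensorProduct

variable {B C : Type u} [CommRing B] [CommRing C] [Algebra B C] [Module.Flat B C]
  {Z P : Scheme.{u}} [CompactSpace ↥Z] [QuasiSeparatedSpace ↥Z]
  {a : P ⟶ Z} {b : P ⟶ Spec (CommRingCat.of C)} {p : Z ⟶ Spec (CommRingCat.of B)}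

theorem isPushout_appTop
    (H : IsPullback a b p (Spec.map (CommRingCat.ofHom (algebraMap B C)))) :
    IsPushout p.appTop (Spec.map (CommRingCat.ofHom (algebraMap B C))).appTop a.appTop b.appTop := by
  have : Flat (Spec.map (CommRingCat.ofHom (algebraMap B C))) :=
    HasRingHomProperty.Spec_iff.2 (RingHom.flat_algebraMap_iff.2 ‹_›)
  have hiso := AlgebraicGeometry.isIso_pushoutSection_of_isQuasiSeparated_of_flat_right H
    (US := ⊤) (UT := ⊤) (UX := ⊤) (UY := ⊤) le_top le_top (by simp)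
    (isAffineOpen_top _) (isAffineOpen_top _) CompactSpace.isCompact_univ (IsQuasiSeparated.of_quasiSeparatedSpace _)
  have := (isIso_pushoutSection_iff H (US := ⊤) (UT := ⊤) (UX := ⊤) (UY := ⊤) le_top le_top (by simp)).1 hiso
  convert this using 1 <;> exact (Scheme.Hom.appLE_eq_app _).symm

theorem appTop_bijective_of_isIso
    (H : IsPullback a b p (Spec.map (CommRingCat.ofHom (algebraMap B C)))) [IsIso p.appTop] :
    Function.Bijective ((Scheme.ΓSpecIso (CommRingCat.of C)).inv ≫ b.appTop).hom := by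
  have := (isPushout_appTop H).isIso_inr_of_isIso ‹IsIso p.appTop›
  exact ConcreteCategory.bijective_of_isIso ((Scheme.ΓSpecIso (CommRingCat.of C)).inv ≫ b.appTop)

theorem tmul_eq_zero_of_appTop_eq_zero
    (H : IsPullback a b p (Spec.map (CommRingCat.ofHom (algebraMap B C)))) {c : C}
    (hc : ((Scheme.ΓSpecIso (CommRingCat.of C)).inv ≫ b.appTop).hom c = 0) :
    letI := ((Scheme.ΓSpecIso (CommRingCat.of B)).inv ≫ p.appTop).hom.toAlgebra
    c ⊗ₜ[B] (1 : Γ(Z, ⊤)) = 0 := by
  let := ((Scheme.ΓSpecIso (CommRingCat.of B)).inv ≫ p.appTop).hom.toAlgebra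
  let T := C ⊗[B] Γ(Z, ⊤)
  let j₁ : Γ(Z, ⊤) ⟶ CommRingCat.of T :=
    CommRingCat.ofHom (Algebra.TensorProduct.includeRight : Γ(Z, ⊤) →ₐ[B] T).toRingHom
  let j₂ : Γ(Spec (CommRingCat.of C), ⊤) ⟶ CommRingCat.of T :=
    (Scheme.ΓSpecIso (CommRingCat.of C)).hom ≫ CommRingCat.ofHom (algebraMap C T)
  have hw : p.appTop ≫ j₁ = (Spec.map (CommRingCat.ofHom (algebraMap B C))).appTop ≫ j₂ := by
    rw [← cancel_epi (Scheme.ΓSpecIso (CommRingCat.of B)).inv, ← Category.assoc, ← Category.assoc]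
    refine CommRingCat.hom_ext (RingHom.ext fun r => ?_)
    show (1 : C) ⊗ₜ[B] algebraMap B Γ(Z, ⊤) r = _
    rw [← Scheme.ΓSpecIso_inv_naturality]
    show _ = algebraMap C T ((Scheme.ΓSpecIso (CommRingCat.of C)).hom
      ((Scheme.ΓSpecIso (CommRingCat.of C)).inv (algebraMap B C r)))
    rw [← CommRingCat.comp_apply, Iso.inv_hom_id, CommRingCat.id_apply]
    exact (Algebra.TensorProduct.includeRight : Γ(Z, ⊤) →ₐ[B] T).commutes r |>.trans
      (IsScalarTower.algebraMap_apply B C T r)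
  have h := (isPushout_appTop H).inr_desc j₁ j₂ hw
  have h1 := congrArg ((isPushout_appTop H).desc j₁ j₂ hw).hom hc
  have h2 := congrArg (fun φ => φ.hom ((Scheme.ΓSpecIso (CommRingCat.of C)).inv c)) h
  have h3 : j₂.hom ((Scheme.ΓSpecIso (CommRingCat.of C)).inv c) = c ⊗ₜ[B] (1 : Γ(Z, ⊤)) := by
    show algebraMap C T ((Scheme.ΓSpecIso (CommRingCat.of C)).hom
      ((Scheme.ΓSpecIso (CommRingCat.of C)).inv c)) = _
    rw [← CommRingCat.comp_apply, Iso.inv_hom_id, CommRingCat.id_apply]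
    rfl
  exact h3.symm.trans (h2.symm.trans (h1.trans (map_zero _)))

end Groth.HensPair
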