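import Groth.Agent.HensPair.SteinConnected
import Mathlib.AlgebraicGeometry.Normalization
import Mathlib.AlgebraicGeometry.Morphisms.Finite

/-! Stein factorisation through the relative normalization. -/

set_option autoImplicit false
universe u

open CategoryTheory CategoryTheory.Limits AlgebraicGeometry TopologicalSpace Opposite

namespace Groth.HensPair

variable {X S : Scheme.{u}} (f : X ⟶ S)

/-- `f` over an affine open, as a scheme over the spectrum of its functions. -/
noncomputable abbrev overAffine {U : S.Opens} (hU : IsAffineOpen U) :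
    (f ⁻¹ᵁ U).toScheme ⟶ Spec (CommRingCat.of Γ(S, U)) :=
  (f ∣_ U) ≫ hU.isoSpec.hom

theorem toΓ_overAffine {U : S.Opens} (hU : IsAffineOpen U) :
    CommRingCat.ofHom (toΓ (overAffine f hU)) = f.app U ≫ (f ⁻¹ᵁ U).topIso.inv := by
  show (Scheme.ΓSpecIso _).inv ≫ (f ∣_ U ≫ hU.isoSpec.hom).appTop = _
  rw [Scheme.Hom.comp_appTop, hU.isoSpec_hom_appTop, morphismRestrict_appTop, Category.assoc,
    Iso.inv_hom_id_assoc]
  simp only [Scheme.Opens.topIso_inv, Scheme.Hom.app_eq_appLE, Scheme.Hom.appLE_map]
  exact (Scheme.Hom.map_appLE f _ _).trans (Scheme.Hom.appLE_map f _ _).symm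

theorem isProper_overAffine [IsProper f] {U : S.Opens} (hU : IsAffineOpen U) : IsProper (overAffine f hU) := by
  have : IsProper (f ∣_ U) := IsZariskiLocalAtTarget.restrict ‹_› U
  infer_instance

theorem isIntegral_app_of_universallyClosed [UniversallyClosed f] {U : S.Opens} (hU : IsAffineOpen U) :
    (f.app U).hom.IsIntegral := by
  have : IsAffine U.toScheme := hU
  have : UniversallyClosed (f ∣_ U) := IsZariskiLocalAtTarget.restrict ‹_› U
  have : UniversallyClosed (overAffine f hU) := inferInstance
  have h := isIntegral_appTop_of_universallyClosed (overAffine f hU)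
  have h' : (f.app U) = (Scheme.ΓSpecIso (CommRingCat.of Γ(S, U))).inv ≫ (overAffine f hU).appTop ≫
      (f ⁻¹ᵁ U).topIso.hom := by
    rw [← Category.assoc]
    show _ = CommRingCat.ofHom (toΓ (overAffine f hU)) ≫ _
    rw [toΓ_overAffine, Category.assoc, Iso.inv_hom_id, Category.comp_id]
  rw [h', CommRingCat.hom_comp, CommRingCat.hom_comp]
  exact RingHom.IsIntegral.trans _ _ (RingHom.isIntegral_of_surjective _
    (ConcreteCategory.bijective_of_isIso (Scheme.ΓSpecIso (CommRingCat.of Γ(S, U))).inv).2)
    (RingHom.IsIntegral.trans _ _ h (RingHom.isIntegral_of_surjective _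
      (ConcreteCategory.bijective_of_isIso (f ⁻¹ᵁ U).topIso.hom).2))

theorem isIso_toNormalization_app_preimage [UniversallyClosed f] [IsSeparated f] {U : S.Opens}
    (hU : IsAffineOpen U) : IsIso (f.toNormalization.app (f.fromNormalization ⁻¹ᵁ U)) := by
  let _ := (f.app U).hom.toAlgebra
  have htop : integralClosure Γ(S, U) Γ(X, f ⁻¹ᵁ U) = ⊤ := by
    rw [integralClosure_eq_top_iff, ← algebraMap_isIntegral_iff]
    exact isIntegral_app_of_universallyClosed f hU
  have hval : IsIso (CommRingCat.ofHom (integralClosure Γ(S, U) Γ(X, f ⁻¹ᵁ U)).val.toRingHom) :=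
    (ConcreteCategory.isIso_iff_bijective _).2
      ⟨Subtype.val_injective, fun x => ⟨⟨x, htop.ge Algebra.mem_top⟩, rfl⟩⟩
  have h := f.toNormalization_app_preimage ⟨U, hU⟩
  dsimp only at h
  rw [h]
  exact IsIso.comp_isIso' inferInstance (IsIso.comp_isIso' hval inferInstance)

theorem isIso_app_basicOpen {Y Z : Scheme.{u}} (g : Y ⟶ Z) [QuasiCompact g] [QuasiSeparated g] {V : Z.Opens}
    (hV : IsAffineOpen V) [IsIso (g.app V)] (r : Γ(Z, V)) : IsIso (g.app (Z.basicOpen r)) := by
  let _ : Algebra Γ(Y, g ⁻¹ᵁ V) Γ(Y, Y.basicOpen (g.app V r)) :=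
    (Y.presheaf.map (homOfLE (Y.basicOpen_le _)).op).hom.toAlgebra
  have := isLocalization_basicOpen_of_qcqs (g.isCompact_preimage hV.isCompact)
    (g.isQuasiSeparated_preimage hV.isQuasiSeparated) (g.app V r)
  have := hV.isLocalization_basicOpen r
  have he : Y.basicOpen (g.app V r) = g ⁻¹ᵁ Z.basicOpen r := (Scheme.preimage_basicOpen g r).symm
  let φ : Γ(Z, Z.basicOpen r) ⟶ Γ(Y, Y.basicOpen (g.app V r)) := g.appLE _ _ he.le
  have hres : ∀ w, φ (algebraMap Γ(Z, V) Γ(Z, Z.basicOpen r) w) = algebraMap _ _ (g.app V w) := fun w => by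
    show (Z.presheaf.map _ ≫ g.appLE _ _ _) w = (g.app V ≫ Y.presheaf.map _) w
    rw [Scheme.Hom.map_appLE]
    rfl
  have hb : Function.Bijective (g.app V) := ConcreteCategory.bijective_of_isIso _
  have hφ : Function.Bijective φ := by
    constructor
    · refine (injective_iff_map_eq_zero φ.hom).2 fun z hz => ?_
      obtain ⟨⟨w, _, n, rfl⟩, hw⟩ := IsLocalization.surj (Submonoid.powers r) z
      have h1 : algebraMap _ Γ(Y, Y.basicOpen (g.app V r)) (g.app V w) = 0 := by
        rw [← hres, ← hw, map_mul, show φ z = 0 from hz, zero_mul]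
      obtain ⟨⟨_, m, rfl⟩, hm⟩ := (IsLocalization.map_eq_zero_iff (Submonoid.powers (g.app V r)) _ _).1 h1
      have hm' : r ^ m * w = 0 := hb.1 (by
        rw [map_mul, map_pow, map_zero]; exact hm)
      refine ((IsLocalization.map_units Γ(Z, Z.basicOpen r) (⟨r ^ n, n, rfl⟩ : Submonoid.powers r)).mul_left_eq_zero).1 ?_
      rw [hw]
      exact (IsLocalization.map_eq_zero_iff (Submonoid.powers r) _ _).2 ⟨⟨r ^ m, m, rfl⟩, hm'⟩
    · intro y
      obtain ⟨⟨x, _, n, rfl⟩, hx⟩ := IsLocalization.surj (Submonoid.powers (g.app V r)) y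
      obtain ⟨w, rfl⟩ := hb.2 x
      let z := IsLocalization.mk' Γ(Z, Z.basicOpen r) w (⟨r ^ n, n, rfl⟩ : Submonoid.powers r)
      refine ⟨z, (((IsLocalization.map_units Γ(Z, Z.basicOpen r)
        (⟨r ^ n, n, rfl⟩ : Submonoid.powers r)).map φ.hom).mul_left_injective ?_)⟩
      show φ z * φ (algebraMap _ _ (r ^ n)) = y * φ (algebraMap _ _ (r ^ n))
      rw [← map_mul, IsLocalization.mk'_spec Γ(Z, Z.basicOpen r) w (⟨r ^ n, n, rfl⟩ : Submonoid.powers r),
        hres, hres, map_pow (g.app V).hom, ← hx]
  have : IsIso φ := (ConcreteCategory.isIso_iff_bijective φ).2 hφ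
  have heq : g.app (Z.basicOpen r) = φ ≫ Y.presheaf.map (eqToHom he.symm).op := by
    rw [Scheme.Hom.appLE_map, Scheme.Hom.app_eq_appLE]
  rw [heq]
  infer_instance

theorem isIso_toNormalization_app [UniversallyClosed f] [IsSeparated f] (W : f.normalization.Opens) :
    IsIso (f.toNormalization.app W) := by
  let N := f.normalization
  let B : (Σ U : S.affineOpens, Γ(N, f.fromNormalization ⁻¹ᵁ U.1)) → N.Opens := fun i => N.basicOpen i.2
  have hB : Opens.IsBasis (Set.range B) := by
    rw [Opens.isBasis_iff_nbhd]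
    intro W x hx
    obtain ⟨_, ⟨U, hU, rfl⟩, hxU, -⟩ :=
      S.isBasis_affineOpens.exists_subset_of_mem_open (Set.mem_univ (f.fromNormalization x)) isOpen_univ
    obtain ⟨r, hr, hxr⟩ := (hU.preimage f.fromNormalization).exists_basicOpen_le ⟨x, hx⟩ hxU
    exact ⟨_, ⟨⟨⟨U, hU⟩, r⟩, rfl⟩, hxr, hr⟩
  let φ : N.sheaf ⟶ (TopCat.Sheaf.pushforward CommRingCat f.toNormalization.base).obj X.sheaf :=
    ⟨f.toNormalization.c⟩
  have : IsIso φ := TopCat.Sheaf.isIso_iff_isIso_basis hB fun i => by
    have := isIso_toNormalization_app_preimage f i.1.2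
    exact isIso_app_basicOpen f.toNormalization (i.1.2.preimage f.fromNormalization) i.2
  have hc : IsIso f.toNormalization.c :=
    inferInstanceAs (IsIso ((TopCat.Sheaf.forget CommRingCat _).map φ))
  exact inferInstanceAs (IsIso (f.toNormalization.c.app (op W)))

theorem isProper_toNormalization [IsProper f] : IsProper f.toNormalization := by
  have : IsProper (f.toNormalization ≫ f.fromNormalization) := by
    rw [Scheme.Hom.toNormalization_fromNormalization]; infer_instance
  exact IsProper.of_comp f.toNormalization f.fromNormalization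

/-- A proper morphism with trivial direct image of functions has geometrically connected fibres. -/
theorem geometricallyConnected_of_isIso_app (hPF : CohFin.ProjFinite.{u}) [IsProper f]
    (h : ∀ U : S.Opens, IsAffineOpen U → IsIso (f.app U)) : GeometricallyConnected f := by
  rw [GeometricallyConnected.iff_geometricallyConnected_fiber]
  intro s
  obtain ⟨_, ⟨U, hU, rfl⟩, hsU, -⟩ :=
    S.isBasis_affineOpens.exists_subset_of_mem_open (Set.mem_univ s) isOpen_univ
  replace hU : IsAffineOpen U := hU
  let A := Γ(S, U)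
  let R := S.presheaf.stalk s
  let _ : Algebra A R := (S.presheaf.germ U s hsU).hom.toAlgebra
  have : IsLocalization.AtPrime R (hU.primeIdealOf ⟨s, hsU⟩).asIdeal := hU.isLocalization_stalk ⟨s, hsU⟩
  have : Module.Flat A R := IsLocalization.flat R (hU.primeIdealOf ⟨s, hsU⟩).asIdeal.primeCompl
  let fA := overAffine f hU
  have : IsProper fA := isProper_overAffine f hU
  have : CompactSpace (f ⁻¹ᵁ U).toScheme := QuasiCompact.compactSpace_of_compactSpace fA
  have : QuasiSeparatedSpace (f ⁻¹ᵁ U).toScheme := quasiSeparatedSpace_of_quasiSeparated fA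
  have : IsIso fA.appTop := by
    have := h U hU
    have : IsIso ((Scheme.ΓSpecIso (CommRingCat.of A)).inv ≫ fA.appTop) := by
      show IsIso (CommRingCat.ofHom (toΓ fA))
      rw [toΓ_overAffine]
      infer_instance
    exact IsIso.of_isIso_comp_left (Scheme.ΓSpecIso (CommRingCat.of A)).inv _
  let σ := Spec.map (CommRingCat.ofHom (algebraMap A R))
  let fR := pullback.snd fA σ
  have : IsProper fR := MorphismProperty.pullback_snd _ _ ‹_›
  have hΓ : Function.Bijective (toΓ fR) :=
    appTop_bijective_of_isIso (B := A) (C := R) (IsPullback.of_hasPullback fA σ)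
  have hgc := geometricallyConnected_closedFibre hPF fR hΓ
  let π : Spec (S.residueField s) ⟶ Spec (CommRingCat.of R) := Spec.map (CommRingCat.ofHom (IsLocalRing.residue R))
  let φ : Spec (S.residueField s) ⟶ Spec (CommRingCat.of A) :=
    Spec.map (CommRingCat.ofHom ((IsLocalRing.residue R).comp (algebraMap A R)))
  have hφ : φ ≫ hU.fromSpec = S.fromSpecResidueField s := by
    show Spec.map (S.presheaf.germ U s hsU ≫ S.residue s) ≫ hU.fromSpec = _
    rw [Spec.map_comp, Category.assoc]
    show Spec.map (S.residue s) ≫ hU.fromSpecStalk hsU = _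
    rw [hU.fromSpecStalk_eq_fromSpecStalk]
    rfl
  have hright : IsPullback (f ⁻¹ᵁ U).ι fA f hU.fromSpec := by
    refine IsPullback.of_iso (isPullback_morphismRestrict f U).flip (Iso.refl _) (Iso.refl _) hU.isoSpec (Iso.refl _)
      ?_ ?_ ?_ ?_
    all_goals simp [fA, ← IsAffineOpen.isoSpec_inv_ι]
  have hπσ : π ≫ σ = φ := (Spec.map_comp _ _).symm
  have hbig : IsPullback (pullback.fst fR π ≫ pullback.fst fA σ ≫ (f ⁻¹ᵁ U).ι) (pullback.snd fR π) f
      (S.fromSpecResidueField s) := by
    have h1 := ((IsPullback.of_hasPullback fR π).paste_horiz (IsPullback.of_hasPullback fA σ)).paste_horiz hright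
    rw [Category.assoc, hπσ, hφ] at h1
    exact h1
  have he : f.fiberToSpecResidueField s =
      hbig.isoPullback.inv ≫ pullback.snd fR π := hbig.isoPullback_inv_snd.symm
  rw [he]
  exact (MorphismProperty.cancel_left_of_respectsIso @GeometricallyConnected _ _).2 hgc

theorem geometricallyConnected_toNormalization (hPF : CohFin.ProjFinite.{u}) [IsProper f] :
    GeometricallyConnected f.toNormalization := by
  have := isProper_toNormalization f
  exact geometricallyConnected_of_isIso_app _ hPF fun V _ => isIso_toNormalization_app f V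

theorem finite_app_of_proper (hPF : CohFin.ProjFinite.{u}) [IsProper f] [IsLocallyNoetherian S] {U : S.Opens}
    (hU : IsAffineOpen U) : (f.app U).hom.Finite := by
  have : IsNoetherianRing Γ(S, U) := IsLocallyNoetherian.component_noetherian ⟨U, hU⟩
  have : IsProper (overAffine f hU) := isProper_overAffine f hU
  have h : (toΓ (overAffine f hU)).Finite := finite_globalSections_of_proper hPF (overAffine f hU)
  have h' : f.app U = CommRingCat.ofHom (toΓ (overAffine f hU)) ≫ (f ⁻¹ᵁ U).topIso.hom := by
    rw [toΓ_overAffine, Category.assoc, Iso.inv_hom_id, Category.comp_id]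
  rw [h', CommRingCat.hom_comp]
  exact (RingHom.Finite.of_surjective _ (ConcreteCategory.bijective_of_isIso (f ⁻¹ᵁ U).topIso.hom).2).comp h

theorem isFinite_fromNormalization (hPF : CohFin.ProjFinite.{u}) [IsProper f] [IsLocallyNoetherian S] :
    IsFinite f.fromNormalization := by
  refine ⟨fun U hU => ?_⟩
  have := isIso_toNormalization_app_preimage f hU
  let e : Γ(f.normalization, f.fromNormalization ⁻¹ᵁ U) ⟶ Γ(X, f ⁻¹ᵁ U) :=
    f.toNormalization.appLE _ _ (by
      rw [← Scheme.Hom.comp_preimage, Scheme.Hom.toNormalization_fromNormalization])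
  have : IsIso e := by
    have he : f.toNormalization ⁻¹ᵁ f.fromNormalization ⁻¹ᵁ U = f ⁻¹ᵁ U := by
      rw [← Scheme.Hom.comp_preimage, Scheme.Hom.toNormalization_fromNormalization]
    have : e = f.toNormalization.app (f.fromNormalization ⁻¹ᵁ U) ≫ X.presheaf.map (eqToHom he.symm).op := by
      rw [Scheme.Hom.app_eq_appLE, Scheme.Hom.appLE_map]
    rw [this]
    infer_instance
  have hcomp : f.fromNormalization.app U ≫ e = f.app U := by
    simp only [e, Scheme.Hom.app_eq_appLE, Scheme.Hom.appLE_comp_appLE,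
      Scheme.Hom.toNormalization_fromNormalization]
  have h : f.fromNormalization.app U = f.app U ≫ inv e := by rw [← hcomp, Category.assoc, IsIso.hom_inv_id, Category.comp_id]
  rw [h, CommRingCat.hom_comp]
  exact (RingHom.Finite.of_surjective _ (ConcreteCategory.bijective_of_isIso (inv e)).2).comp
    (finite_app_of_proper f hPF hU)

end Groth.HensPair
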