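import Groth.Agent.HensPair.Couple
import Mathlib.AlgebraicGeometry.Limits
import Mathlib.AlgebraicGeometry.Morphisms.ClosedImmersion

/-! Disjoint unions of couples. -/

set_option autoImplicit false
universe u v w

namespace Groth.HensPair

open Topology

theorem ClopenBij.of_cover {ι : Type v} {W Y : Type u} [TopologicalSpace W] [TopologicalSpace Y]
    {q : W → Y} (hq : IsEmbedding q) {P : ι → Type u} [∀ j, TopologicalSpace (P j)]
    (p : ∀ j, P j → Y) (hp : ∀ j, IsOpenEmbedding (p j)) (hcov : ∀ y, ∃ j z, p j z = y)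
    (hdisj : ∀ j k z z', p j z = p k z' → j = k)
    {W' : ι → Type u} [∀ j, TopologicalSpace (W' j)] (q' : ∀ j, W' j → P j) (hq' : ∀ j, Continuous (q' j))
    (hr : ∀ j, Set.range (q' j) = p j ⁻¹' Set.range q) (h : ∀ j, ClopenBij (q' j)) : ClopenBij q := by
  classical
  intro V hV
  choose φ hφ using fun (j : ι) (x : W' j) => (show q' j x ∈ p j ⁻¹' Set.range q from hr j ▸ ⟨x, rfl⟩)
  have hφc : ∀ j, Continuous (φ j) := fun j => hq.continuous_iff.2 (by
    rw [show q ∘ φ j = p j ∘ q' j from funext (hφ j)]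
    exact (hp j).continuous.comp (hq' j))
  choose U hU huniq using fun j => h j (φ j ⁻¹' V) (hV.preimage (hφc j))
  let T : Set Y := ⋃ j, p j '' U j
  have hT : ∀ j, p j ⁻¹' T = U j := fun j => by
    ext z
    refine ⟨fun hz => ?_, fun hz => Set.mem_iUnion.2 ⟨j, z, hz, rfl⟩⟩
    obtain ⟨k, z', hz', he⟩ := Set.mem_iUnion.1 hz
    obtain rfl := hdisj _ _ _ _ he
    rwa [← (hp k).injective he]
  have hc : Tᶜ = ⋃ j, p j '' (U j)ᶜ := by
    ext y
    obtain ⟨j, z, rfl⟩ := hcov y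
    rw [Set.mem_compl_iff, ← Set.mem_preimage, hT, Set.mem_iUnion]
    refine ⟨fun hz => ⟨j, z, hz, rfl⟩, ?_⟩
    rintro ⟨k, z', hz', he⟩
    obtain rfl := hdisj _ _ _ _ he
    rwa [← (hp k).injective he]
  refine ⟨T, ⟨⟨⟨?_⟩, isOpen_iUnion fun j => (hp j).isOpenMap _ (hU j).1.isOpen⟩, ?_⟩, fun U' hU' => ?_⟩
  · rw [hc]; exact isOpen_iUnion fun j => (hp j).isOpenMap _ (hU j).1.isClosed.isOpen_compl
  · ext w
    obtain ⟨j, z, hz⟩ := hcov (q w)
    obtain ⟨x, rfl⟩ : z ∈ Set.range (q' j) := by rw [hr j]; exact ⟨w, hz.symm⟩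
    obtain rfl := hq.injective ((hφ j x).trans hz)
    rw [Set.mem_preimage, hφ j x, ← Set.mem_preimage, hT, ← Set.mem_preimage, (hU j).2]
    rfl
  · have h2 : ∀ j, p j ⁻¹' U' = U j := fun j => huniq j _ ⟨hU'.1.preimage (hp j).continuous, by
      rw [← hU'.2]; ext x
      rw [Set.mem_preimage, Set.mem_preimage, Set.mem_preimage, Set.mem_preimage, hφ j x]⟩
    ext y
    obtain ⟨j, z, rfl⟩ := hcov y
    rw [← Set.mem_preimage, h2, ← hT]
    rfl

open AlgebraicGeometry CategoryTheory Limits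

variable {ι : Type u} {X X₀ : ι → Scheme.{u}} (i : ∀ j, X₀ j ⟶ X j)

theorem preimage_range_sigmaMap (j : ι) :
    (Sigma.ι X j).base ⁻¹' Set.range (Limits.Sigma.map i).base = Set.range (i j).base := by
  ext y
  constructor
  · rintro ⟨z, hz⟩
    obtain ⟨⟨k, w⟩, rfl⟩ := (sigmaMk X₀).surjective z
    rw [sigmaMk_mk, ← Scheme.Hom.comp_apply, Limits.Sigma.ι_map, Scheme.Hom.comp_apply] at hz
    obtain ⟨rfl, hy⟩ := Sigma.mk.inj_iff.1 ((sigmaι_eq_iff X k j _ y).1 hz)
    exact ⟨w, eq_of_heq hy⟩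
  · rintro ⟨w, rfl⟩
    refine ⟨(Sigma.ι X₀ j).base w, ?_⟩
    rw [← Scheme.Hom.comp_apply, Limits.Sigma.ι_map, Scheme.Hom.comp_apply]

theorem isClosedImmersion_sigmaMap [∀ j, IsClosedImmersion (i j)] : IsClosedImmersion (Limits.Sigma.map i) := by
  have : SurjectiveOnStalks (Limits.Sigma.map i) := by
    refine IsZariskiLocalAtSource.of_openCover (sigmaOpenCover X₀) fun (j : ι) => ?_
    show SurjectiveOnStalks (Sigma.ι X₀ j ≫ Limits.Sigma.map i)
    rw [Limits.Sigma.ι_map]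
    infer_instance
  have he : (Limits.Sigma.map i).base ∘ sigmaMk X₀ = sigmaMk X ∘ _root_.Sigma.map id (fun j => ⇑(i j).base) := by
    funext ⟨j, w⟩
    show (Limits.Sigma.map i).base (sigmaMk X₀ ⟨j, w⟩) = sigmaMk X ⟨j, (i j).base w⟩
    rw [sigmaMk_mk, sigmaMk_mk, ← Scheme.Hom.comp_apply, Limits.Sigma.ι_map, Scheme.Hom.comp_apply]
  have hcl : IsClosedEmbedding (_root_.Sigma.map (β₁ := fun j => ↥(X₀ j)) (β₂ := fun j => ↥(X j)) id fun j => ⇑(i j).base) := by
    refine ⟨(isEmbedding_sigmaMap Function.injective_id).2 fun j => (i j).isClosedEmbedding.isEmbedding, ?_⟩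
    refine isClosed_sigma_iff.2 fun j => ?_
    convert (i j).isClosedEmbedding.isClosed_range using 1
    ext y
    constructor
    · rintro ⟨⟨k, w⟩, hw⟩
      obtain ⟨rfl, hy⟩ := Sigma.mk.inj_iff.1 hw
      exact ⟨w, eq_of_heq hy⟩
    · rintro ⟨w, rfl⟩
      exact ⟨⟨j, w⟩, rfl⟩
  have h2 : IsClosedEmbedding (Limits.Sigma.map i).base := by
    have := (((sigmaMk X).isClosedEmbedding.comp hcl).comp (sigmaMk X₀).symm.isClosedEmbedding)
    rw [← he] at this
    convert this using 1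
    funext x
    simp
  exact ⟨h2⟩

theorem isClosedImmersion_sigmaι (j : ι) : IsClosedImmersion (Sigma.ι X j) := by
  refine .of_isPreimmersion _ ?_
  have : Set.range (Sigma.ι X j).base = sigmaMk X '' Set.range (_root_.Sigma.mk j) := by
    rw [← Set.range_comp]
    exact congrArg Set.range (funext fun x => (sigmaMk_mk X j x).symm)
  rw [this]
  exact (sigmaMk X).isClosedMap _ isClosed_range_sigmaMk

end Groth.HensPair
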