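import Groth.Agent.HensPair.Colimit
import Groth.Agent.Hensel1.Local
import Groth.Prelude.Def_Hens2

/-!
# Universal property of the henselization of a pair, and its consequences
-/

namespace Groth.HensPair

universe u

open TensorProduct Hens2

variable {A : Type u} [CommRing A] {I : Ideal A}

/-- An etale neighbourhood maps uniquely to every henselian pair under `(A, I)`. -/
theorem IsNbhd.existsUnique_algHom {A' : Type u} [CommRing A'] [Algebra A A'] (h : IsNbhd I A')
    {C : Type u} [CommRing C] [Algebra A C] (J : Ideal C) [HenselianRing C J]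
    (hJ : I.map (algebraMap A C) ≤ J) : ∃! _g : A' →ₐ[A] C, True := by
  have := h.etale
  have hG : Groth.Hensel1.Gabber J := Groth.Hensel1.gabber_of_henselianRing
  let q : A ⧸ I →ₐ[A] C ⧸ J := Ideal.Quotient.liftₐ I (Algebra.ofId A (C ⧸ J)) fun a ha => by
    show Ideal.Quotient.mk J (algebraMap A C a) = 0
    exact Ideal.Quotient.eq_zero_iff_mem.2 (hJ (Ideal.mem_map_of_mem _ ha))
  obtain ⟨σ⟩ := h.exists_hom
  let σ' : C ⊗[A] A' →ₐ[C] C ⧸ J :=
    Algebra.TensorProduct.lift (Algebra.ofId C (C ⧸ J)) (q.comp σ) fun _ _ => Commute.all _ _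
  obtain ⟨τ, hτ⟩ := Groth.Hensel1.exists_etale_lift hG σ'
  refine ⟨(τ.restrictScalars A).comp Algebra.TensorProduct.includeRight, trivial, fun g _ => ?_⟩
  have hcong : ∀ g₁ g₂ : A' →ₐ[A] C, ∀ x, g₁ x - g₂ x ∈ J := by
    intro g₁ g₂ x
    obtain ⟨a, ha⟩ := h.surj x
    have h1 := hJ (algHom_map_le g₁ ha)
    have h2 := hJ (algHom_map_le g₂ ha)
    rw [map_sub, AlgHom.commutes] at h1 h2
    simpa using sub_mem h1 h2
  let G : ∀ g₁ : A' →ₐ[A] C, C ⊗[A] A' →ₐ[C] C := fun g₁ =>
    Algebra.TensorProduct.lift (AlgHom.id C C) g₁ fun _ _ => Commute.all _ _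
  have key : G g = G ((τ.restrictScalars A).comp Algebra.TensorProduct.includeRight) := by
    refine Groth.Hensel1.algHom_eq_of_mk_eq hG.jac fun z => ?_
    induction z with
    | zero => simp
    | add z₁ z₂ h₁ h₂ => rw [map_add, map_add, add_sub_add_comm]; exact add_mem h₁ h₂
    | tmul c x =>
      simp only [G, Algebra.TensorProduct.lift_tmul, AlgHom.id_apply, ← mul_sub]
      exact Ideal.mul_mem_left _ _ (hcong _ _ x)
  refine AlgHom.ext fun x => ?_
  simpa [G] using DFunLike.congr_fun key ((1 : C) ⊗ₜ[A] x)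

/-- An etale neighbourhood has at most one map to a henselian pair under `(A, I)`. -/
theorem IsNbhd.algHom_unique {A' : Type u} [CommRing A'] [Algebra A A'] (h : IsNbhd I A')
    {C : Type u} [CommRing C] [Algebra A C] (J : Ideal C) [HenselianRing C J]
    (hJ : I.map (algebraMap A C) ≤ J) (g₁ g₂ : A' →ₐ[A] C) : g₁ = g₂ :=
  (h.existsUnique_algHom J hJ).unique trivial trivial

theorem IsNbhd.nonempty_algHom {A' : Type u} [CommRing A'] [Algebra A A'] (h : IsNbhd I A')
    {C : Type u} [CommRing C] [Algebra A C] (J : Ideal C) [HenselianRing C J]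
    (hJ : I.map (algebraMap A C) ≤ J) : Nonempty (A' →ₐ[A] C) :=
  ⟨(h.existsUnique_algHom J hJ).choose⟩

variable (I) in
/-- The colimit of the etale neighbourhoods is the henselization of the pair. -/
theorem isPairHenselization : IsPairHenselization A I (Hz I) := by
  refine ⟨henselianRing I, fun C _ J f hC hJ => ?_⟩
  let _ := f.toAlgebra
  obtain ⟨g, -⟩ := exists_desc (fun i : Idx I => (i.isNbhd.nonempty_algHom J hJ).some)
    fun i j φ => i.isNbhd.algHom_unique J hJ _ _
  refine ⟨g, g.comp_algebraMap, fun g' hg' => ?_⟩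
  let g'' : Hz I →ₐ[A] C := { g' with commutes' := fun a => RingHom.congr_fun hg' a }
  exact congrArg AlgHom.toRingHom
    (hom_ext (g := g'') (g' := g) fun i => i.isNbhd.algHom_unique J hJ _ _)

/-- Any two henselizations of a pair are isomorphic. -/
theorem nonempty_algEquiv {B B' : Type u} [CommRing B] [Algebra A B] [CommRing B'] [Algebra A B']
    (hB : IsPairHenselization A I B) (hB' : IsPairHenselization A I B') :
    Nonempty (B ≃ₐ[A] B') := by
  obtain ⟨f, hf, -⟩ := hB.2 B' _ (algebraMap A B') hB'.1 le_rfl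
  obtain ⟨g, hg, -⟩ := hB'.2 B _ (algebraMap A B) hB.1 le_rfl
  refine ⟨AlgEquiv.ofAlgHom { f with commutes' := fun a => RingHom.congr_fun hf a }
    { g with commutes' := fun a => RingHom.congr_fun hg a } ?_ ?_⟩
  · refine AlgHom.coe_ringHom_injective ?_
    exact (hB'.2 B' _ (algebraMap A B') hB'.1 le_rfl).unique
      (show (f.comp g).comp (algebraMap A B') = _ by rw [RingHom.comp_assoc, hg, hf])
      (RingHom.id_comp _)
  · refine AlgHom.coe_ringHom_injective ?_
    exact (hB.2 B _ (algebraMap A B) hB.1 le_rfl).unique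
      (show (g.comp f).comp (algebraMap A B) = _ by rw [RingHom.comp_assoc, hf, hg])
      (RingHom.id_comp _)

/-- A henselization of a pair, transported along an isomorphism. -/
theorem isPairHenselization_of_algEquiv {B B' : Type u} [CommRing B] [Algebra A B] [CommRing B']
    [Algebra A B'] (e : B ≃ₐ[A] B') (hB : IsPairHenselization A I B) :
    IsPairHenselization A I B' := by
  have h1 := hB.1
  refine ⟨?_, fun C _ J f hC hJ => ?_⟩
  · let _ := e.toAlgHom.toRingHom.toAlgebra
    have : Module.Finite B B' := Module.Finite.of_surjective (Algebra.linearMap B B') e.surjective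
    have h2 := Groth.Hensel1.henselianRing_of_isIntegral (A := B) (I := I.map (algebraMap A B)) B'
    rwa [Ideal.map_map, show (algebraMap B B').comp (algebraMap A B) = algebraMap A B' from
      e.toAlgHom.comp_algebraMap] at h2
  · obtain ⟨g, hg, hu⟩ := hB.2 C J f hC hJ
    refine ⟨g.comp e.symm.toAlgHom.toRingHom, ?_, fun g' hg' => ?_⟩
    · show RingHom.comp (RingHom.comp _ _) _ = _
      rw [RingHom.comp_assoc, AlgHom.toRingHom_eq_coe, e.symm.toAlgHom.comp_algebraMap, hg]
    · rw [← hu (g'.comp e.toAlgHom.toRingHom) (by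
        show RingHom.comp (RingHom.comp _ _) _ = _
        rw [RingHom.comp_assoc, AlgHom.toRingHom_eq_coe, e.toAlgHom.comp_algebraMap]; exact hg'),
        RingHom.comp_assoc]
      ext x
      simp

section

variable {B : Type u} [CommRing B] [Algebra A B] (hB : IsPairHenselization A I B)

include hB

/-- A henselization of a pair is the colimit of the etale neighbourhoods. -/
theorem nonempty_algEquiv_hz : Nonempty (Hz I ≃ₐ[A] B) :=
  nonempty_algEquiv (isPairHenselization I) hB

theorem flat_of_isPairHenselization : Module.Flat A B :=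
  have := flat I
  Module.Flat.of_linearEquiv (nonempty_algEquiv_hz hB).some.symm.toLinearEquiv

theorem exists_isNbhd_of_mem (x : B) : ∃ (A' : Type u) (_ : CommRing A') (_ : Algebra A A'),
    IsNbhd I A' ∧ ∃ (φ : A' →ₐ[A] B) (s : A'), φ s = x := by
  obtain ⟨e⟩ := nonempty_algEquiv_hz hB
  obtain ⟨i, y, hy⟩ := exists_of (e.symm x)
  exact ⟨i.Obj, inferInstance, inferInstance, i.isNbhd, e.toAlgHom.comp (of I i), y, by simp [hy]⟩

theorem quotientMap_bijective_of_isPairHenselization : Function.Bijective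
    (Ideal.quotientMap (I.map (algebraMap A B)) (algebraMap A B) Ideal.le_comap_map) := by
  obtain ⟨e⟩ := nonempty_algEquiv_hz hB
  obtain ⟨σ⟩ := exists_toQuotient I
  constructor
  · rw [injective_iff_map_eq_zero]
    intro y hy
    obtain ⟨a, rfl⟩ := Ideal.Quotient.mk_surjective y
    rw [Ideal.quotientMap_mk, Ideal.Quotient.eq_zero_iff_mem] at hy
    have := algHom_quotient_eq_zero (σ.comp e.symm.toAlgHom) hy
    rwa [AlgHom.commutes] at this
  · intro y
    obtain ⟨x, rfl⟩ := Ideal.Quotient.mk_surjective y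
    obtain ⟨a, ha⟩ := surj I (e.symm x)
    refine ⟨Ideal.Quotient.mk I a, ?_⟩
    rw [Ideal.quotientMap_mk, Ideal.Quotient.eq, ← neg_sub, neg_mem_iff]
    simpa using algHom_map_le e.toAlgHom ha

theorem exists_sub_mem (x : B) : ∃ a : A, x - algebraMap A B a ∈ I.map (algebraMap A B) := by
  obtain ⟨y, hy⟩ := (quotientMap_bijective_of_isPairHenselization hB).2 (Ideal.Quotient.mk _ x)
  obtain ⟨a, rfl⟩ := Ideal.Quotient.mk_surjective y
  rw [Ideal.quotientMap_mk] at hy
  exact ⟨a, Ideal.Quotient.eq.1 hy.symm⟩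

end

end Groth.HensPair
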