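import Groth.Agent.HensPair.Universal

/-!
# Operations on henselizations of pairs
-/

namespace Groth.HensPair

universe u

open Hens2

variable {A : Type u} [CommRing A] {I : Ideal A}

/-- A henselization of `(A, I)` is a henselization of every etale neighbourhood mapping to it. -/
theorem isPairHenselization_of_isNbhd {B : Type u} [CommRing B] [Algebra A B]
    (hB : IsPairHenselization A I B) {A' : Type u} [CommRing A'] [Algebra A A'] (h : IsNbhd I A')
    [Algebra A' B] [IsScalarTower A A' B] :
    IsPairHenselization A' (I.map (algebraMap A A')) B := by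
  refine ⟨by rw [Ideal.map_map, ← IsScalarTower.algebraMap_eq]; exact hB.1, fun C _ J f hC hJ => ?_⟩
  let _ := (f.comp (algebraMap A A')).toAlgebra
  have hJ' : I.map (algebraMap A C) ≤ J := by
    rw [Ideal.map_map] at hJ; exact hJ
  obtain ⟨g, hg, hu⟩ := hB.2 C J (algebraMap A C) hC hJ'
  refine ⟨g, ?_, fun g' hg' => hu g' ?_⟩
  · exact congrArg AlgHom.toRingHom (h.algHom_unique J hJ'
      { g.comp (algebraMap A' B) with
        commutes' := fun a => by
          show g (algebraMap A' B (algebraMap A A' a)) = algebraMap A C a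
          rw [← IsScalarTower.algebraMap_apply]
          exact RingHom.congr_fun hg a }
      { f with commutes' := fun _ => rfl })
  · show RingHom.comp g' (algebraMap A B) = algebraMap A C
    rw [IsScalarTower.algebraMap_eq A A' B, ← RingHom.comp_assoc, hg']
    rfl

/-- A quotient of a henselization is a henselization of the quotient. -/
theorem isPairHenselization_quotient {B : Type u} [CommRing B] [Algebra A B]
    (hB : IsPairHenselization A I B) (K : Ideal A) (L : Ideal B)
    (hKL : L = K.map (algebraMap A B)) [Algebra (A ⧸ K) (B ⧸ L)]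
    (hcomp : (algebraMap (A ⧸ K) (B ⧸ L)).comp (Ideal.Quotient.mk K) =
      (Ideal.Quotient.mk L).comp (algebraMap A B)) :
    IsPairHenselization (A ⧸ K) (I.map (Ideal.Quotient.mk K)) (B ⧸ L) := by
  refine ⟨?_, fun C _ J f hC hJ => ?_⟩
  · have := hB.1
    have h := Groth.Hensel1.henselianRing_quotient (I := I.map (algebraMap A B)) L
    rwa [Ideal.map_map, ← hcomp, ← Ideal.map_map] at h
  · obtain ⟨g, hg, hu⟩ := hB.2 C J (f.comp (Ideal.Quotient.mk K)) hC (by rwa [← Ideal.map_map])
    have hL : L ≤ RingHom.ker g := by
      rw [hKL, Ideal.map_le_iff_le_comap]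
      intro x hx
      rw [Ideal.mem_comap, RingHom.mem_ker, ← RingHom.comp_apply, hg, RingHom.comp_apply,
        Ideal.Quotient.eq_zero_iff_mem.2 hx, map_zero]
    refine ⟨Ideal.Quotient.lift L g fun x hx => RingHom.mem_ker.1 (hL hx), ?_, fun g' hg' => ?_⟩
    · refine Ideal.Quotient.ringHom_ext ?_
      show RingHom.comp (RingHom.comp _ _) _ = _
      rw [RingHom.comp_assoc, hcomp, ← RingHom.comp_assoc, Ideal.Quotient.lift_comp_mk, hg]
    · refine Ideal.Quotient.ringHom_ext ?_
      rw [Ideal.Quotient.lift_comp_mk]
      refine hu _ ?_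
      show RingHom.comp (RingHom.comp _ _) _ = _
      rw [RingHom.comp_assoc, ← hcomp, ← RingHom.comp_assoc, hg']

/-- A henselization receives compatible maps from an etale neighbourhood containing finitely many
given elements. -/
theorem exists_isNbhd_of_finite {B : Type u} [CommRing B] [Algebra A B]
    (hB : IsPairHenselization A I B) {ι : Type*} [Finite ι] (x : ι → B) :
    ∃ (A' : Type u) (_ : CommRing A') (_ : Algebra A A') (φ : A' →ₐ[A] B) (s : ι → A'),
      IsNbhd I A' ∧ ∀ k, φ (s k) = x k := by
  obtain ⟨e⟩ := nonempty_algEquiv_hz hB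
  obtain ⟨i, y, hy⟩ := exists_of_fintype fun k => e.symm (x k)
  exact ⟨i.Obj, inferInstance, inferInstance, e.toAlgHom.comp (of I i), y, i.isNbhd,
    fun k => by simp [hy k]⟩

/-- Two ring maps out of a henselization agreeing on the base are equal. -/
theorem ringHom_ext_of_isPairHenselization {B : Type u} [CommRing B] [Algebra A B]
    (hB : IsPairHenselization A I B) {C : Type u} [CommRing C] (J : Ideal C) [HenselianRing C J]
    {g₁ g₂ : B →+* C} (h : g₁.comp (algebraMap A B) = g₂.comp (algebraMap A B))
    (hJ : I.map (g₁.comp (algebraMap A B)) ≤ J) : g₁ = g₂ :=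
  (hB.2 C J _ inferInstance hJ).unique rfl h.symm

end Groth.HensPair
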