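import Groth.Agent.HensPair.Universal
import Mathlib.RingTheory.TensorProduct.Quotient
import Mathlib.RingTheory.Smooth.Flat

/-!
# Truncations `B ⧸ I^r B` of a henselization of a pair
-/

namespace Groth.HensPair

universe u

open Hens2 TensorProduct

section

variable {R : Type u} [CommRing R] {J : Ideal R} {B : Type u} [CommRing B] [Algebra R B]

/-- `R ⧸ J^r → B ⧸ J^r B` is bijective for a henselization `B` of `(R, J)`. -/
theorem quotPow_bijective (hB : IsPairHenselization R J B) (r : ℕ) : Function.Bijective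
    (Ideal.quotientMap ((J ^ r).map (algebraMap R B)) (algebraMap R B) Ideal.le_comap_map) := by
  rcases Nat.eq_zero_or_pos r with rfl | hr
  · have h1 : Subsingleton (R ⧸ J ^ 0) := Ideal.Quotient.subsingleton_iff.2 (by simp)
    have h2 : Subsingleton (B ⧸ (J ^ 0).map (algebraMap R B)) :=
      Ideal.Quotient.subsingleton_iff.2 (by simp [Ideal.one_eq_top, Ideal.map_top])
    exact ⟨fun _ _ _ => Subsingleton.elim _ _, fun _ => ⟨0, Subsingleton.elim _ _⟩⟩
  have hhen : HenselianRing (R ⧸ J ^ r) (J.map (Ideal.Quotient.mk (J ^ r))) :=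
    Groth.Hensel1.henselianRing_of_forall_isNilpotent fun x hx => ⟨r, by
      have := Ideal.pow_mem_pow hx r
      rw [← Ideal.map_pow, Ideal.map_quotient_self] at this
      simpa using this⟩
  obtain ⟨g, hg, -⟩ := hB.2 _ _ (Ideal.Quotient.mk (J ^ r)) hhen le_rfl
  constructor
  · rw [injective_iff_map_eq_zero]
    intro y hy
    obtain ⟨a, rfl⟩ := Ideal.Quotient.mk_surjective y
    rw [Ideal.quotientMap_mk, Ideal.Quotient.eq_zero_iff_mem] at hy
    have := Ideal.mem_map_of_mem g hy
    rw [Ideal.map_map, hg, Ideal.map_quotient_self, Ideal.mem_bot] at this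
    exact (RingHom.congr_fun hg a).symm.trans this
  · have key : ∀ (n : ℕ) (x : B), ∃ a : R, x - algebraMap R B a ∈ (J ^ n).map (algebraMap R B) := by
      intro n
      induction n with
      | zero => intro x; exact ⟨0, by simp [Ideal.one_eq_top, Ideal.map_top]⟩
      | succ n ih =>
        intro x
        obtain ⟨a, ha⟩ := ih x
        suffices h : ∀ z ∈ (J ^ n).map (algebraMap R B),
            ∃ b : R, z - algebraMap R B b ∈ (J ^ (n + 1)).map (algebraMap R B) by
          obtain ⟨b, hb⟩ := h _ ha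
          exact ⟨a + b, by rwa [map_add, ← sub_sub]⟩
        intro z hz
        rw [Ideal.map, ← Submodule.mem_toAddSubmonoid] at hz
        refine Submodule.span_induction (p := fun z _ => ∃ b : R,
          z - algebraMap R B b ∈ (J ^ (n + 1)).map (algebraMap R B)) ?_ ?_ ?_ ?_ hz
        · rintro _ ⟨y, -, rfl⟩
          exact ⟨y, by simp⟩
        · exact ⟨0, by simp⟩
        · rintro u v - - ⟨b, hb⟩ ⟨c, hc⟩
          exact ⟨b + c, by rw [map_add, add_sub_add_comm]; exact add_mem hb hc⟩
        · rintro c v hv ⟨b, hb⟩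
          obtain ⟨e, he⟩ := exists_sub_mem hB c
          refine ⟨e * b, ?_⟩
          have hv' : v ∈ (J ^ n).map (algebraMap R B) := hv
          have : c • v - algebraMap R B (e * b) =
              (c - algebraMap R B e) * v + algebraMap R B e * (v - algebraMap R B b) := by
            rw [smul_eq_mul, map_mul]; ring
          rw [this]
          refine add_mem ?_ (Ideal.mul_mem_left _ _ hb)
          rw [pow_succ', Ideal.map_mul]
          exact Ideal.mul_mem_mul he hv'
    intro y
    obtain ⟨x, rfl⟩ := Ideal.Quotient.mk_surjective y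
    obtain ⟨a, ha⟩ := key r x
    exact ⟨Ideal.Quotient.mk _ a, by rw [Ideal.quotientMap_mk]; exact (Ideal.Quotient.eq.2 ha).symm⟩

end

section Relative

variable {A : Type u} [CommRing A] (I : Ideal A) {R : Type u} [CommRing R] [Algebra A R]
  {B : Type u} [CommRing B] [Algebra R B] [Algebra A B] [IsScalarTower A R B]

/-- The truncations of a henselization of `(R, IR)` are those of `R`. -/
theorem nonempty_quotPow_algEquiv (hB : IsPairHenselization R (I.map (algebraMap A R)) B) (r : ℕ) :
    Nonempty ((R ⧸ (I ^ r).map (algebraMap A R)) ≃ₐ[A ⧸ I ^ r]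
      (B ⧸ (I ^ r).map (algebraMap A B))) := by
  have hb := quotPow_bijective hB r
  have hmap : ((I.map (algebraMap A R)) ^ r).map (algebraMap R B) = (I ^ r).map (algebraMap A B) := by
    rw [← Ideal.map_pow, Ideal.map_map, ← IsScalarTower.algebraMap_eq]
  have hle : (I ^ r).map (algebraMap A R) ≤
      ((I ^ r).map (algebraMap A B)).comap (IsScalarTower.toAlgHom A R B) := by
    rw [← hmap, ← Ideal.map_pow]; exact Ideal.le_comap_map
  let ψ : (R ⧸ (I ^ r).map (algebraMap A R)) →ₐ[A] (B ⧸ (I ^ r).map (algebraMap A B)) :=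
    Ideal.quotientMapₐ _ (IsScalarTower.toAlgHom A R B) hle
  have hψ : ∀ x : R, ψ (Ideal.Quotient.mk _ x) = Ideal.Quotient.mk _ (algebraMap R B x) :=
    fun x => rfl
  refine ⟨AlgEquiv.extendScalarsOfSurjective Ideal.Quotient.mk_surjective
    (AlgEquiv.ofBijective ψ ⟨?_, ?_⟩)⟩
  · rw [injective_iff_map_eq_zero]
    intro y hy
    obtain ⟨x, rfl⟩ := Ideal.Quotient.mk_surjective y
    rw [hψ, Ideal.Quotient.eq_zero_iff_mem, ← hmap] at hy
    rw [Ideal.Quotient.eq_zero_iff_mem, Ideal.map_pow, ← Ideal.Quotient.eq_zero_iff_mem]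
    refine hb.1 ?_
    rw [Ideal.quotientMap_mk, map_zero, Ideal.Quotient.eq_zero_iff_mem]
    exact hy
  · intro y
    obtain ⟨b, rfl⟩ := Ideal.Quotient.mk_surjective y
    obtain ⟨z, hz⟩ := hb.2 (Ideal.Quotient.mk _ b)
    obtain ⟨x, rfl⟩ := Ideal.Quotient.mk_surjective z
    refine ⟨Ideal.Quotient.mk _ x, ?_⟩
    rw [Ideal.quotientMap_mk, Ideal.Quotient.eq, hmap] at hz
    rw [hψ, Ideal.Quotient.eq]
    exact hz

theorem finitePresentation_quotPow [Algebra.FinitePresentation A R]
    (hB : IsPairHenselization R (I.map (algebraMap A R)) B) (r : ℕ) :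
    Algebra.FinitePresentation (A ⧸ I ^ r) (B ⧸ (I ^ r).map (algebraMap A B)) :=
  Algebra.FinitePresentation.equiv
    ((Algebra.TensorProduct.quotIdealMapEquivQuotTensor R (I ^ r)).symm.trans
      (nonempty_quotPow_algEquiv I hB r).some)

theorem etale_quotPow [Algebra.Etale A R] (hB : IsPairHenselization R (I.map (algebraMap A R)) B)
    (r : ℕ) : Algebra.Etale (A ⧸ I ^ r) (B ⧸ (I ^ r).map (algebraMap A B)) :=
  Algebra.Etale.of_equiv
    ((Algebra.TensorProduct.quotIdealMapEquivQuotTensor R (I ^ r)).symm.trans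
      (nonempty_quotPow_algEquiv I hB r).some)

theorem smooth_quotPow [Algebra.Smooth A R] (hB : IsPairHenselization R (I.map (algebraMap A R)) B)
    (r : ℕ) : Algebra.Smooth (A ⧸ I ^ r) (B ⧸ (I ^ r).map (algebraMap A B)) :=
  Algebra.Smooth.of_equiv
    ((Algebra.TensorProduct.quotIdealMapEquivQuotTensor R (I ^ r)).symm.trans
      (nonempty_quotPow_algEquiv I hB r).some)

end Relative

end Groth.HensPair
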