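import Groth.Agent.HensPair.ProperClopenNoeth
import Groth.Agent.HensPair.Universal
import Groth.Agent.Limits.OpenPullback
import Groth.Agent.SpectralTopology.NoethSystem
import Groth.Agent.Chow.General
import Groth.Agent.S1994

/-!
Clopen subsets of a proper scheme over a henselian pair are those of its closed fibre.

Existence is reduced by Chow's lemma to closed subsets of projective space, and these descend to the
henselization of a finitely generated subring.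
-/

set_option autoImplicit false
universe u

open CategoryTheory CategoryTheory.Limits AlgebraicGeometry TopologicalSpace

namespace Groth.HensPair

variable {A : Type u} [CommRing A] {X : Scheme.{u}}

theorem overV_anti (f : X ⟶ Spec (CommRingCat.of A)) {I J : Ideal A} (h : I ≤ J) :
    overV f J ⊆ overV f I :=
  fun _ hx => Set.Subset.trans (SetLike.coe_subset_coe.2 h) hx

/-- A closed subset of a scheme universally closed over a pair with `I` in the radical meets the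
closed fibre unless empty. -/
theorem eq_empty_of_inter_overV (f : X ⟶ Spec (CommRingCat.of A)) [UniversallyClosed f] {I : Ideal A}
    (hI : I ≤ Ideal.jacobson ⊥) {T : Set X} (hT : IsClosed T) (h : T ∩ overV f I = ∅) : T = ∅ := by
  by_contra hne
  obtain ⟨x, hx⟩ := Set.nonempty_iff_ne_empty.2 hne
  obtain ⟨M, hM, hle⟩ := Ideal.exists_le_maximal _ (f x).isPrime.ne_top
  obtain ⟨J, hJ⟩ := (PrimeSpectrum.isClosed_iff_zeroLocus _).1 (f.isClosedMap _ hT)
  have hp : (⟨M, hM.isPrime⟩ : PrimeSpectrum A) ∈ PrimeSpectrum.zeroLocus J := fun a ha => hle (by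
    have : f x ∈ PrimeSpectrum.zeroLocus J := hJ ▸ Set.mem_image_of_mem _ hx
    exact this ha)
  obtain ⟨y, hyT, hy⟩ := (hJ ▸ hp : (⟨M, hM.isPrime⟩ : PrimeSpectrum A) ∈ f '' T)
  refine (Set.eq_empty_iff_forall_notMem.1 h) y ⟨hyT, fun a ha => ?_⟩
  rw [hy]
  exact (show Ideal.jacobson ⊥ ≤ M from sInf_le ⟨bot_le, hM⟩) (hI ha)

/-- Clopens are determined by the closed fibre. -/
theorem clopen_eq_of_inter_overV (f : X ⟶ Spec (CommRingCat.of A)) [UniversallyClosed f] {I : Ideal A}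
    (hI : I ≤ Ideal.jacobson ⊥) {U U' : Set X} (hU : IsClopen U) (hU' : IsClopen U')
    (h : U ∩ overV f I = U' ∩ overV f I) : U = U' := by
  have key : ∀ V V' : Set X, IsClopen V → IsClopen V' → V ∩ overV f I = V' ∩ overV f I → V ⊆ V' := by
    intro V V' hV hV' h x hx
    by_contra hx'
    exact Set.eq_empty_iff_forall_notMem.1 (eq_empty_of_inter_overV f hI (hV.1.inter hV'.compl.1)
      (Set.eq_empty_iff_forall_notMem.2 fun y ⟨⟨hy, hy'⟩, hyI⟩ => hy' (h.le ⟨hy, hyI⟩).1)) x ⟨hx, hx'⟩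
  exact (key U U' hU hU' h).antisymm (key U' U hU' hU h.symm)

theorem exists_isCompact_open_between {Z : Scheme.{u}} {K F : Set Z} (hK : IsCompact K) (hF : IsClosed F)
    (h : K ∩ F = ∅) : ∃ O : Z.Opens, IsCompact (O : Set Z) ∧ K ⊆ O ∧ (O : Set Z) ∩ F = ∅ := by
  classical
  obtain ⟨t, ht⟩ := hK.elim_finite_subcover
    (fun U : {U : Z.affineOpens // ((U.1 : Z.Opens) : Set Z) ⊆ Fᶜ} => ((U.1.1 : Z.Opens) : Set Z))
    (fun U => U.1.1.2) fun x hx => by
      have hxF : x ∈ Fᶜ := fun hxF => Set.eq_empty_iff_forall_notMem.1 h x ⟨hx, hxF⟩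
      obtain ⟨_, ⟨U, hU, rfl⟩, hxU, hUF⟩ :=
        Z.isBasis_affineOpens.exists_subset_of_mem_open hxF hF.isOpen_compl
      exact Set.mem_iUnion.2 ⟨⟨⟨U, hU⟩, hUF⟩, hxU⟩
  refine ⟨⟨⋃ U ∈ t, ((U.1.1 : Z.Opens) : Set Z), isOpen_biUnion fun U _ => U.1.1.2⟩,
    t.isCompact_biUnion fun U _ => U.1.2.isCompact, ht, ?_⟩
  refine Set.eq_empty_iff_forall_notMem.2 fun x ⟨hx, hxF⟩ => ?_
  obtain ⟨U, -, hxU⟩ := Set.mem_iUnion₂.1 hx
  exact U.2 hxU hxF

/-- A compact set missing the closed fibre misses the zero locus of finitely many elements. -/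
theorem exists_finset_overV (f : X ⟶ Spec (CommRingCat.of A)) (I : Ideal A) {K : Set X} (hK : IsCompact K)
    (h : K ∩ overV f I = ∅) : ∃ t : Finset A, ↑t ⊆ (I : Set A) ∧ K ∩ overV f (Ideal.span ↑t) = ∅ := by
  classical
  obtain ⟨t, ht⟩ := hK.elim_finite_subcover
    (fun a : {a // a ∈ I} => f.base ⁻¹' (PrimeSpectrum.basicOpen (a : A) : Set (PrimeSpectrum A)))
    (fun a => (PrimeSpectrum.basicOpen (a : A)).2.preimage f.continuous) fun x hx => by
      have hxI : x ∉ overV f I := fun hxI => Set.eq_empty_iff_forall_notMem.1 h x ⟨hx, hxI⟩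
      obtain ⟨a, ha, hax⟩ := Set.not_subset.1 hxI
      exact Set.mem_iUnion.2 ⟨⟨a, ha⟩, hax⟩
  refine ⟨t.image Subtype.val, ?_, ?_⟩
  · intro a ha
    obtain ⟨b, -, rfl⟩ := Finset.mem_image.1 (Finset.mem_coe.1 ha)
    exact b.2
  · refine Set.eq_empty_iff_forall_notMem.2 fun x ⟨hx, hxI⟩ => ?_
    obtain ⟨b, hb, hxb⟩ := Set.mem_iUnion₂.1 (ht hx)
    exact hxb (hxI (Ideal.subset_span (Finset.mem_coe.2 (Finset.mem_image_of_mem _ hb))))

instance isFiltered_fgSub (A : Type u) [CommRing A] :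
    IsFiltered (SpectralTopology.FGSub (CommRingCat.of A)) := by
  have : IsDirectedOrder (SpectralTopology.FGSub (CommRingCat.of A)) :=
    ⟨fun s t => ⟨⟨s.1 ⊔ t.1, s.2.sup t.2⟩, le_sup_left (a := s.1), le_sup_right (a := s.1)⟩⟩
  have : Nonempty (SpectralTopology.FGSub (CommRingCat.of A)) := ⟨⟨⊥, Subalgebra.fg_bot⟩⟩
  exact isFiltered_of_directed_le_nonempty _

/-- The projection of `Spec A` to a stage of the system of finitely generated subrings. -/
noncomputable abbrev stageProj (A : Type u) [CommRing A] (i : (SpectralTopology.FGSub (CommRingCat.of A))ᵒᵖ) :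
    Spec (CommRingCat.of A) ⟶ (SpectralTopology.fgSchemes (CommRingCat.of A)).obj i :=
  (SpectralTopology.fgCone (CommRingCat.of A)).π.app i

/-- Lifting for closed subsets of a scheme proper over the spectrum of a finitely generated subring. -/
theorem exists_closed_split (hPF : CohFin.ProjFinite.{u}) (I : Ideal A) [HenselianRing A I]
    (i : (SpectralTopology.FGSub (CommRingCat.of A))ᵒᵖ) {Y : Scheme.{u}}
    (a : Y ⟶ (SpectralTopology.fgSchemes (CommRingCat.of A)).obj i) [IsProper a]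
    (T P Q : Set ↥(pullback (stageProj A i) a))
    (hT : IsClosed T) (hP : IsClosed P) (hQ : IsClosed Q) (hPQ : P ∩ Q = ∅)
    (hcov : T ∩ overV (pullback.fst (stageProj A i) a) I = P ∪ Q) :
    ∃ W₁ W₂ : Set ↥(pullback (stageProj A i) a),
      IsClosed W₁ ∧ IsClosed W₂ ∧ T ⊆ W₁ ∪ W₂ ∧ T ∩ (W₁ ∩ W₂) = ∅ ∧ P ⊆ W₁ ∧ Q ⊆ W₂ := by
  classical
  let D := SpectralTopology.fgSchemes (CommRingCat.of A)
  let c := SpectralTopology.fgCone (CommRingCat.of A)
  let Z := pullback (stageProj A i) a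
  let p : Z ⟶ Spec (CommRingCat.of A) := pullback.fst _ _
  let Z₀ : Set Z := overV p I
  have : IsProper p := inferInstanceAs (IsProper (pullback.fst _ _))
  have : CompactSpace Z := QuasiCompact.compactSpace_of_compactSpace p
  have : QuasiSeparatedSpace Z := quasiSeparatedSpace_of_quasiSeparated p
  have hZ₀ : IsClosed Z₀ := isClosed_overV p I
  obtain ⟨O₁, hO₁, hQO₁, hPO₁⟩ := exists_isCompact_open_between hQ.isCompact hP
    (by rwa [Set.inter_comm])
  obtain ⟨O₂, hO₂, hO₂cov, hQO₂⟩ := exists_isCompact_open_between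
    (hZ₀.inter O₁.2.isClosed_compl).isCompact hQ
    (Set.eq_empty_iff_forall_notMem.2 fun x ⟨⟨_, hx⟩, hxQ⟩ => hx (hQO₁ hxQ))
  have hO₁₂ : IsCompact ((O₁ : Set Z) ∩ O₂) := hO₁.inter_of_isOpen hO₂ O₁.2 O₂.2
  obtain ⟨O₃, hO₃, hO₃cov, hTO₃⟩ := exists_isCompact_open_between (hO₁₂.inter_right hZ₀) hT
    (Set.eq_empty_iff_forall_notMem.2 fun x ⟨⟨⟨h1, h2⟩, hxI⟩, hxT⟩ => by
      rcases hcov.le ⟨hxT, hxI⟩ with h | h
      · exact Set.eq_empty_iff_forall_notMem.1 hPO₁ x ⟨h1, h⟩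
      · exact Set.eq_empty_iff_forall_notMem.1 hQO₂ x ⟨h2, h⟩)
  -- finitely many elements of the ideal
  obtain ⟨t₁, ht₁I, ht₁⟩ := exists_finset_overV p I (K := ((O₁ : Set Z) ∪ O₂)ᶜ)
    (O₁.2.union O₂.2).isClosed_compl.isCompact
    (Set.eq_empty_iff_forall_notMem.2 fun x ⟨hx, hxI⟩ => hx (by
      by_cases h : x ∈ O₁
      · exact Or.inl h
      · exact Or.inr (hO₂cov ⟨hxI, h⟩)))
  obtain ⟨t₂, ht₂I, ht₂⟩ := exists_finset_overV p I (K := ((O₁ : Set Z) ∩ O₂) ∩ (O₃ : Set Z)ᶜ)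
    (hO₁₂.inter_right O₃.2.isClosed_compl)
    (Set.eq_empty_iff_forall_notMem.2 fun x ⟨⟨hx, hx3⟩, hxI⟩ => hx3 (hO₃cov ⟨hx, hxI⟩))
  -- descend to a stage containing them
  have hDaff : ∀ (s t : (SpectralTopology.FGSub (CommRingCat.of A))ᵒᵖ) (φ : s ⟶ t), IsAffineHom (D.map φ) :=
    fun s t φ => SpectralTopology.isAffineHom_fgSchemes _ s t φ
  set F := Limits.pullbackDiagram D i a
  have hFaff : ∀ (j k : Over i) (φ : j ⟶ k), IsAffineHom (F.map φ) := fun j k φ =>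
    Limits.isAffineHom_pullbackDiagram_map D i a j k φ
  set cF := Limits.pullbackCone D i a c
  have hcF : IsLimit cF := Limits.isLimitPullbackCone D i a (SpectralTopology.isLimitFgCone (CommRingCat.of A))
  let s₀ : SpectralTopology.FGSub (CommRingCat.of A) :=
    ⟨i.unop.1 ⊔ Algebra.adjoin ℤ ((t₁ ∪ t₂ : Finset A) : Set A),
      i.unop.2.sup (Subalgebra.fg_adjoin_finset _)⟩
  let k₀ : Over i := Over.mk (homOfLE (le_sup_left (a := i.unop.1)
    (b := Algebra.adjoin ℤ ((t₁ ∪ t₂ : Finset A) : Set A))) : i.unop ⟶ s₀).op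
  obtain ⟨j₁, φ₁, V₁, hV₁, hV₁O⟩ := Limits.exists_isCompact_preimage_eq F cF hcF k₀ O₁ hO₁
  obtain ⟨j₂, φ₂, V₂, hV₂, hV₂O⟩ := Limits.exists_isCompact_preimage_eq F cF hcF j₁ O₂ hO₂
  obtain ⟨j₃, φ₃, V₃, hV₃, hV₃O⟩ := Limits.exists_isCompact_preimage_eq F cF hcF j₂ O₃ hO₃
  let W₁' : (F.obj j₃).Opens := F.map (φ₃ ≫ φ₂) ⁻¹ᵁ V₁
  let W₂' : (F.obj j₃).Opens := F.map φ₃ ⁻¹ᵁ V₂
  let π' : ∀ j : Over i, Z ⟶ F.obj j := fun j => cF.π.app j
  have hW₁O : (π' j₃).base ⁻¹' (W₁' : Set (F.obj j₃)) = (O₁ : Set Z) :=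
    (Limits.preimage_π F cF (φ₃ ≫ φ₂) _).trans hV₁O
  have hW₂O : (π' j₃).base ⁻¹' (W₂' : Set (F.obj j₃)) = (O₂ : Set Z) :=
    (Limits.preimage_π F cF φ₃ _).trans hV₂O
  have hV₃O' : (π' j₃).base ⁻¹' (V₃ : Set (F.obj j₃)) = (O₃ : Set Z) := hV₃O
  have hW₁c : IsCompact (W₁' : Set (F.obj j₃)) := Limits.isCompact_preimage_map F _ V₁.2 hV₁
  have hW₂c : IsCompact (W₂' : Set (F.obj j₃)) := Limits.isCompact_preimage_map F _ V₂.2 hV₂
  let S : Over i → Subalgebra ℤ A := fun j => j.left.unop.1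
  let J : ∀ j : Over i, Ideal (S j) := fun j => I.comap (S j).val
  let g : ∀ j : Over i, F.obj j ⟶ Spec (CommRingCat.of (S j)) := fun j => pullback.fst (D.map j.hom) a
  let pj : ∀ j : Over i, Spec (CommRingCat.of A) ⟶ Spec (CommRingCat.of (S j)) := fun j =>
    Spec.map (CommRingCat.ofHom (S j).val.toRingHom)
  have hgπ : ∀ j : Over i, π' j ≫ g j = p ≫ pj j := fun j => pullback.lift_fst _ _ _
  have hprop : ∀ j : Over i, IsProper (g j) := fun j => inferInstanceAs (IsProper (pullback.fst _ _))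
  have hcomp : ∀ j : Over i, CompactSpace (F.obj j) := fun j =>
    QuasiCompact.compactSpace_of_compactSpace (g j)
  have hqs : ∀ j : Over i, QuasiSeparatedSpace (F.obj j) := fun j =>
    quasiSeparatedSpace_of_quasiSeparated (g j)
  have hmemJ : ∀ (j : Over i) (x : Z), π' j x ∈ overV (g j) (J j) →
      ∀ b : S j, (b : A) ∈ I → (b : A) ∈ (p x).asIdeal := fun j x hx b hb => by
    have h1 : g j (π' j x) = pj j (p x) := congr($(hgπ j) x)
    have h2 : b ∈ (g j (π' j x)).asIdeal := hx hb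
    rw [h1] at h2
    exact h2
  have hs₀ : ∀ (j : Over i), (j ⟶ k₀) → ∀ b ∈ t₁ ∪ t₂, b ∈ S j := fun j ψ b hb =>
    (leOfHom ψ.left.unop) ((le_sup_right : Algebra.adjoin ℤ ((t₁ ∪ t₂ : Finset A) : Set A) ≤ i.unop.1 ⊔ _)
      (Algebra.subset_adjoin hb))
  have hψ : j₃ ⟶ k₀ := φ₃ ≫ φ₂ ≫ φ₁
  -- the two bad sets
  let E : Set (F.obj j₃) := (((W₁' : Set (F.obj j₃)) ∪ W₂')ᶜ ∩ overV (g j₃) (J j₃)) ∪
    (((W₁' : Set (F.obj j₃)) ∩ W₂') ∩ ((V₃ : Set (F.obj j₃))ᶜ ∩ overV (g j₃) (J j₃)))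
  have hE : Limits.QCImage E := by
    have := hqs j₃
    refine (Limits.pc_of_isClosed ((W₁'.2.union W₂'.2).isClosed_compl.inter (isClosed_overV _ _))).qcImage.union ?_
    exact (Limits.qcImage_isOpen_isCompact F (W₁' ⊓ W₂') (hW₁c.inter_of_isOpen hW₂c W₁'.2 W₂'.2)).inter_pc
      (Limits.pc_of_isClosed (V₃.2.isClosed_compl.inter (isClosed_overV _ _)))
  have hE0 : ⇑(cF.π.app j₃) ⁻¹' E = ∅ := by
    refine Set.eq_empty_iff_forall_notMem.2 fun (x : Z) hx => ?_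
    have hmem : ∀ t : Finset A, t ⊆ t₁ ∪ t₂ → (t : Set A) ⊆ I →
        π' j₃ x ∈ overV (g j₃) (J j₃) → x ∈ overV p (Ideal.span ↑t) := fun t ht htI h => by
      show (Ideal.span (t : Set A) : Set A) ⊆ (p x).asIdeal
      exact SetLike.coe_subset_coe.2 (Ideal.span_le.2 fun b hb =>
        hmemJ j₃ x h ⟨b, hs₀ j₃ hψ b (ht hb)⟩ (htI hb))
    rcases hx with ⟨h1, h2⟩ | ⟨⟨h1, h1'⟩, h3, h2⟩
    · refine Set.eq_empty_iff_forall_notMem.1 ht₁ x ⟨fun hx => h1 ?_, hmem t₁ Finset.subset_union_left ht₁I h2⟩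
      rw [← hW₁O, ← hW₂O] at hx
      exact hx
    · refine Set.eq_empty_iff_forall_notMem.1 ht₂ x
        ⟨⟨⟨(hW₁O.le h1 :), (hW₂O.le h1' :)⟩, fun hx => h3 ?_⟩, hmem t₂ Finset.subset_union_right ht₂I h2⟩
      rw [← hV₃O'] at hx
      exact hx
  obtain ⟨k, φ, hk⟩ := Limits.exists_preimage_eq_empty F cF hcF hE hE0
  -- the henselization of the subring
  have : Algebra.FiniteType ℤ (S k) := (S k).fg_iff_finiteType.1 k.left.unop.2
  have : IsNoetherianRing (S k) := Algebra.FiniteType.isNoetherianRing ℤ _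
  let H := Hz (J k)
  let JH : Ideal H := (J k).map (algebraMap (S k) H)
  have hH := isPairHenselization (I := J k)
  have : IsNoetherianRing H := (Groth.Agent.S1994.result (S k) (J k) H hH).1
  have : HenselianRing H JH := hH.1
  obtain ⟨ρ, hρ, -⟩ := hH.2 A I (S k).val.toRingHom inferInstance Ideal.map_comap_le
  let aH : Spec (CommRingCat.of H) ⟶ Spec (CommRingCat.of (S k)) :=
    Spec.map (CommRingCat.ofHom (algebraMap (S k) H))
  let YH := pullback aH (g k)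
  let q : YH ⟶ Spec (CommRingCat.of H) := pullback.fst _ _
  let b : YH ⟶ F.obj k := pullback.snd _ _
  let β : Z ⟶ YH := pullback.lift (p ≫ Spec.map (CommRingCat.ofHom ρ)) (π' k) (by
    rw [hgπ, Category.assoc]
    congr 1
    show Spec.map (CommRingCat.ofHom ρ) ≫ Spec.map (CommRingCat.ofHom (algebraMap (S k) H)) = _
    rw [← Spec.map_comp, ← CommRingCat.ofHom_comp, hρ])
  have hβq : β ≫ q = p ≫ Spec.map (CommRingCat.ofHom ρ) := pullback.lift_fst _ _ _
  have hβb : β ≫ b = π' k := pullback.lift_snd _ _ _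
  have hb : ∀ y, y ∈ overV q JH → b y ∈ overV (g k) (J k) := fun y hy x hx => by
    have h1 : g k (b y) = aH (q y) := by
      rw [← Scheme.Hom.comp_apply, ← Scheme.Hom.comp_apply, pullback.condition]
    rw [h1]
    exact hy (Ideal.mem_map_of_mem _ hx)
  have hg : ∀ y : F.obj k, y ∈ overV (g k) (J k) → F.map φ y ∈ overV (g j₃) (J j₃) := fun y hy x hx => by
    have h1 : g j₃ (F.map φ y) = D.map φ.left (g k y) := by
      exact congr($((pullback.lift_fst _ _ _ : F.map φ ≫ g j₃ = g k ≫ D.map φ.left)) y)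
    rw [h1]
    exact hy (show (⟨(x : A), _⟩ : S k) ∈ J k from hx)
  let bb : YH ⟶ F.obj j₃ := b ≫ F.map φ
  have hbad : ∀ y ∈ overV q JH, bb y ∉ E := fun y hy hE' =>
    Set.eq_empty_iff_forall_notMem.1 hk (b y) hE'
  have hbbO : ∀ y, y ∈ overV q JH → bb y ∈ overV (g j₃) (J j₃) := fun y hy => hg _ (hb y hy)
  let TH : Closeds YH := ⟨bb ⁻¹' (V₃ : Set (F.obj j₃))ᶜ, V₃.2.isClosed_compl.preimage bb.continuous⟩
  let 𝓘 := Scheme.IdealSheafData.vanishingIdeal TH
  let XH := 𝓘.subscheme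
  have : IsProper q := inferInstanceAs (IsProper (pullback.fst _ _))
  have : IsProper (𝓘.subschemeι ≫ q) := inferInstance
  let P' : Set XH := {y | 𝓘.subschemeι y ∈ overV q JH ∧ bb (𝓘.subschemeι y) ∉ W₁'}
  let Q' : Set XH := {y | 𝓘.subschemeι y ∈ overV q JH ∧ bb (𝓘.subschemeι y) ∉ W₂'}
  have hsupp : Set.range 𝓘.subschemeι = (TH : Set YH) := by
    rw [Scheme.IdealSheafData.range_subschemeι]
    simp [𝓘]
  have hT3 : ∀ y : XH, bb (𝓘.subschemeι y) ∉ V₃ := fun y => hsupp.le ⟨y, rfl⟩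
  obtain ⟨W, hW, hPW, hQW⟩ := exists_clopen_of_noetherian hPF JH (𝓘.subschemeι ≫ q) P' Q'
    (((isClosed_overV q JH).preimage 𝓘.subschemeι.continuous).inter
      (W₁'.2.isClosed_compl.preimage (bb.continuous.comp 𝓘.subschemeι.continuous)))
    (((isClosed_overV q JH).preimage 𝓘.subschemeι.continuous).inter
      (W₂'.2.isClosed_compl.preimage (bb.continuous.comp 𝓘.subschemeι.continuous)))
    (Set.eq_empty_iff_forall_notMem.2 fun y ⟨⟨hy, h1⟩, ⟨_, h2⟩⟩ =>
      hbad _ hy (Or.inl ⟨fun h => h.elim h1 h2, hbbO _ hy⟩))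
    (Set.Subset.antisymm (fun y hy => hy.elim (fun h => h.1) (fun h => h.1)) fun y hy => by
      by_cases h1 : bb (𝓘.subschemeι y) ∈ W₁'
      · by_cases h2 : bb (𝓘.subschemeι y) ∈ W₂'
        · exact absurd (Or.inr ⟨⟨h1, h2⟩, hT3 y, hbbO _ hy⟩) (hbad _ hy)
        · exact Or.inr ⟨hy, h2⟩
      · exact Or.inl ⟨hy, h1⟩)
  have hcl : IsClosedMap 𝓘.subschemeι := 𝓘.subschemeι.isClosedEmbedding.isClosedMap
  have hbbβ : ∀ x : Z, bb (β x) = π' j₃ x := fun x => by
    have h : β ≫ bb = π' j₃ :=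
      (Category.assoc β b _).symm.trans ((congrArg (· ≫ F.map φ) hβb).trans (cF.w φ))
    exact congr($(h) x)
  have hlift : ∀ x ∈ T, ∃ y : XH, 𝓘.subschemeι y = β x := fun x hx => by
    refine hsupp.ge (show bb (β x) ∉ V₃ from fun h => ?_)
    rw [hbbβ] at h
    exact Set.eq_empty_iff_forall_notMem.1 hTO₃ x ⟨(hV₃O'.le h :), hx⟩
  have hβI : ∀ x ∈ overV p I, β x ∈ overV q JH := fun x hx h hh => by
    have h1 : q (β x) = Spec.map (CommRingCat.ofHom ρ) (p x) := by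
      rw [← Scheme.Hom.comp_apply, hβq, Scheme.Hom.comp_apply]
    rw [h1]
    show ρ h ∈ (p x).asIdeal
    refine hx ?_
    refine (Ideal.map_le_iff_le_comap.2 ?_ : JH ≤ I.comap ρ) hh
    intro z hz
    show ρ (algebraMap (S k) H z) ∈ I
    rw [← RingHom.comp_apply, hρ]
    exact hz
  refine ⟨β.base ⁻¹' (𝓘.subschemeι '' W), β.base ⁻¹' (𝓘.subschemeι '' Wᶜ),
    (hcl _ hW.1).preimage β.continuous, (hcl _ hW.compl.1).preimage β.continuous, ?_, ?_, ?_, ?_⟩
  · intro x hx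
    obtain ⟨y, hy⟩ := hlift x hx
    by_cases hyW : y ∈ W
    · exact Or.inl ⟨y, hyW, hy⟩
    · exact Or.inr ⟨y, hyW, hy⟩
  · refine Set.eq_empty_iff_forall_notMem.2 fun x ⟨_, ⟨y, hy, hyx⟩, ⟨y', hy', hyx'⟩⟩ => hy' ?_
    rwa [𝓘.subschemeι.isClosedEmbedding.injective (hyx'.trans hyx.symm)]
  · intro x hx
    obtain ⟨hxT, hxI⟩ := hcov.ge (Or.inl hx)
    obtain ⟨y, hy⟩ := hlift x hxT
    refine ⟨y, hPW ⟨hy ▸ hβI x hxI, fun h => ?_⟩, hy⟩
    rw [hy, hbbβ] at h
    exact Set.eq_empty_iff_forall_notMem.1 hPO₁ x ⟨(hW₁O.le h :), hx⟩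
  · intro x hx
    obtain ⟨hxT, hxI⟩ := hcov.ge (Or.inr hx)
    obtain ⟨y, hy⟩ := hlift x hxT
    refine ⟨y, hQW ⟨hy ▸ hβI x hxI, fun h => ?_⟩, hy⟩
    rw [hy, hbbβ] at h
    exact Set.eq_empty_iff_forall_notMem.1 hQO₂ x ⟨(hW₂O.le h :), hx⟩

/-- **Proper base change for clopen subsets**: existence of lifts over a henselian pair. -/
theorem exists_clopen_of_proper (hPF : CohFin.ProjFinite.{u}) (I : Ideal A) [HenselianRing A I]
    (f : X ⟶ Spec (CommRingCat.of A)) [IsProper f]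
    (P Q : Set X) (hP : IsClosed P) (hQ : IsClosed Q) (hPQ : P ∩ Q = ∅) (hcov : P ∪ Q = overV f I) :
    ∃ W : Set X, IsClopen W ∧ W ∩ overV f I = P := by
  classical
  have : CompactSpace X := QuasiCompact.compactSpace_of_compactSpace f
  have : QuasiSeparatedSpace X := quasiSeparatedSpace_of_quasiSeparated f
  obtain ⟨N, X', π, j, hj, hjf, hπ, hπs⟩ := Chow.exists_chow_general f
  let i : (SpectralTopology.FGSub (CommRingCat.of A))ᵒᵖ := Opposite.op ⟨⊥, Subalgebra.fg_bot⟩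
  set Di := (SpectralTopology.fgSchemes (CommRingCat.of A)).obj i
  let a : CohB1.ProjSpaceOver N Di ⟶ Di := CohB1.ProjSpaceOver.toBase N Di
  have : IsProper a := Groth.Variety2.isProper_projSpaceOver_toBase N Di
  set cπ := stageProj A i
  -- `P^N_A` as the base change of `P^N` over the stage
  let l : X' ⟶ pullback cπ a := pullback.lift (π ≫ f)
    (pullback.lift (j ≫ pullback.fst _ _) (π ≫ f ≫ cπ) (specULiftZIsTerminal.hom_ext _ _))
    ((Category.assoc _ _ _).trans (pullback.lift_snd _ _ _).symm)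
  have hl : l ≫ pullback.fst cπ a = π ≫ f := pullback.lift_fst _ _ _
  let back : pullback cπ a ⟶ CohB1.ProjSpaceOver N (Spec (CommRingCat.of A)) :=
    pullback.lift (pullback.snd cπ a ≫ pullback.fst _ _) (pullback.fst cπ a) (specULiftZIsTerminal.hom_ext _ _)
  have hback : l ≫ back = j := by
    refine pullback.hom_ext ?_ ?_
    · refine (Category.assoc l back _).trans ?_
      refine (congrArg (l ≫ ·) (pullback.lift_fst _ _ _)).trans ?_
      refine (Category.assoc l _ _).symm.trans ?_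
      rw [pullback.lift_snd]
      exact pullback.lift_fst _ _ _
    · refine (Category.assoc l back _).trans ?_
      refine (congrArg (l ≫ ·) (pullback.lift_snd _ _ _)).trans ?_
      exact hl.trans hjf.symm
  have : IsProper (pullback.fst cπ a) := MorphismProperty.pullback_fst _ _ ‹IsProper a›
  have : IsSeparated back := by
    have : IsSeparated (back ≫ CohB1.ProjSpaceOver.toBase N (Spec (CommRingCat.of A))) := by
      rw [show back ≫ CohB1.ProjSpaceOver.toBase N (Spec (CommRingCat.of A)) = pullback.fst cπ a from pullback.lift_snd _ _ _]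
      infer_instance
    exact IsSeparated.of_comp back (CohB1.ProjSpaceOver.toBase N (Spec (CommRingCat.of A)))
  have : IsImmersion l := by
    have : IsImmersion (l ≫ back) := hback ▸ hj
    exact IsImmersion.of_comp l back
  have : IsClosedImmersion l := by
    have : IsProper (l ≫ pullback.fst cπ a) := hl ▸ (inferInstance : IsProper (π ≫ f))
    exact CohFin.isClosedImmersion_of_proper l (pullback.fst cπ a)
  have hcl : IsClosedMap l := l.isClosedEmbedding.isClosedMap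
  have hover : ∀ x, x ∈ π.base ⁻¹' overV f I ↔ l x ∈ overV (pullback.fst cπ a) I := fun x => by
    have h : pullback.fst cπ a (l x) = f (π x) := congr($(hl) x)
    show (I : Set A) ⊆ (f (π x)).asIdeal ↔ (I : Set A) ⊆ (pullback.fst cπ a (l x)).asIdeal
    rw [h]
  obtain ⟨W₁, W₂, hW₁, hW₂, hTW, hTW', hPW, hQW⟩ := exists_closed_split hPF I i a (Set.range l)
    (l '' (π.base ⁻¹' P)) (l '' (π.base ⁻¹' Q)) l.isClosedEmbedding.isClosed_range
    (hcl _ (hP.preimage π.continuous)) (hcl _ (hQ.preimage π.continuous))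
    (by
      rw [← Set.image_inter l.isClosedEmbedding.injective, ← Set.preimage_inter, hPQ,
        Set.preimage_empty, Set.image_empty])
    (by
      rw [← Set.image_union, ← Set.preimage_union, hcov]
      ext z
      constructor
      · rintro ⟨⟨x, rfl⟩, hz⟩
        exact ⟨x, (hover x).2 hz, rfl⟩
      · rintro ⟨x, hx, rfl⟩
        exact ⟨⟨x, rfl⟩, (hover x).1 hx⟩)
  let B₁ : Set X := π '' (l.base ⁻¹' W₁)
  let B₂ : Set X := π '' (l.base ⁻¹' W₂)
  have hB₁ : IsClosed B₁ := π.isClosedMap _ (hW₁.preimage l.continuous)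
  have hB₂ : IsClosed B₂ := π.isClosedMap _ (hW₂.preimage l.continuous)
  have hB : B₁ ∩ B₂ = ∅ := by
    refine eq_empty_of_inter_overV f (HenselianRing.jac (I := I)) (hB₁.inter hB₂) ?_
    refine Set.eq_empty_iff_forall_notMem.2 fun x ⟨⟨⟨u, hu, hux⟩, ⟨w, hw, hwx⟩⟩, hx⟩ => ?_
    have hsep : ∀ v : X', v ∈ l.base ⁻¹' W₁ → v ∈ l.base ⁻¹' W₂ → False := fun v h1 h2 =>
      Set.eq_empty_iff_forall_notMem.1 hTW' (l v) ⟨⟨v, rfl⟩, h1, h2⟩
    rcases hcov.ge hx with h | h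
    · exact hsep w (hPW ⟨w, by rw [Set.mem_preimage, hwx]; exact h, rfl⟩) hw
    · exact hsep u hu (hQW ⟨u, by rw [Set.mem_preimage, hux]; exact h, rfl⟩)
  have hB' : B₁ ∪ B₂ = Set.univ := Set.eq_univ_of_forall fun x => by
    obtain ⟨v, rfl⟩ := π.surjective x
    exact (hTW ⟨v, rfl⟩).elim (fun h => Or.inl ⟨v, h, rfl⟩) fun h => Or.inr ⟨v, h, rfl⟩
  have hB₁c : B₁ = B₂ᶜ := by
    refine Set.Subset.antisymm (fun x h1 h2 => Set.eq_empty_iff_forall_notMem.1 hB x ⟨h1, h2⟩) fun x hx => ?_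
    exact (hB'.ge (Set.mem_univ x)).resolve_right hx
  refine ⟨B₁, ⟨hB₁, hB₁c ▸ hB₂.isOpen_compl⟩, Set.Subset.antisymm (fun x ⟨hx, hxI⟩ => ?_) fun x hx => ?_⟩
  · rcases hcov.ge hxI with h | h
    · exact h
    · obtain ⟨v, rfl⟩ := π.surjective x
      exact absurd hx fun h1 => Set.eq_empty_iff_forall_notMem.1 hB _
        ⟨h1, ⟨v, hQW ⟨v, h, rfl⟩, rfl⟩⟩
  · obtain ⟨v, rfl⟩ := π.surjective x
    exact ⟨⟨v, hPW ⟨v, hx, rfl⟩, rfl⟩, hcov ▸ Or.inl hx⟩

end Groth.HensPair
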