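import Mathlib.RingTheory.Henselian
import Mathlib.RingTheory.LocalRing.RingHom.Basic
import Mathlib.RingTheory.Ideal.GoingUp
import Mathlib.RingTheory.Polynomial.Quotient
import Mathlib.RingTheory.Localization.Away.Basic
import Mathlib.RingTheory.Etale.Basic
import Mathlib.RingTheory.Spectrum.Prime.Topology

/-!
# Elementary facts about Jacobson radicals, henselian local rings and Zariski neighbourhoods
-/

namespace Groth.HensPair

universe u v

open Polynomial

/-- An ideal inside the Jacobson radical stays so in an integral extension. -/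
theorem map_le_jacobson_bot {A : Type u} {B : Type v} [CommRing A] [CommRing B] [Algebra A B]
    [Algebra.IsIntegral A B] {I : Ideal A} (hI : I ≤ Ideal.jacobson ⊥) :
    I.map (algebraMap A B) ≤ Ideal.jacobson ⊥ := by
  refine le_sInf fun M ⟨_, hM⟩ => ?_
  have := Ideal.isMaximal_comap_of_isIntegral_of_isMaximal (R := A) M
  exact Ideal.map_le_iff_le_comap.mpr fun x hx =>
    Ideal.mem_sInf.1 (hI hx) ⟨bot_le, this⟩

/-- Two idempotents congruent modulo the Jacobson radical are equal. -/
theorem idem_eq_of_sub_mem_jacobson {B : Type u} [CommRing B] {e e' : B}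
    (he : IsIdempotentElem e) (he' : IsIdempotentElem e')
    (h : e - e' ∈ Ideal.jacobson (⊥ : Ideal B)) : e = e' := by
  have hu : IsUnit ((e - e') * (-(e - e')) + 1) := Ideal.mem_jacobson_bot.1 h _
  have h0 : (e - e') * ((e - e') * (-(e - e')) + 1) = 0 := by
    have h1 : e * e = e := he
    have h2 : e' * e' = e' := he'
    linear_combination (-e - 1 + 3 * e') * h1 + (e' + 1 - 3 * e) * h2
  exact sub_eq_zero.1 (hu.mul_left_eq_zero.1 h0)

/-- A monic polynomial over a quotient lifts to a monic polynomial. -/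
theorem exists_monic_lift {R : Type u} [CommRing R] (I : Ideal R) {f : (R ⧸ I)[X]}
    (hf : f.Monic) : ∃ F : R[X], F.map (Ideal.Quotient.mk I) = f ∧ F.Monic := by
  rcases subsingleton_or_nontrivial (R ⧸ I) with hs | hs
  · exact ⟨1, Subsingleton.elim _ _, monic_one⟩
  have hl : f ∈ lifts (Ideal.Quotient.mk I) :=
    (lifts_iff_coeff_lifts f).2 fun n => Ideal.Quotient.mk_surjective _
  obtain ⟨F, hF, -, hFm⟩ := lifts_and_degree_eq_and_monic hl hf
  exact ⟨F, hF, hFm⟩

/-- A nontrivial quotient of a henselian local ring is henselian local. -/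
theorem henselianLocalRing_quotient {R : Type u} [CommRing R] [HenselianLocalRing R] (I : Ideal R)
    (hI : I ≠ ⊤) : HenselianLocalRing (R ⧸ I) := by
  have : Nontrivial (R ⧸ I) := Ideal.Quotient.nontrivial_iff.2 hI
  have hloc : IsLocalRing (R ⧸ I) :=
    IsLocalRing.of_surjective' (Ideal.Quotient.mk I) Ideal.Quotient.mk_surjective
  have : IsLocalHom (Ideal.Quotient.mk I) :=
    .of_surjective _ Ideal.Quotient.mk_surjective
  refine { toIsLocalRing := hloc, is_henselian := fun f hf a₀ h₁ h₂ => ?_ }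
  obtain ⟨a, rfl⟩ := Ideal.Quotient.mk_surjective a₀
  obtain ⟨F, rfl, hFm⟩ := exists_monic_lift I hf
  rw [eval_map_apply] at h₁
  rw [derivative_map, eval_map_apply] at h₂
  obtain ⟨r, hr, hra⟩ := HenselianLocalRing.is_henselian F hFm a
    (fun hu => h₁ (hu.map _)) (isUnit_of_map_unit (Ideal.Quotient.mk I) _ h₂)
  refine ⟨Ideal.Quotient.mk I r, ?_, fun hu => hra ?_⟩
  · rw [IsRoot, eval_map_apply, hr.eq_zero, map_zero]
  · rw [← map_sub] at hu
    exact isUnit_of_map_unit (Ideal.Quotient.mk I) _ hu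

/-- An open set of the spectrum containing `V(J)` contains `D(g)` for some `g ≡ 1 mod J`. -/
theorem exists_basicOpen_subset_of_zeroLocus_subset {R : Type u} [CommRing R] (J : Ideal R)
    {U : Set (PrimeSpectrum R)} (hU : IsOpen U) (h : PrimeSpectrum.zeroLocus (J : Set R) ⊆ U) :
    ∃ g : R, g - 1 ∈ J ∧ (PrimeSpectrum.basicOpen g : Set (PrimeSpectrum R)) ⊆ U := by
  obtain ⟨K, hK⟩ := (PrimeSpectrum.isClosed_iff_zeroLocus_ideal _).1 hU.isClosed_compl
  have : J ⊔ K = ⊤ := by
    by_contra hne
    obtain ⟨M, hM, hle⟩ := Ideal.exists_le_maximal _ hne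
    have h1 : (⟨M, hM.isPrime⟩ : PrimeSpectrum R) ∈ U :=
      h ((PrimeSpectrum.mem_zeroLocus _ _).2 (fun x hx => hle (Submodule.mem_sup_left hx)))
    have h2 : (⟨M, hM.isPrime⟩ : PrimeSpectrum R) ∈ Uᶜ := by
      rw [hK]; exact (PrimeSpectrum.mem_zeroLocus _ _).2 (fun x hx => hle (Submodule.mem_sup_right hx))
    exact h2 h1
  obtain ⟨j, hj, k, hk, hjk⟩ := Submodule.mem_sup.1 ((Ideal.eq_top_iff_one _).1 this)
  refine ⟨k, by rw [show k - 1 = -j by linear_combination hjk]; exact neg_mem hj, ?_⟩
  intro p hp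
  by_contra hpU
  have : p ∈ PrimeSpectrum.zeroLocus (K : Set R) := by rw [← hK]; exact hpU
  exact hp ((PrimeSpectrum.mem_zeroLocus _ _).1 this hk)

/-- Inverting an element that is `1` modulo `J` does not change the quotient by `J`. -/
theorem quotientMap_away_bijective {R : Type u} [CommRing R] (J : Ideal R) {g : R}
    (hg : g - 1 ∈ J) (S : Type v) [CommRing S] [Algebra R S] [IsLocalization.Away g S] :
    Function.Bijective
      (Ideal.quotientMap (J.map (algebraMap R S)) (algebraMap R S) Ideal.le_comap_map) := by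
  have hg1 : Ideal.Quotient.mk J g = 1 := by
    rw [← map_one (Ideal.Quotient.mk J), Ideal.Quotient.eq]; exact hg
  have hu : IsUnit (Ideal.Quotient.mk J g) := hg1 ▸ isUnit_one
  set φ : S →+* R ⧸ J := IsLocalization.Away.lift g hu with hφ
  have hker : J.map (algebraMap R S) ≤ RingHom.ker φ := by
    rw [Ideal.map_le_iff_le_comap]
    intro x hx
    rw [Ideal.mem_comap, RingHom.mem_ker, hφ, IsLocalization.Away.lift_eq,
      Ideal.Quotient.eq_zero_iff_mem]
    exact hx
  set ψ : S ⧸ J.map (algebraMap R S) →+* R ⧸ J := Ideal.Quotient.lift _ φ fun a ha => RingHom.mem_ker.1 (hker ha)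
  have h1 : ψ.comp (Ideal.quotientMap (J.map (algebraMap R S)) (algebraMap R S)
      Ideal.le_comap_map) = RingHom.id _ := by
    refine Ideal.Quotient.ringHom_ext (RingHom.ext fun x => ?_)
    show ψ (Ideal.quotientMap _ _ Ideal.le_comap_map (Ideal.Quotient.mk J x)) = Ideal.Quotient.mk J x
    simp only [ψ]
    rw [Ideal.quotientMap_mk, Ideal.Quotient.lift_mk, hφ, IsLocalization.Away.lift_eq]
  have h2 : (Ideal.quotientMap (J.map (algebraMap R S)) (algebraMap R S)
      Ideal.le_comap_map).comp ψ = RingHom.id _ := by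
    refine Ideal.Quotient.ringHom_ext (IsLocalization.ringHom_ext (Submonoid.powers g)
      (RingHom.ext fun x => ?_))
    show Ideal.quotientMap _ _ Ideal.le_comap_map (ψ (Ideal.Quotient.mk _ (algebraMap R S x))) =
      Ideal.Quotient.mk _ (algebraMap R S x)
    simp only [ψ]
    rw [Ideal.Quotient.lift_mk, hφ, IsLocalization.Away.lift_eq, Ideal.quotientMap_mk]
  exact ⟨Function.LeftInverse.injective (g := ψ) fun x => RingHom.congr_fun h1 x,
    Function.RightInverse.surjective (g := ψ) fun x => RingHom.congr_fun h2 x⟩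

end Groth.HensPair
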