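import Groth.Agent.Hensel1.Transfer
import Mathlib.RingTheory.Etale.Basic
import Mathlib.RingTheory.RingHom.Etale
import Mathlib.Algebra.Category.Ring.Under.Basic
import Mathlib.Algebra.Category.Ring.FilteredColimits
import Mathlib.CategoryTheory.Limits.Types.Filtered
import Mathlib.CategoryTheory.Limits.Constructions.Over.Connected
import Groth.Prelude.Def_PBC

/-! A criterion for ind-étale algebras: every map from a finitely presented algebra factors
through an étale one. -/

set_option autoImplicit false
universe u v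

namespace Groth.HensPair

open CategoryTheory Limits

variable {A B : Type u} [CommRing A] [CommRing B] [Algebra A B]

/-- An étale algebra with a map to `B`, given by a finite presentation. -/
structure EIdx (A B : Type u) [CommRing A] [CommRing B] [Algebra A B] : Type u where
  /-- number of variables -/
  n : ℕ
  /-- number of relations -/
  m : ℕ
  /-- relations -/
  rel : Fin m → MvPolynomial (Fin n) A
  etale : Algebra.Etale A (MvPolynomial (Fin n) A ⧸ Ideal.span (Set.range rel))
  /-- the map to `B` -/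
  pt : (MvPolynomial (Fin n) A ⧸ Ideal.span (Set.range rel)) →ₐ[A] B

namespace EIdx

/-- The algebra. -/
abbrev Obj (i : EIdx A B) : Type u := MvPolynomial (Fin i.n) A ⧸ Ideal.span (Set.range i.rel)

noncomputable instance : SmallCategory (EIdx A B) where
  Hom i j := { f : i.Obj →ₐ[A] j.Obj // j.pt.comp f = i.pt }
  id i := ⟨AlgHom.id A i.Obj, i.pt.comp_id⟩
  comp f g := ⟨g.1.comp f.1, by rw [← AlgHom.comp_assoc, g.2, f.2]⟩

theorem exists_hom {C : Type u} [CommRing C] [Algebra A C] [Algebra.Etale A C] (g : C →ₐ[A] B) :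
    ∃ (i : EIdx A B) (ψ : C →ₐ[A] i.Obj), i.pt.comp ψ = g := by
  obtain ⟨n, f, hf, hk⟩ := (inferInstance : Algebra.FinitePresentation A C).out
  obtain ⟨m, rel, hrel⟩ := Submodule.fg_iff_exists_fin_generating_family.1 hk
  let e : (MvPolynomial (Fin n) A ⧸ Ideal.span (Set.range rel)) ≃ₐ[A] C :=
    (Ideal.quotientEquivAlgOfEq A hrel).trans (Ideal.quotientKerAlgEquivOfSurjective hf)
  refine ⟨⟨n, m, rel, Algebra.Etale.of_equiv e.symm, g.comp e.toAlgHom⟩, e.symm.toAlgHom, ?_⟩
  exact AlgHom.ext fun c => congrArg g (e.apply_symm_apply c)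

/-- The diagram. -/
noncomputable def diag : EIdx A B ⥤ Under (CommRingCat.of A) where
  obj i := Under.mk (CommRingCat.ofHom (algebraMap A i.Obj))
  map {i j} f := Under.homMk (CommRingCat.ofHom f.1.toRingHom) (CommRingCat.hom_ext f.1.comp_algebraMap)
  map_id _ := rfl
  map_comp _ _ := rfl

end EIdx

/-- If every map from a finitely presented algebra to `B` factors through an étale algebra, `B` is
ind-étale. -/
theorem isIndEtale_of_factor
    (h : ∀ (D : Type u) [CommRing D] [Algebra A D] [Algebra.FinitePresentation A D] (g : D →ₐ[A] B),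
      ∃ (C : Type u) (_ : CommRing C) (_ : Algebra A C) (_ : Algebra.Etale A C)
        (φ : D →ₐ[A] C) (g' : C →ₐ[A] B), g'.comp φ = g) :
    EtPBC.IsIndEtale A B := by
  classical
  have hne : Nonempty (EIdx A B) := ⟨(EIdx.exists_hom (C := A) (Algebra.ofId A B)).choose⟩
  have : IsFilteredOrEmpty (EIdx A B) := by
    refine ⟨fun i j => ?_, fun i j f g => ?_⟩
    · have := i.etale; have := j.etale
      have : Algebra.Etale A (TensorProduct A i.Obj j.Obj) := Algebra.Etale.comp A i.Obj _
      obtain ⟨k, ψ, hψ⟩ := EIdx.exists_hom (C := TensorProduct A i.Obj j.Obj)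
        (Algebra.TensorProduct.lift i.pt j.pt fun _ _ => Commute.all _ _)
      refine ⟨k, ⟨ψ.comp Algebra.TensorProduct.includeLeft, ?_⟩,
        ⟨ψ.comp Algebra.TensorProduct.includeRight, ?_⟩, trivial⟩
      · rw [← AlgHom.comp_assoc, hψ]; exact Algebra.TensorProduct.lift_comp_includeLeft _ _ _
      · rw [← AlgHom.comp_assoc, hψ]; exact Algebra.TensorProduct.lift_comp_includeRight' _ _ _
    · have := i.etale; have := j.etale
      let L := Algebra.TensorProduct.lift f.1 g.1 fun _ _ => Commute.all _ _
      let e := L (Algebra.FormallyUnramified.elem A i.Obj)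
      have hLB : j.pt.comp L = i.pt.comp (Algebra.TensorProduct.lmul' A) := by
        refine Algebra.TensorProduct.ext (AlgHom.ext fun x => ?_) (AlgHom.ext fun x => ?_)
        · simpa [L] using DFunLike.congr_fun f.2 x
        · simpa [L] using DFunLike.congr_fun g.2 x
      have he : j.pt e = 1 := by
        have := DFunLike.congr_fun hLB (Algebra.FormallyUnramified.elem A i.Obj)
        simpa [e, Algebra.FormallyUnramified.lmul_elem] using this
      have : Algebra.Etale j.Obj (Localization.Away e) := .of_isLocalizationAway e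
      have : Algebra.Etale A (Localization.Away e) := Algebra.Etale.comp A j.Obj _
      obtain ⟨k, ψ, hψ⟩ := EIdx.exists_hom
        (IsLocalization.Away.liftAlgHom e (f := j.pt) (he ▸ isUnit_one) : Localization.Away e →ₐ[A] B)
      refine ⟨k, ⟨ψ.comp (IsScalarTower.toAlgHom A j.Obj _), ?_⟩, ?_⟩
      · rw [← AlgHom.comp_assoc, hψ]
        exact AlgHom.ext fun x => IsLocalization.Away.lift_eq (g := j.pt.toRingHom) e (he ▸ isUnit_one) x
      · refine Subtype.ext (AlgHom.ext fun x => ?_)
        show ψ (algebraMap j.Obj _ (f.1 x)) = ψ (algebraMap j.Obj _ (g.1 x))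
        refine congrArg ψ (sub_eq_zero.1 ?_).symm
        rw [← map_sub]
        have h0 : (g.1 x - f.1 x) * e = 0 := by
          have := congr(L $(Algebra.FormallyUnramified.one_tmul_sub_tmul_one_mul_elem (R := A) x))
          simpa [L, e] using this
        refine (IsLocalization.Away.algebraMap_isUnit (S := Localization.Away e) e).mul_left_eq_zero.1 ?_
        rw [← map_mul, h0, map_zero]
  have : IsFiltered (EIdx A B) := { nonempty := hne }
  let c : Cocone (EIdx.diag (A := A) (B := B)) :=
    { pt := Under.mk (CommRingCat.ofHom (algebraMap A B))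
      ι :=
        { app := fun i => Under.homMk (CommRingCat.ofHom i.pt.toRingHom)
            (CommRingCat.hom_ext i.pt.comp_algebraMap)
          naturality := fun i j f => by
            refine Under.UnderMorphism.ext (CommRingCat.hom_ext (RingHom.ext fun x => ?_))
            exact DFunLike.congr_fun f.2 x } }
  have hT : IsColimit ((Under.forget (CommRingCat.of A) ⋙ CategoryTheory.forget CommRingCat.{u}).mapCocone c) := by
    refine Types.FilteredColimit.isColimitOf' _ _ (fun b => ?_) (fun i x y hxy => ?_)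
    · obtain ⟨C, _, _, _, φ, g, hg⟩ := h (MvPolynomial Unit A) (MvPolynomial.aeval fun _ => b)
      obtain ⟨i, ψ, hψ⟩ := EIdx.exists_hom g
      refine ⟨i, ψ (φ (MvPolynomial.X ())), ?_⟩
      show b = i.pt (ψ (φ (MvPolynomial.X ())))
      rw [← AlgHom.comp_apply i.pt, hψ, ← AlgHom.comp_apply g, hg]
      exact (MvPolynomial.aeval_X (R := A) (S₁ := B) (fun _ => b) ()).symm
    · have := i.etale
      change i.pt x = i.pt y at hxy
      change i.Obj at x y
      have : Algebra.FinitePresentation A (i.Obj ⧸ Ideal.span {x - y}) :=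
        .quotient (Submodule.fg_span_singleton _)
      let q : (i.Obj ⧸ Ideal.span {x - y}) →ₐ[A] B := Ideal.Quotient.liftₐ _ i.pt fun z hz => by
        obtain ⟨w, rfl⟩ := Ideal.mem_span_singleton'.1 hz
        rw [map_mul, map_sub, hxy, sub_self, mul_zero]
      obtain ⟨C, _, _, _, φ, g, hg⟩ := h (i.Obj ⧸ Ideal.span {x - y}) q
      obtain ⟨k, ψ, hψ⟩ := EIdx.exists_hom g
      refine ⟨k, ⟨(ψ.comp φ).comp (Ideal.Quotient.mkₐ A _), ?_⟩, ?_⟩
      · rw [← AlgHom.comp_assoc, ← AlgHom.comp_assoc, hψ, hg]
        exact AlgHom.ext fun z => rfl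
      · show ψ (φ (Ideal.Quotient.mk _ x)) = ψ (φ (Ideal.Quotient.mk _ y))
        rw [Ideal.Quotient.eq.2 (Ideal.mem_span_singleton_self _)]
  have : IsConnected (EIdx A B) := IsFiltered.isConnected _
  have : ReflectsColimitsOfShape (EIdx A B) (CategoryTheory.forget CommRingCat.{u}) :=
    reflectsColimitsOfShape_of_reflectsIsomorphisms
  refine ⟨EIdx A B, inferInstance, inferInstance, EIdx.diag, c,
    isColimitOfReflects (Under.forget (CommRingCat.of A) ⋙ CategoryTheory.forget CommRingCat.{u}) hT,
    fun j => ?_, ⟨Iso.refl _⟩⟩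
  have he := RingHom.etale_algebraMap.2 j.etale
  exact he

/-- A map from a finitely presented algebra to a localization factors through a localization away
from one element. -/
theorem exists_factor_away {P : Type u} [CommRing P] [Algebra A P] (M : Submonoid P)
    {L : Type u} [CommRing L] [Algebra P L] [Algebra A L] [IsScalarTower A P L] [IsLocalization M L]
    {D : Type u} [CommRing D] [Algebra A D] [Algebra.FinitePresentation A D] (g : D →ₐ[A] L) :
    ∃ (s : P) (hs : s ∈ M) (φ : D →ₐ[A] Localization.Away s) (ι : Localization.Away s →ₐ[P] L),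
      (ι.restrictScalars A).comp φ = g := by
  classical
  obtain ⟨n, f, hf, hk⟩ := (inferInstance : Algebra.FinitePresentation A D).out
  obtain ⟨m, rel, hrel⟩ := Submodule.fg_iff_exists_fin_generating_family.1 hk
  obtain ⟨⟨b, hb⟩, hbint⟩ := IsLocalization.exist_integer_multiples_of_finite M fun k => g (f (MvPolynomial.X k))
  choose c hc using hbint
  let ι₁ : Localization.Away b →ₐ[P] L := IsLocalization.Away.liftAlgHom b (f := Algebra.ofId P L)
    (IsLocalization.map_units (M := M) L ⟨b, hb⟩)
  let v : MvPolynomial (Fin n) A →ₐ[A] Localization.Away b :=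
    MvPolynomial.aeval fun k => IsLocalization.mk' (Localization.Away b) (c k) (⟨b, Submonoid.mem_powers b⟩ : Submonoid.powers b)
  have hv : (ι₁.restrictScalars A).comp v = g.comp f := by
    refine MvPolynomial.algHom_ext fun k => ?_
    simp only [AlgHom.comp_apply, AlgHom.restrictScalars_apply, v, MvPolynomial.aeval_X]
    refine (IsLocalization.map_units (M := M) L ⟨b, hb⟩).mul_right_cancel ?_
    have h1 := congrArg ι₁ (IsLocalization.mk'_spec (Localization.Away b) (c k)
      (⟨b, Submonoid.mem_powers b⟩ : Submonoid.powers b))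
    rw [map_mul, ι₁.commutes, ι₁.commutes] at h1
    rw [h1, hc k, mul_comm]
    exact Algebra.smul_def b _
  have hw : ∀ r : Fin m, ∃ w ∈ M, algebraMap P (Localization.Away b) w * v (rel r) = 0 := by
    intro r
    obtain ⟨z, ⟨_, j, rfl⟩, hz⟩ := IsLocalization.exists_mk'_eq (Submonoid.powers b) (v (rel r))
    have h0 : ι₁ (v (rel r)) = 0 := by
      have := DFunLike.congr_fun hv (rel r)
      simp only [AlgHom.comp_apply, AlgHom.restrictScalars_apply] at this
      rw [this, show f (rel r) = 0 from RingHom.mem_ker.1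
        ((hrel ▸ Submodule.subset_span ⟨r, rfl⟩ : rel r ∈ RingHom.ker f.toRingHom)), map_zero]
    have h1 : algebraMap P L z = 0 := by
      rw [← ι₁.commutes, ← IsLocalization.mk'_spec (Localization.Away b) z
        (⟨_, j, rfl⟩ : Submonoid.powers b), hz, map_mul, h0, zero_mul]
    obtain ⟨w, hw⟩ := (IsLocalization.map_eq_zero_iff M L z).1 h1
    refine ⟨w, w.2, ?_⟩
    rw [← hz, IsLocalization.mul_mk'_eq_mk'_of_mul, hw, IsLocalization.mk'_zero]
  choose w hwM hw using hw
  let s := b * ∏ r, w r
  have hs : s ∈ M := mul_mem hb (prod_mem fun r _ => hwM r)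
  have hub : IsUnit (algebraMap P (Localization.Away s) b) :=
    isUnit_of_dvd_unit (map_dvd _ ⟨_, rfl⟩) (IsLocalization.Away.algebraMap_isUnit (S := Localization.Away s) s)
  let τ : Localization.Away b →ₐ[P] Localization.Away s :=
    IsLocalization.Away.liftAlgHom b (f := Algebra.ofId P (Localization.Away s)) hub
  let ι : Localization.Away s →ₐ[P] L := IsLocalization.Away.liftAlgHom s (f := Algebra.ofId P L)
    (IsLocalization.map_units (M := M) L ⟨s, hs⟩)
  have hτι : ι.comp τ = ι₁ := IsLocalization.algHom_ext (Submonoid.powers b) (Subsingleton.elim _ _)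
  let φ₀ := (τ.restrictScalars A).comp v
  have hφ : ∀ z ∈ RingHom.ker f.toRingHom, φ₀ z = 0 := fun z hz => by
    rw [← hrel] at hz
    refine RingHom.mem_ker.1 ((Ideal.span_le.2 (Set.range_subset_iff.2 fun r => RingHom.mem_ker.2 ?_) :
      Ideal.span (Set.range rel) ≤ RingHom.ker φ₀) hz)
    have hu : IsUnit (algebraMap P (Localization.Away s) (w r)) :=
      isUnit_of_dvd_unit (map_dvd _ (Dvd.dvd.mul_left (Finset.dvd_prod_of_mem w (Finset.mem_univ r)) b))
        (IsLocalization.Away.algebraMap_isUnit (S := Localization.Away s) s)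
    refine hu.mul_right_eq_zero.1 ?_
    show algebraMap P (Localization.Away s) (w r) * τ (v (rel r)) = 0
    rw [← τ.commutes, ← map_mul, hw, map_zero]
  refine ⟨s, hs, (Ideal.Quotient.liftₐ _ φ₀ hφ).comp (Ideal.quotientKerAlgEquivOfSurjective hf).symm.toAlgHom, ι, ?_⟩
  refine AlgHom.ext fun d => ?_
  obtain ⟨z, rfl⟩ := hf d
  have : (Ideal.quotientKerAlgEquivOfSurjective hf).symm (f z) = Ideal.Quotient.mk _ z := by
    rw [AlgEquiv.symm_apply_eq]; rfl
  show ι ((Ideal.Quotient.liftₐ _ φ₀ hφ) ((Ideal.quotientKerAlgEquivOfSurjective hf).symm (f z))) = _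
  rw [this]
  show ι (τ (v z)) = _
  rw [← AlgHom.comp_apply ι, hτι]
  exact DFunLike.congr_fun hv z

open Groth.Hensel1 in
/-- Maps from finitely presented algebras to a henselization factor through étale algebras. -/
theorem hens_factor {R Ω : Type u} [CommRing R] [Field Ω] [Algebra R Ω]
    (D : Type u) [CommRing D] [Algebra R D] [Algebra.FinitePresentation R D] (g : D →ₐ[R] Hens R Ω) :
    ∃ (C : Type u) (_ : CommRing C) (_ : Algebra R C) (_ : Algebra.Etale R C)
      (φ : D →ₐ[R] C) (g' : C →ₐ[R] Hens R Ω), g'.comp φ = g := by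
  classical
  obtain ⟨n, f, hf, hk⟩ := (inferInstance : Algebra.FinitePresentation R D).out
  obtain ⟨m, rel, hrel⟩ := Submodule.fg_iff_exists_fin_generating_family.1 hk
  obtain ⟨i, y, hy⟩ := Hens.exists_of_fintype fun k => g (f (MvPolynomial.X k))
  have hv : ∀ (j : HensIdx R Ω) (h : i ≤ j), (Hens.of j).comp (MvPolynomial.aeval fun k => HensIdx.tr i j h (y k)) = g.comp f :=
    fun j h => MvPolynomial.algHom_ext fun k => by simp [Hens.of_tr, hy]
  have hex : ∀ r : Fin m, ∃ (j : HensIdx R Ω) (hj : i ≤ j),
      HensIdx.tr i j hj (MvPolynomial.aeval y (rel r)) = 0 := fun r => by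
    obtain ⟨j, hj, e⟩ := Hens.exists_tr_eq (i := i) (x := MvPolynomial.aeval y (rel r)) (y := 0) (by
      rw [map_zero, ← AlgHom.comp_apply,
        show (Hens.of i).comp (MvPolynomial.aeval y) = g.comp f from MvPolynomial.algHom_ext fun k => by simp [hy],
        AlgHom.comp_apply, show f (rel r) = 0 from RingHom.mem_ker.1
          ((hrel ▸ Submodule.subset_span ⟨r, rfl⟩ : rel r ∈ RingHom.ker f.toRingHom)), map_zero])
    exact ⟨j, hj, e.trans (map_zero _)⟩
  choose j hj hj0 using hex
  obtain ⟨k, hk'⟩ := Finite.exists_le (fun o : Option (Fin m) => o.elim i j)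
  have hik : i ≤ k := hk' none
  have hjk : ∀ r, j r ≤ k := fun r => hk' (some r)
  let v := MvPolynomial.aeval (R := R) fun t => HensIdx.tr i k hik (y t)
  have hv0 : ∀ r, v (rel r) = 0 := fun r => by
    have h1 : v = (HensIdx.tr i k hik).comp (MvPolynomial.aeval y) := MvPolynomial.algHom_ext fun t => by simp [v]
    have h2 : HensIdx.tr i k hik = (HensIdx.tr (j r) k (hjk r)).comp (HensIdx.tr i (j r) (hj r)) :=
      HensIdx.tr_eq hik (by rw [← AlgHom.comp_assoc, HensIdx.ptL_comp_tr, HensIdx.ptL_comp_tr])
    rw [h1, h2]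
    simp only [AlgHom.comp_apply, hj0, map_zero]
  have hker : ∀ z ∈ RingHom.ker f.toRingHom, v z = 0 := fun z hz => by
    rw [← hrel] at hz
    exact RingHom.mem_ker.1 ((Ideal.span_le.2 (Set.range_subset_iff.2 fun r => RingHom.mem_ker.2 (hv0 r)) :
      Ideal.span (Set.range rel) ≤ RingHom.ker v) hz)
  let g₁ : D →ₐ[R] k.Obj :=
    (Ideal.Quotient.liftₐ _ v hker).comp (Ideal.quotientKerAlgEquivOfSurjective hf).symm.toAlgHom
  have hg₁ : (Hens.of k).comp g₁ = g := by
    refine AlgHom.ext fun d => ?_
    obtain ⟨z, rfl⟩ := hf d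
    have : (Ideal.quotientKerAlgEquivOfSurjective hf).symm (f z) = Ideal.Quotient.mk _ z := by
      rw [AlgEquiv.symm_apply_eq]; rfl
    show Hens.of k ((Ideal.Quotient.liftₐ _ v hker) ((Ideal.quotientKerAlgEquivOfSurjective hf).symm (f z))) = _
    rw [this]
    exact DFunLike.congr_fun (hv k hik) z
  obtain ⟨s, -, φ, ι, hι⟩ := exists_factor_away k.q.primeCompl g₁
  have : Algebra.Etale k.P.Ring (Localization.Away s) := .of_isLocalizationAway s
  have : Algebra.Etale R (Localization.Away s) := Algebra.Etale.comp R k.P.Ring _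
  exact ⟨Localization.Away s, inferInstance, inferInstance, inferInstance, φ,
    (Hens.of k).comp (ι.restrictScalars R), by rw [AlgHom.comp_assoc, hι, hg₁]⟩

theorem isIndEtale_of_hensModel {R S : Type u} [CommRing R] [IsLocalRing R] [CommRing S] [IsLocalRing S]
    [Algebra R S] [IsLocalHom (algebraMap R S)] (M : Groth.Hensel1.HensModel R S) :
    EtPBC.IsIndEtale R S := by
  refine isIndEtale_of_factor fun D _ _ _ g => ?_
  obtain ⟨C, _, _, _, φ, g', h⟩ := hens_factor (Ω := M.Ω) D (M.equiv.symm.toAlgHom.comp g)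
  refine ⟨C, inferInstance, inferInstance, inferInstance, φ, M.equiv.toAlgHom.comp g', ?_⟩
  rw [AlgHom.comp_assoc, h]
  exact AlgHom.ext fun d => M.equiv.apply_symm_apply _

end Groth.HensPair
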