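import Groth.Agent.HensPair.Nbhd
import Mathlib.Algebra.Category.Ring.FilteredColimits
import Mathlib.CategoryTheory.Limits.ConcreteCategory.Basic
import Mathlib.Algebra.Category.Ring.Colimits
import Mathlib.RingTheory.Flat.EquationalCriterion
import Mathlib.RingTheory.Smooth.Flat

/-!
# The colimit of the etale neighbourhoods of a pair

`Hz I` is the filtered colimit of all etale neighbourhoods of `(A, I)`. We show that it is a
flat `A`-algebra forming a henselian pair with `I`, with the same quotient by `I`.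
-/

namespace Groth.HensPair

universe u

open CategoryTheory Limits Polynomial

variable {A : Type u} [CommRing A] (I : Ideal A)

/-- Index of an etale neighbourhood: a finite presentation. -/
structure Idx where
  /-- number of variables -/
  n : ℕ
  /-- number of relations -/
  m : ℕ
  /-- the relations -/
  rel : Fin m → MvPolynomial (Fin n) A
  nbhd : IsNbhd I (MvPolynomial (Fin n) A ⧸ Ideal.span (Set.range rel))

namespace Idx

variable {I}

/-- The algebra of an index. -/
def Obj (i : Idx I) : Type u := MvPolynomial (Fin i.n) A ⧸ Ideal.span (Set.range i.rel)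

noncomputable instance (i : Idx I) : CommRing i.Obj :=
  inferInstanceAs (CommRing (MvPolynomial (Fin i.n) A ⧸ Ideal.span (Set.range i.rel)))

noncomputable instance (i : Idx I) : Algebra A i.Obj :=
  inferInstanceAs (Algebra A (MvPolynomial (Fin i.n) A ⧸ Ideal.span (Set.range i.rel)))

theorem isNbhd (i : Idx I) : IsNbhd I i.Obj := i.nbhd

noncomputable instance : SmallCategory (Idx I) where
  Hom i j := i.Obj →ₐ[A] j.Obj
  id i := AlgHom.id A i.Obj
  comp f g := g.comp f

theorem exists_equiv {A' : Type u} [CommRing A'] [Algebra A A'] (h : IsNbhd I A') :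
    ∃ i : Idx I, Nonempty (i.Obj ≃ₐ[A] A') := by
  have := h.etale
  obtain ⟨n, f, hf, hk⟩ := (inferInstance : Algebra.FinitePresentation A A').out
  obtain ⟨s, hs⟩ := hk
  let rel : Fin s.card → MvPolynomial (Fin n) A := fun k => (s.equivFin.symm k).1
  have hr : Ideal.span (Set.range rel) = RingHom.ker f.toRingHom := by
    rw [← hs]
    congr 1
    ext x
    exact ⟨fun ⟨k, hk⟩ => hk ▸ (s.equivFin.symm k).2, fun hx => ⟨s.equivFin ⟨x, hx⟩, by simp [rel]⟩⟩
  let e := (Ideal.quotientEquivAlgOfEq A hr).trans (Ideal.quotientKerAlgEquivOfSurjective hf)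
  exact ⟨⟨n, s.card, rel, h.of_algEquiv e.symm⟩, ⟨e⟩⟩

theorem exists_hom {A' : Type u} [CommRing A'] [Algebra A A'] (h : IsNbhd I A') :
    ∃ i : Idx I, Nonempty (A' →ₐ[A] i.Obj) :=
  let ⟨i, ⟨e⟩⟩ := exists_equiv h
  ⟨i, ⟨e.symm.toAlgHom⟩⟩

/-- The base index, isomorphic to `A` itself. -/
noncomputable def base : Idx I := (exists_equiv (isNbhd_self (I := I))).choose

instance : Nonempty (Idx I) := ⟨base⟩

instance : IsFiltered (Idx I) where
  cocone_objs i j := by
    obtain ⟨k, ⟨φ⟩⟩ := exists_hom (i.isNbhd.tensor j.isNbhd)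
    exact ⟨k, φ.comp Algebra.TensorProduct.includeLeft,
      φ.comp Algebra.TensorProduct.includeRight, trivial⟩
  cocone_maps i j f g := by
    obtain ⟨e, -, hn, he⟩ := i.isNbhd.exists_coequalizer j.isNbhd f g
    obtain ⟨k, ⟨φ⟩⟩ := exists_hom hn
    refine ⟨k, φ.comp (IsScalarTower.toAlgHom A _ _), ?_⟩
    show (φ.comp (IsScalarTower.toAlgHom A j.Obj (Localization.Away e))).comp f =
      (φ.comp (IsScalarTower.toAlgHom A j.Obj (Localization.Away e))).comp g
    rw [AlgHom.comp_assoc, AlgHom.comp_assoc, he]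

end Idx

/-- The diagram of etale neighbourhoods. -/
noncomputable def diag : Idx I ⥤ CommRingCat.{u} where
  obj i := CommRingCat.of i.Obj
  map f := CommRingCat.ofHom (AlgHom.toRingHom f)

/-- The colimit of the etale neighbourhoods: the henselization of the pair. -/
def Hz : Type u := (colimit (diag I) : CommRingCat.{u})

noncomputable instance : CommRing (Hz I) :=
  inferInstanceAs (CommRing (colimit (diag I) : CommRingCat.{u}))

/-- The cocone maps, as ring maps. -/
noncomputable def ofRing (i : Idx I) : i.Obj →+* Hz I := (colimit.ι (diag I) i).hom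

theorem ofRing_comp {i j : Idx I} (f : i.Obj →ₐ[A] j.Obj) (x : i.Obj) :
    ofRing I j (f x) = ofRing I i x :=
  ConcreteCategory.congr_hom (colimit.w (diag I) (f : i ⟶ j)) x

noncomputable instance : Algebra A (Hz I) :=
  ((ofRing I Idx.base).comp (algebraMap A Idx.base.Obj)).toAlgebra

theorem ofRing_algebraMap (i : Idx I) (a : A) :
    ofRing I i (algebraMap A i.Obj a) = algebraMap A (Hz I) a := by
  obtain ⟨⟨k, fi, fb, -⟩⟩ : Nonempty (Σ' (k : Idx I) (_ : i ⟶ k) (_ : (Idx.base : Idx I) ⟶ k),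
      True) := by
    obtain ⟨k, f, g, -⟩ := IsFilteredOrEmpty.cocone_objs i (Idx.base : Idx I)
    exact ⟨⟨k, f, g, trivial⟩⟩
  rw [← ofRing_comp I fi, AlgHom.commutes]
  show _ = ofRing I Idx.base (algebraMap A Idx.base.Obj a)
  rw [← ofRing_comp I fb (algebraMap A Idx.base.Obj a), AlgHom.commutes]

/-- The cocone maps, as algebra maps. -/
noncomputable def of (i : Idx I) : i.Obj →ₐ[A] Hz I :=
  { ofRing I i with commutes' := ofRing_algebraMap I i }

variable {I}

theorem of_comp {i j : Idx I} (f : i.Obj →ₐ[A] j.Obj) : (of I j).comp f = of I i :=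
  AlgHom.ext (ofRing_comp I f)

theorem exists_of (x : Hz I) : ∃ (i : Idx I) (y : i.Obj), of I i y = x :=
  Concrete.colimit_exists_rep (diag I) x

theorem of_eq_of {i : Idx I} {x y : i.Obj} (h : of I i x = of I i y) :
    ∃ (j : Idx I) (f : i.Obj →ₐ[A] j.Obj), f x = f y := by
  obtain ⟨k, f, g, hfg⟩ := (Concrete.colimit_rep_eq_iff_exists (diag I) x y).1 h
  refine ⟨IsFiltered.coeq f g, (f ≫ IsFiltered.coeqHom f g : i ⟶ _), ?_⟩
  have hc := IsFiltered.coeq_condition f g
  have : (IsFiltered.coeqHom f g).toRingHom ((show i.Obj →ₐ[A] k.Obj from f) x) =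
      (IsFiltered.coeqHom f g).toRingHom ((show i.Obj →ₐ[A] k.Obj from g) y) := congrArg _ hfg
  conv_rhs => rw [hc]
  exact this

/-- Every finite family comes from one stage. -/
theorem exists_of_fintype {ι : Type*} [Finite ι] (x : ι → Hz I) :
    ∃ (i : Idx I) (y : ι → i.Obj), ∀ k, of I i (y k) = x k := by
  choose i y h using fun k => exists_of (x k)
  classical
  have := Fintype.ofFinite ι
  obtain ⟨S, hS⟩ := IsFiltered.sup_objs_exists (Finset.univ.image i)
  let f : ∀ k, (i k).Obj →ₐ[A] S.Obj := fun k => (hS (Finset.mem_image_of_mem i (Finset.mem_univ k))).some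
  exact ⟨S, fun k => f k (y k), fun k => (DFunLike.congr_fun (of_comp (f k)) _).trans (h k)⟩

/-- Maps out of the colimit. -/
theorem exists_desc {B : Type u} [CommRing B] [Algebra A B] (φ : ∀ i : Idx I, i.Obj →ₐ[A] B)
    (hφ : ∀ (i j : Idx I) (f : i.Obj →ₐ[A] j.Obj), (φ j).comp f = φ i) :
    ∃ g : Hz I →ₐ[A] B, ∀ i, g.comp (of I i) = φ i := by
  let c : Cocone (diag I) :=
    { pt := CommRingCat.of B
      ι := { app := fun i => CommRingCat.ofHom (φ i).toRingHom
             naturality := fun i j f => by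
              refine CommRingCat.hom_ext (RingHom.ext fun x => ?_)
              exact DFunLike.congr_fun (hφ i j f) x } }
  have h : ∀ i x, (colimit.desc (diag I) c).hom (of I i x) = φ i x := fun i x =>
    ConcreteCategory.congr_hom (colimit.ι_desc c i) x
  refine ⟨{ ((colimit.desc (diag I) c).hom : Hz I →+* B) with commutes' := fun a => ?_ },
    fun i => AlgHom.ext (h i)⟩
  show (colimit.desc (diag I) c).hom (algebraMap A (Hz I) a) = _
  rw [← ofRing_algebraMap I Idx.base a]
  exact (h Idx.base _).trans ((φ Idx.base).commutes a)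

theorem hom_ext {B : Type*} [CommRing B] [Algebra A B] {g g' : Hz I →ₐ[A] B}
    (h : ∀ i, g.comp (of I i) = g'.comp (of I i)) : g = g' := by
  refine AlgHom.ext fun x => ?_
  obtain ⟨i, y, rfl⟩ := exists_of x
  exact DFunLike.congr_fun (h i) y

/-- Every etale neighbourhood maps to the colimit. -/
theorem exists_algHom {A' : Type u} [CommRing A'] [Algebra A A'] (h : IsNbhd I A') :
    Nonempty (A' →ₐ[A] Hz I) :=
  let ⟨i, ⟨φ⟩⟩ := Idx.exists_hom h
  ⟨(of I i).comp φ⟩

variable (I)

theorem surj (x : Hz I) : ∃ a : A, x - algebraMap A (Hz I) a ∈ I.map (algebraMap A (Hz I)) := by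
  obtain ⟨i, y, rfl⟩ := exists_of x
  obtain ⟨a, ha⟩ := i.isNbhd.surj y
  exact ⟨a, by simpa using algHom_map_le (of I i) ha⟩

theorem exists_toQuotient : Nonempty (Hz I →ₐ[A] A ⧸ I) := by
  have key : ∀ {A' : Type u} [CommRing A'] [Algebra A A'], IsNbhd I A' →
      ∀ σ τ : A' →ₐ[A] A ⧸ I, σ = τ := by
    intro A' _ _ h σ τ
    refine AlgHom.ext fun x => ?_
    obtain ⟨a, ha⟩ := h.surj x
    have h1 := algHom_quotient_eq_zero σ ha
    have h2 := algHom_quotient_eq_zero τ ha
    rw [map_sub, AlgHom.commutes, sub_eq_zero] at h1 h2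
    rw [h1, h2]
  exact ⟨(exists_desc (fun i => i.isNbhd.exists_hom.some) fun i j f => key i.isNbhd _ _).choose⟩

theorem quotientMap_bijective : Function.Bijective
    (Ideal.quotientMap (I.map (algebraMap A (Hz I))) (algebraMap A (Hz I)) Ideal.le_comap_map) := by
  obtain ⟨σ⟩ := exists_toQuotient I
  constructor
  · rw [injective_iff_map_eq_zero]
    intro y hy
    obtain ⟨a, rfl⟩ := Ideal.Quotient.mk_surjective y
    rw [Ideal.quotientMap_mk, Ideal.Quotient.eq_zero_iff_mem] at hy
    have := algHom_quotient_eq_zero σ hy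
    rwa [σ.commutes] at this
  · intro y
    obtain ⟨x, rfl⟩ := Ideal.Quotient.mk_surjective y
    obtain ⟨a, ha⟩ := surj I x
    exact ⟨Ideal.Quotient.mk I a, by rw [Ideal.quotientMap_mk]; exact (Ideal.Quotient.eq.2 ha).symm⟩

theorem exists_mem_map_of {x : Hz I} (hx : x ∈ I.map (algebraMap A (Hz I))) :
    ∃ (i : Idx I) (y : i.Obj), of I i y = x ∧ y ∈ I.map (algebraMap A i.Obj) := by
  obtain ⟨i, y, rfl⟩ := exists_of x
  obtain ⟨σ⟩ := exists_toQuotient I
  obtain ⟨a, ha⟩ := i.isNbhd.surj y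
  refine ⟨i, y, rfl, ?_⟩
  have h1 : σ (of I i y) = 0 := algHom_quotient_eq_zero σ hx
  have h2 := algHom_quotient_eq_zero σ (algHom_map_le (of I i) ha)
  rw [map_sub, map_sub, h1, AlgHom.commutes, AlgHom.commutes, zero_sub, neg_eq_zero] at h2
  have := add_mem ha (Ideal.mem_map_of_mem (algebraMap A i.Obj)
    (Ideal.Quotient.eq_zero_iff_mem.1 h2))
  rwa [sub_add_cancel] at this

theorem jac : I.map (algebraMap A (Hz I)) ≤ Ideal.jacobson ⊥ := by
  intro x hx
  rw [Ideal.mem_jacobson_bot]
  intro y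
  obtain ⟨i, z, hz, hzmem⟩ := exists_mem_map_of I (Ideal.mul_mem_right y _ hx)
  have hn : IsNbhd I (Localization.Away (z + 1)) :=
    i.isNbhd.trans (isNbhd_away (e := z + 1) (by simpa using hzmem) _)
  obtain ⟨k, ⟨φ⟩⟩ := Idx.exists_hom hn
  rw [← hz, ← map_one (of I i), ← map_add,
    ← DFunLike.congr_fun (of_comp (φ.comp (IsScalarTower.toAlgHom A i.Obj _))) (z + 1)]
  exact ((IsLocalization.Away.algebraMap_isUnit (z + 1)).map φ).map (of I k)

theorem henselianRing : HenselianRing (Hz I) (I.map (algebraMap A (Hz I))) := by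
  refine ⟨jac I, fun f hf a₀ h₁ h₂ => ?_⟩
  obtain ⟨i, c, hc⟩ := exists_of_fintype
    (fun k : Option (Fin f.natDegree) => k.elim a₀ fun k => f.coeff k)
  set g : i.Obj[X] := X ^ f.natDegree + ∑ k : Fin f.natDegree, C (c (some k)) * X ^ (k : ℕ)
  have hgm : g.Monic := monic_X_pow_add <| by
    refine (degree_sum_le _ _).trans_lt ((Finset.sup_lt_iff (WithBot.bot_lt_coe _)).2 fun k _ => ?_)
    exact (degree_C_mul_X_pow_le _ _).trans_lt (WithBot.coe_lt_coe.2 k.2)
  have hgf : g.map (of I i).toRingHom = f := by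
    conv_rhs => rw [hf.as_sum]
    simp only [g, Polynomial.map_add, Polynomial.map_pow, map_X, Polynomial.map_sum,
      Polynomial.map_mul, map_C]
    rw [Finset.sum_range]
    congr 1
    refine Finset.sum_congr rfl fun k _ => ?_
    congr 2
    exact hc (some k)
  set ξ := c none
  have hξ : of I i ξ = a₀ := hc none
  have hev : ∀ p : i.Obj[X], of I i (p.eval ξ) = (p.map (of I i).toRingHom).eval a₀ := fun p => by
    rw [← hξ]; exact (eval_map_apply (of I i).toRingHom ξ).symm
  obtain ⟨σ⟩ := exists_toQuotient I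
  have back : ∀ z : i.Obj, of I i z ∈ I.map (algebraMap A (Hz I)) →
      z ∈ I.map (algebraMap A i.Obj) := by
    intro z hz
    obtain ⟨a, ha⟩ := i.isNbhd.surj z
    have h1 : σ (of I i z) = 0 := algHom_quotient_eq_zero σ hz
    have h2 := algHom_quotient_eq_zero σ (algHom_map_le (of I i) ha)
    rw [map_sub, map_sub, h1, AlgHom.commutes, AlgHom.commutes, zero_sub, neg_eq_zero] at h2
    simpa using add_mem ha (Ideal.mem_map_of_mem (algebraMap A i.Obj)
      (Ideal.Quotient.eq_zero_iff_mem.1 h2))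
  have hg1 : g.eval ξ ∈ I.map (algebraMap A i.Obj) := back _ (by rw [hev, hgf]; exact h₁)
  have hg2 : IsUnit (Ideal.Quotient.mk (I.map (algebraMap A i.Obj)) (g.derivative.eval ξ)) := by
    obtain ⟨b, hb⟩ := isUnit_iff_exists_inv.1 h₂
    obtain ⟨b, rfl⟩ := Ideal.Quotient.mk_surjective b
    obtain ⟨b', hb'⟩ := surj I b
    rw [← map_mul, ← map_one (Ideal.Quotient.mk _), Ideal.Quotient.eq] at hb
    refine isUnit_iff_exists_inv.2 ⟨Ideal.Quotient.mk _ (algebraMap A i.Obj b'), ?_⟩
    rw [← map_mul, ← map_one (Ideal.Quotient.mk _), Ideal.Quotient.eq]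
    refine back _ ?_
    rw [map_sub, map_one, map_mul, hev, ← derivative_map, hgf, AlgHom.commutes]
    have h3 := sub_mem hb (Ideal.mul_mem_left _ (f.derivative.eval a₀) hb')
    convert h3 using 1
    ring
  obtain ⟨P, hP, hP0, hPX⟩ := exists_isNbhd_isRoot hgm hg1 hg2
  let _ : Algebra A P.Ring := ((algebraMap i.Obj P.Ring).comp (algebraMap A i.Obj)).toAlgebra
  have : IsScalarTower A i.Obj P.Ring := IsScalarTower.of_algebraMap_eq fun _ => rfl
  obtain ⟨k, ⟨φ⟩⟩ := Idx.exists_hom (i.isNbhd.trans hP)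
  set ψ := (of I k).comp φ
  have hψ : ψ.toRingHom.comp (algebraMap i.Obj P.Ring) = (of I i).toRingHom :=
    congrArg AlgHom.toRingHom (of_comp (φ.comp (IsScalarTower.toAlgHom A i.Obj P.Ring)))
  refine ⟨ψ P.X, ?_, ?_⟩
  · have := congrArg ψ.toRingHom hP0
    rw [aeval_def, hom_eval₂, hψ, map_zero, ← eval_map, hgf] at this
    exact this
  · have h := algHom_map_le (I := I) ψ (x := P.X - algebraMap i.Obj P.Ring ξ) (by
      rw [IsScalarTower.algebraMap_eq A i.Obj P.Ring, ← Ideal.map_map]; exact hPX)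
    rw [map_sub] at h
    rwa [show ψ (algebraMap i.Obj P.Ring ξ) = a₀ from (RingHom.congr_fun hψ ξ).trans hξ] at h

theorem flat : Module.Flat A (Hz I) := by
  rw [Module.Flat.iff_forall_isTrivialRelation]
  intro l f x hx
  obtain ⟨i, y, hy⟩ := exists_of_fintype x
  have hsum : of I i (∑ k, f k • y k) = of I i 0 := by
    rw [map_zero, map_sum, ← hx]
    exact Finset.sum_congr rfl fun k _ => by rw [map_smul, hy]
  obtain ⟨j, φ, hφ⟩ := of_eq_of hsum
  rw [map_zero, map_sum] at hφ
  simp only [map_smul] at hφ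
  have := j.isNbhd.etale
  have : Module.Flat A j.Obj := inferInstance
  obtain ⟨k, a, z, hz, ha⟩ := Module.Flat.iff_forall_isTrivialRelation.1 this hφ
  refine ⟨k, a, fun t => of I j (z t), fun s => ?_, ha⟩
  have hzs : φ (y s) = ∑ t, a s t • z t := hz s
  rw [← hy s, ← DFunLike.congr_fun (of_comp φ) (y s), AlgHom.comp_apply, hzs, map_sum]
  exact Finset.sum_congr rfl fun t _ => by rw [map_smul]

end Groth.HensPair
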