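import Groth.Agent.HensPair.SteinUnibranch
import Groth.Agent.Divisors.BlowUpBasic

/-! Blow-ups of integral schemes are integral and birational. -/

set_option autoImplicit false
universe u

open CategoryTheory CategoryTheory.Limits AlgebraicGeometry TopologicalSpace Opposite

namespace Groth.HensPair

theorem surjective_stalkToFunctionField {X Y : Scheme.{u}} [IsIntegral X] [IsIntegral Y] (f : X ⟶ Y)
    (hgen : f.base (genericPoint X) = genericPoint Y) (hbir : IsIso (f.stalkMap (genericPoint X)))
    (hdom : f.base (genericPoint X) ⤳ genericPoint Y) :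
    Function.Surjective (CohIII.stalkToFunctionField f (genericPoint Y) hdom) := by
  intro x
  have h1 : Function.Bijective (f.stalkMap (genericPoint X)).hom :=
    (ConcreteCategory.isIso_iff_bijective _).1 hbir
  have h2 : Function.Surjective (Y.presheaf.stalkSpecializes hdom).hom := fun z => by
    refine ⟨(Y.presheaf.stalkSpecializes (Inseparable.specializes (hgen ▸ Inseparable.rfl) :
      genericPoint Y ⤳ f.base (genericPoint X))).hom z, ?_⟩
    show ((Y.presheaf.stalkSpecializes _) ≫ (Y.presheaf.stalkSpecializes hdom)).hom z = z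
    rw [TopCat.Presheaf.stalkSpecializes_comp, TopCat.Presheaf.stalkSpecializes_refl]
    rfl
  obtain ⟨a, ha⟩ := h1.2 x
  obtain ⟨b, hb⟩ := h2 a
  exact ⟨b, (congrArg (f.stalkMap (genericPoint X)).hom hb).trans ha⟩

theorem exists_maximal_specializes {X : Scheme.{u}} (x : X) :
    ∃ z : X, z ⤳ x ∧ ∀ y : X, y ⤳ z → y = z := by
  have hirr : IsIrreducible (irreducibleComponent x) := isIrreducible_irreducibleComponent
  obtain ⟨z, hz⟩ := QuasiSober.sober hirr isClosed_irreducibleComponent
  refine ⟨z, hz.specializes mem_irreducibleComponent, fun y hy => ?_⟩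
  have h : irreducibleComponent x = closure {y} := eq_irreducibleComponent isIrreducible_singleton.isPreirreducible.closure
    (hz.def ▸ specializes_iff_closure_subset.1 hy) ▸ rfl
  exact (IsGenericPoint.eq (h.symm : IsGenericPoint y (irreducibleComponent x)) hz)

theorem isIntegral_blowUp {X X' : Scheme.{u}} [IsIntegral X] {b : X' ⟶ X} {I : X.IdealSheafData}
    (hb : BlowUp.IsBlowUp b I) (hξ : genericPoint X ∉ I.support) : IsIntegral X' := by
  have hbij := Groth.Divisors.maximalPoints_bijOn hb
  have huniq : ∀ z, (∀ y : X', y ⤳ z → y = z) → b z = genericPoint X := fun z hz =>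
    ((hbij.mapsTo hz).1 _ ((genericPoint_spec X).specializes (Set.mem_univ _))).symm
  obtain ⟨ξ', hξ', -⟩ := hbij.surjOn
    ⟨fun y hy => hy.antisymm ((genericPoint_spec X).specializes (Set.mem_univ _)) |>.eq, hξ⟩
  have hall : closure {ξ'} = (Set.univ : Set X') := Set.eq_univ_of_forall fun x => by
    obtain ⟨z, hzx, hz⟩ := exists_maximal_specializes x
    rw [hbij.injOn hz hξ' ((huniq z hz).trans (huniq ξ' hξ').symm)] at hzx
    exact hzx.mem_closure
  have hpre : PreirreducibleSpace X' := ⟨hall ▸ isIrreducible_singleton.isPreirreducible.closure⟩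
  have : IrreducibleSpace X' := { toPreirreducibleSpace := hpre, toNonempty := ⟨ξ'⟩ }
  have := Groth.Divisors.isReduced_blowUp hb
  exact isIntegral_of_irreducibleSpace_of_isReduced X'

theorem blowUp_genericPoint {X X' : Scheme.{u}} [IsIntegral X] [IsIntegral X'] {b : X' ⟶ X}
    {I : X.IdealSheafData} (hb : BlowUp.IsBlowUp b I) :
    b (genericPoint X') = genericPoint X ∧ IsIso (b.stalkMap (genericPoint X')) := by
  have h := (Groth.Divisors.maximalPoints_bijOn hb).mapsTo (x := genericPoint X')
    fun y hy => hy.antisymm ((genericPoint_spec X').specializes (Set.mem_univ _)) |>.eq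
  exact ⟨(h.1 _ ((genericPoint_spec X).specializes (Set.mem_univ _))).symm,
    Groth.Divisors.isIso_stalkMap_off hb _ h.2⟩

theorem isEmpty_blowUp_of_support_eq_univ {X X' : Scheme.{u}} {b : X' ⟶ X} {I : X.IdealSheafData}
    (hb : BlowUp.IsBlowUp b I) (h : (I.support : Set X) = Set.univ) : IsEmpty X' := by
  refine ⟨fun x => ?_⟩
  obtain ⟨z, -, hz⟩ := exists_maximal_specializes x
  exact ((Groth.Divisors.maximalPoints_bijOn hb).mapsTo hz).2 (h.ge (Set.mem_univ _))

end Groth.HensPair
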