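import Groth.Agent.HensPair.SteinRadicial
import Groth.Agent.HensPair.BlowUpUnibranch
import Mathlib.RingTheory.DedekindDomain.PID
import Mathlib.RingTheory.Valuation.ValuationRing

/-! Stein factorisation near a normal point when the base is algebraically closed in the function field. -/

set_option autoImplicit false
universe u

open CategoryTheory CategoryTheory.Limits AlgebraicGeometry TopologicalSpace Opposite

namespace Groth.HensPair

variable {X Y : Scheme.{u}}

theorem isIso_app_of_local (f : X ⟶ Y) (h : ∀ y : Y, ∃ U : Y.Opens, y ∈ U ∧ ∀ V : Y.Opens, V ≤ U → IsIso (f.app V))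
    (V : Y.Opens) : IsIso (f.app V) := by
  let φ : Y.sheaf ⟶ (TopCat.Sheaf.pushforward CommRingCat f.base).obj X.sheaf := ⟨f.c⟩
  let B : {W : Y.Opens // IsIso (f.app W)} → Y.Opens := fun W => W.1
  have hb : Opens.IsBasis (Set.range B) := by
    rw [Opens.isBasis_iff_nbhd]
    intro W y hy
    obtain ⟨U, hyU, hU⟩ := h y
    exact ⟨W ⊓ U, ⟨⟨W ⊓ U, hU _ inf_le_right⟩, rfl⟩, ⟨hy, hyU⟩, inf_le_left⟩
  have : IsIso φ := TopCat.Sheaf.isIso_iff_isIso_basis hb fun i => i.2
  have hc : IsIso f.c := inferInstanceAs (IsIso ((TopCat.Sheaf.forget CommRingCat _).map φ))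
  exact inferInstanceAs (IsIso (f.c.app (op V)))

theorem isIso_app_of_le (f : X ⟶ Y) [QuasiCompact f] [QuasiSeparated f] {U : Y.Opens} (hU : IsAffineOpen U)
    [hiso : IsIso (f.app U)] {V : Y.Opens} (hV : V ≤ U) : IsIso (f.app V) := by
  let g := f ∣_ U
  have hsq := (isPullback_morphismRestrict f U).flip
  have : QuasiCompact g := MorphismProperty.of_isPullback hsq ‹_›
  have : QuasiSeparated g := MorphismProperty.of_isPullback hsq ‹_›
  have : IsAffine U.toScheme := hU
  have heq : ∀ W : U.toScheme.Opens, IsIso (g.app W) ↔ IsIso (f.app (U.ι ''ᵁ W)) := by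
    intro W
    have h3 : IsIso ((X.presheaf.map (eqToHom (image_morphismRestrict_preimage f U W)).op)) := by
      have h := isIso_op (eqToHom (image_morphismRestrict_preimage f U W))
      exact Functor.map_isIso X.presheaf _
    rw [morphismRestrict_app]
    exact ⟨fun h => @IsIso.of_isIso_comp_right _ _ _ _ _ _ _ h3 h, fun h => IsIso.comp_isIso' h h3⟩
  have hg : ∀ W, IsIso (g.app W) := by
    refine isIso_app_of_local' ?_
    intro W y hy
    obtain ⟨_, ⟨_, ⟨r, rfl⟩, rfl⟩, hyr, hrW⟩ :=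
      (isBasis_basicOpen U.toScheme).exists_subset_of_mem_open hy W.2
    refine ⟨U.toScheme.basicOpen r, hyr, hrW, ?_⟩
    have h2 : ∀ O : Y.Opens, O = U → IsIso (f.app O) := fun O hO => by subst hO; exact hiso
    have : IsIso (g.app ⊤) := (heq ⊤).2 (h2 _ (Scheme.Opens.ι_image_top _))
    exact isIso_app_basicOpen g (isAffineOpen_top U.toScheme) r
  have h1 := (heq (U.ι ⁻¹ᵁ V)).1 (hg _)
  have h2 : ∀ O : Y.Opens, O = V → IsIso (f.app (U.ι ''ᵁ (U.ι ⁻¹ᵁ V))) → IsIso (f.app O) → IsIso (f.app V) :=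
    fun O hO _ h => by subst hO; exact h
  exact h2 _ (by rw [Scheme.Hom.image_preimage_eq_opensRange_inf, Scheme.Opens.opensRange_ι]; exact inf_eq_right.2 hV) h1 h1
where
  isIso_app_of_local' {X Y : Scheme.{u}} {g : X ⟶ Y}
      (h : ∀ (W : Y.Opens) (y : Y), y ∈ W → ∃ B : Y.Opens, y ∈ B ∧ B ≤ W ∧ IsIso (g.app B)) :
      ∀ W, IsIso (g.app W) := by
    let φ : Y.sheaf ⟶ (TopCat.Sheaf.pushforward CommRingCat g.base).obj X.sheaf := ⟨g.c⟩
    let B : {W : Y.Opens // IsIso (g.app W)} → Y.Opens := fun W => W.1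
    have hb : Opens.IsBasis (Set.range B) := by
      rw [Opens.isBasis_iff_nbhd]
      intro W y hy
      obtain ⟨O, hyO, hOW, hO⟩ := h W y hy
      exact ⟨O, ⟨⟨O, hO⟩, rfl⟩, hyO, hOW⟩
    have : IsIso φ := TopCat.Sheaf.isIso_iff_isIso_basis hb fun i => i.2
    have hc : IsIso g.c := inferInstanceAs (IsIso ((TopCat.Sheaf.forget CommRingCat _).map φ))
    exact fun W => inferInstanceAs (IsIso (g.c.app (op W)))

variable [IsIntegral X] [IsIntegral Y]

/-- A function on the preimage algebraic over the base comes from the base after inverting one function. -/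
theorem exists_mul_eq_of_isIntegrallyClosed (f : X ⟶ Y) [IsProper f]
    (hdom : f.base (genericPoint X) ⤳ genericPoint Y)
    (halg : ∀ x : X.functionField,
      (∃ q : Polynomial Y.functionField, q ≠ 0 ∧
        Polynomial.eval₂ (CohIII.stalkToFunctionField f (genericPoint Y) hdom) x q = 0) →
      x ∈ Set.range (CohIII.stalkToFunctionField f (genericPoint Y) hdom))
    {U : Y.Opens} (hU : IsAffineOpen U) {y : Y} (hyU : y ∈ U) (hy : IsIntegrallyClosed (Y.presheaf.stalk y))
    (b : Γ(X, f ⁻¹ᵁ U)) : ∃ s c : Γ(Y, U), y ∈ Y.basicOpen s ∧ b * f.app U s = f.app U c := by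
  have hη : genericPoint Y ∈ U := ((genericPoint_spec Y).mem_open_set_iff U.2).2 ⟨y, trivial, hyU⟩
  have hξ : genericPoint X ∈ f ⁻¹ᵁ U := hdom.mem_open U.2 hη
  have : Nonempty U := ⟨⟨_, hη⟩⟩
  have : Nonempty (f ⁻¹ᵁ U) := ⟨⟨_, hξ⟩⟩
  let σ₀ := CohIII.stalkToFunctionField f (genericPoint Y) hdom
  let γ := X.germToFunctionField (f ⁻¹ᵁ U)
  have hσ : ∀ a, γ (f.app U a) = σ₀ (Y.germToFunctionField U a) := fun a => by
    show _ = f.stalkMap (genericPoint X)
      (Y.presheaf.stalkSpecializes hdom (Y.presheaf.germ U (genericPoint Y) hη a))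
    rw [TopCat.Presheaf.germ_stalkSpecializes_apply, Scheme.Hom.germ_stalkMap_apply]
  obtain ⟨F, hF, hF0⟩ := isIntegral_app_of_universallyClosed f hU b
  have hev : Polynomial.eval₂ σ₀ (γ b) (F.map (Y.germToFunctionField U).hom) = 0 := by
    have h1 := congrArg γ.hom hF0
    rw [Polynomial.hom_eval₂, map_zero] at h1
    rw [Polynomial.eval₂_map]
    refine (congrArg (fun ρ : Γ(Y, U) →+* X.functionField => F.eval₂ ρ (γ b)) ?_).trans h1
    exact RingHom.ext fun (a : Γ(Y, U)) => (hσ a).symm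
  obtain ⟨r, hr⟩ := halg (γ b) ⟨_, (hF.map _).ne_zero, hev⟩
  let O := Y.presheaf.stalk y
  let yU : U := ⟨y, hyU⟩
  let _ : Algebra Γ(Y, U) O := (Y.presheaf.germ U y hyU).hom.toAlgebra
  have := hU.isLocalization_stalk yU
  have : IsScalarTower Γ(Y, U) O Y.functionField := functionField_isScalarTower Y U yU
  have hint : IsIntegral O r := by
    refine IsIntegral.tower_top (R := Γ(Y, U)) ⟨F, hF, ?_⟩
    refine σ₀.injective ?_
    rw [Polynomial.hom_eval₂, map_zero, hr]
    rw [Polynomial.eval₂_map] at hev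
    exact hev
  obtain ⟨z, rfl⟩ := IsIntegrallyClosed.isIntegral_iff.1 hint
  obtain ⟨c, ⟨s, hs⟩, rfl⟩ := IsLocalization.exists_mk'_eq (hU.primeIdealOf yU).asIdeal.primeCompl z
  refine ⟨s, c, not_not.1 fun h => hs ((mem_primeIdealOf_iff' hU yU s).2 h), ?_⟩
  refine X.germToFunctionField_injective (f ⁻¹ᵁ U) ?_
  show γ.hom (b * f.app U s) = γ.hom (f.app U c)
  rw [map_mul]
  show γ b * γ (f.app U s) = γ (f.app U c)
  rw [hσ, hσ, ← hr, ← map_mul]
  congr 1
  show algebraMap O Y.functionField (IsLocalization.mk' O c ⟨s, hs⟩) * algebraMap Γ(Y, U) Y.functionField s =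
    algebraMap Γ(Y, U) Y.functionField c
  rw [IsScalarTower.algebraMap_apply Γ(Y, U) O Y.functionField, ← map_mul, IsLocalization.mk'_spec O c ⟨s, hs⟩,
    ← IsScalarTower.algebraMap_apply]
where
  mem_primeIdealOf_iff' {X : Scheme.{u}} {U : X.Opens} (hU : IsAffineOpen U) (x : U) (a : Γ(X, U)) :
      a ∈ (hU.primeIdealOf x).asIdeal ↔ (x : X) ∉ X.basicOpen a := by
    let _ : Algebra Γ(X, U) (X.presheaf.stalk x) := (X.presheaf.germ U x x.2).hom.toAlgebra
    have := hU.isLocalization_stalk x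
    rw [X.mem_basicOpen a x x.2]
    exact not_not.symm.trans (not_congr (IsLocalization.AtPrime.isUnit_to_map_iff
      (X.presheaf.stalk x) (hU.primeIdealOf x).asIdeal a).symm)

/-- Near a normal point the direct image of functions is trivial. -/
theorem exists_affine_isIso_app (f : X ⟶ Y) [IsProper f] [IsLocallyNoetherian Y] (hPF : CohFin.ProjFinite.{u})
    (hdom : f.base (genericPoint X) ⤳ genericPoint Y)
    (halg : ∀ x : X.functionField,
      (∃ q : Polynomial Y.functionField, q ≠ 0 ∧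
        Polynomial.eval₂ (CohIII.stalkToFunctionField f (genericPoint Y) hdom) x q = 0) →
      x ∈ Set.range (CohIII.stalkToFunctionField f (genericPoint Y) hdom))
    (y : Y) (hy : IsIntegrallyClosed (Y.presheaf.stalk y)) :
    ∃ U : Y.Opens, IsAffineOpen U ∧ y ∈ U ∧ IsIso (f.app U) := by
  classical
  obtain ⟨_, ⟨U, hU, rfl⟩, hyU, -⟩ :=
    Y.isBasis_affineOpens.exists_subset_of_mem_open (Set.mem_univ y) isOpen_univ
  replace hU : IsAffineOpen U := hU
  have hη : genericPoint Y ∈ U := ((genericPoint_spec Y).mem_open_set_iff U.2).2 ⟨y, trivial, hyU⟩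
  have hξ : genericPoint X ∈ f ⁻¹ᵁ U := hdom.mem_open U.2 hη
  obtain ⟨G, hG⟩ := (finite_app_of_proper f hPF hU).finiteType
    |> fun _ => (by
      let _ := (f.app U).hom.toAlgebra
      exact (finite_app_of_proper f hPF hU).fg_top :
      letI := (f.app U).hom.toAlgebra; (⊤ : Submodule Γ(Y, U) Γ(X, f ⁻¹ᵁ U)).FG)
  choose s c hys hsc using exists_mul_eq_of_isIntegrallyClosed f hdom halg hU hyU hy
  let t := ∏ g ∈ G, s g
  have hyt : y ∈ Y.basicOpen t := by
    rw [Y.mem_basicOpen t y hyU, map_prod]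
    exact IsUnit.prod_iff.2 fun g _ => (Y.mem_basicOpen (s g) y hyU).1 (hys g)
  have hall : ∀ b : Γ(X, f ⁻¹ᵁ U), ∃ d, b * f.app U t = f.app U d := by
    intro b
    let _ := (f.app U).hom.toAlgebra
    have hb : b ∈ Submodule.span Γ(Y, U) (G : Set Γ(X, f ⁻¹ᵁ U)) := hG ▸ Submodule.mem_top
    induction hb using Submodule.span_induction with
    | mem g hg =>
      refine ⟨c g * ∏ h ∈ G.erase g, s h, ?_⟩
      rw [map_mul, ← hsc g, mul_assoc, ← map_mul, Finset.mul_prod_erase _ _ (Finset.mem_coe.1 hg)]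
    | zero => exact ⟨0, by rw [zero_mul, map_zero]⟩
    | add x z _ _ hx hz =>
      obtain ⟨d, hd⟩ := hx
      obtain ⟨e, he⟩ := hz
      exact ⟨d + e, by rw [add_mul, hd, he, map_add]⟩
    | smul a x _ hx =>
      obtain ⟨d, hd⟩ := hx
      refine ⟨a * d, ?_⟩
      rw [Algebra.smul_def, mul_assoc, hd, map_mul]
      rfl
  refine ⟨Y.basicOpen t, hU.basicOpen t, hyt, ?_⟩
  rw [ConcreteCategory.isIso_iff_bijective]
  constructor
  · intro a a' h
    have : Nonempty (Y.basicOpen t) := ⟨⟨y, hyt⟩⟩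
    have hη' : genericPoint Y ∈ Y.basicOpen t :=
      ((genericPoint_spec Y).mem_open_set_iff (Y.basicOpen t).2).2 ⟨y, trivial, hyt⟩
    refine Y.germToFunctionField_injective (Y.basicOpen t)
      ((CohIII.stalkToFunctionField f (genericPoint Y) hdom).injective ?_)
    show f.stalkMap (genericPoint X) (Y.presheaf.stalkSpecializes hdom (Y.presheaf.germ _ _ hη' a)) =
      f.stalkMap (genericPoint X) (Y.presheaf.stalkSpecializes hdom (Y.presheaf.germ _ _ hη' a'))
    rw [TopCat.Presheaf.germ_stalkSpecializes_apply, TopCat.Presheaf.germ_stalkSpecializes_apply,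
      Scheme.Hom.germ_stalkMap_apply, Scheme.Hom.germ_stalkMap_apply]
    exact congrArg _ h
  · intro x
    let _ : Algebra Γ(X, f ⁻¹ᵁ U) Γ(X, X.basicOpen (f.app U t)) :=
      (X.presheaf.map (homOfLE (X.basicOpen_le _)).op).hom.toAlgebra
    have := isLocalization_basicOpen_of_qcqs (f.isCompact_preimage hU.isCompact)
      (f.isQuasiSeparated_preimage hU.isQuasiSeparated) (f.app U t)
    have he : f ⁻¹ᵁ Y.basicOpen t = X.basicOpen (f.app U t) := Scheme.preimage_basicOpen f t
    obtain ⟨b, ⟨_, m, rfl⟩, hbm⟩ := IsLocalization.exists_mk'_eq (Submonoid.powers (f.app U t))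
      (X.presheaf.map (eqToHom he.symm).op x)
    obtain ⟨d, hd⟩ := hall b
    let _ : Algebra Γ(Y, U) Γ(Y, Y.basicOpen t) := (Y.presheaf.map (homOfLE (Y.basicOpen_le _)).op).hom.toAlgebra
    have := hU.isLocalization_basicOpen t
    refine ⟨IsLocalization.mk' _ d (⟨t ^ (m + 1), m + 1, rfl⟩ : Submonoid.powers t), ?_⟩
    refine (ConcreteCategory.bijective_of_isIso (X.presheaf.map (eqToHom he.symm).op)).1 ?_
    rw [← hbm, IsLocalization.eq_mk'_iff_mul_eq]
    have hres : ∀ a : Γ(Y, U), X.presheaf.map (eqToHom he.symm).op (f.app (Y.basicOpen t) (algebraMap Γ(Y, U) _ a)) =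
        algebraMap Γ(X, f ⁻¹ᵁ U) Γ(X, X.basicOpen (f.app U t)) (f.app U a) := by
      intro a
      show (Y.presheaf.map _ ≫ f.app (Y.basicOpen t) ≫ X.presheaf.map _) a = (f.app U ≫ X.presheaf.map _) a
      congr 2
      rw [← Category.assoc, Scheme.Hom.naturality, Category.assoc, ← X.presheaf.map_comp]
      rfl
    have hspec := IsLocalization.mk'_spec Γ(Y, Y.basicOpen t) d (⟨t ^ (m + 1), m + 1, rfl⟩ : Submonoid.powers t)
    have h1 := congrArg (fun a => X.presheaf.map (eqToHom he.symm).op (f.app (Y.basicOpen t) a)) hspec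
    simp only [map_mul, hres] at h1
    generalize X.presheaf.map (eqToHom he.symm).op (f.app (Y.basicOpen t)
      (IsLocalization.mk' Γ(Y, Y.basicOpen t) d (⟨t ^ (m + 1), m + 1, rfl⟩ : Submonoid.powers t))) = q at h1 ⊢
    rw [← hd, map_pow, map_pow, pow_succ, map_mul (algebraMap Γ(X, f ⁻¹ᵁ U) _) b, ← mul_assoc] at h1
    have hu : IsUnit (algebraMap Γ(X, f ⁻¹ᵁ U) Γ(X, X.basicOpen (f.app U t)) (f.app U t)) :=
      IsLocalization.map_units _ (⟨f.app U t, 1, pow_one _⟩ : Submonoid.powers (f.app U t))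
    show _ * algebraMap _ _ (f.app U t ^ m) = _
    rw [map_pow]
    exact hu.mul_right_cancel h1

end Groth.HensPair

namespace Groth.HensPair

theorem valuationRing_of_krullDim_lt_two {O : Type u} [CommRing O] [IsDomain O] [IsLocalRing O]
    [IsNoetherianRing O] [IsIntegrallyClosed O] (h : ringKrullDim O < 2) : ValuationRing O := by
  have h1 : ringKrullDim O < ((1 : ℕ) : WithBot ℕ∞) + 1 := h.trans_le (by norm_num)
  have : Ring.KrullDimLE 1 O := Ring.krullDimLE_iff.2 (Order.le_of_lt_succ (by exact_mod_cast h1))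
  have : Ring.DimensionLEOne O := ⟨fun {P} hne hP => (Ring.krullDimLE_one_iff.1 ‹_› P hP).resolve_left fun hmin => hne (by
    rw [IsDomain.minimalPrimes_eq_singleton_bot, Set.mem_singleton_iff] at hmin; exact hmin)⟩
  have : IsDedekindDomain O := {}
  have : IsPrincipalIdealRing O := IsPrincipalIdealRing.of_finite_primes (Set.Finite.subset
    (Set.finite_singleton (IsLocalRing.maximalIdeal O) |>.insert ⊥) fun P hP => by
      rcases eq_or_ne P ⊥ with rfl | hne
      · exact Or.inl rfl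
      · exact Or.inr (IsLocalRing.eq_maximalIdeal (hP.isMaximal hne)))
  infer_instance

variable {X Y : Scheme.{u}} [IsIntegral X] [IsIntegral Y]

theorem quasiFiniteAt_of_valuationRing (f : X ⟶ Y) (hdom : f.base (genericPoint X) ⤳ genericPoint Y)
    (hsurj : Function.Surjective (CohIII.stalkToFunctionField f (genericPoint Y) hdom)) (x : X)
    (hO : ValuationRing (Y.presheaf.stalk (f x))) : f.QuasiFiniteAt x := by
  let σ₀ := CohIII.stalkToFunctionField f (genericPoint Y) hdom
  let π := f.stalkMap x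
  let τ : X.presheaf.stalk x →+* X.functionField := algebraMap _ _
  have hτ : Function.Injective τ := IsFractionRing.injective _ _
  have hcomm : ∀ a, τ (π a) = σ₀ (algebraMap (Y.presheaf.stalk (f x)) Y.functionField a) := by
    intro a
    have hsp := (genericPoint_spec X).specializes (Set.mem_univ x)
    show (f.stalkMap x ≫ X.presheaf.stalkSpecializes hsp) a =
      f.stalkMap (genericPoint X) ((Y.presheaf.stalkSpecializes ((genericPoint_spec Y).specializes (Set.mem_univ _)) ≫
        Y.presheaf.stalkSpecializes hdom) a)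
    rw [TopCat.Presheaf.stalkSpecializes_comp, ← Scheme.Hom.stalkSpecializes_stalkMap]
    rfl
  have hπ : Function.Bijective π := by
    refine ⟨fun a b h => ?_, fun c => ?_⟩
    · refine IsFractionRing.injective (Y.presheaf.stalk (f x)) Y.functionField (σ₀.injective ?_)
      rw [← hcomm, ← hcomm, h]
    · obtain ⟨r, hr⟩ := hsurj (τ c)
      rcases ValuationRing.isInteger_or_isInteger (Y.presheaf.stalk (f x)) r with ⟨a, ha⟩ | ⟨a, ha⟩
      · exact ⟨a, hτ (by rw [hcomm, ha]; exact hr)⟩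
      · by_cases hr0 : r = 0
        · exact ⟨0, hτ (by rw [map_zero, map_zero, ← hr, hr0, map_zero])⟩
        · have h1 : π a * c = 1 := hτ (by
            rw [map_mul, hcomm, ha, ← hr, ← map_mul, inv_mul_cancel₀ hr0, map_one, map_one])
          obtain ⟨v, hv⟩ := isUnit_of_map_unit π.hom a (IsUnit.of_mul_eq_one _ h1)
          refine ⟨((v⁻¹ : (Y.presheaf.stalk (f x))ˣ) : _), ?_⟩
          have h2 : π ((v⁻¹ : (Y.presheaf.stalk (f x))ˣ) : Y.presheaf.stalk (f x)) * π a = 1 := by
            rw [← map_mul, ← hv, Units.inv_mul, map_one]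
          exact left_inv_eq_right_inv h2 h1
  show π.hom.QuasiFinite
  exact RingHom.QuasiFinite.of_finite (RingHom.Finite.of_surjective _ hπ.2)

end Groth.HensPair
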