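import Groth.Prelude.Def_CAlg2
import Mathlib.RingTheory.IntegralClosure.IntegrallyClosed
import Mathlib.RingTheory.LocalRing.RingHom.Basic

/-! Normal local domains are unibranch. -/

set_option autoImplicit false
universe u

namespace Groth.HensPair

theorem isUnibranch_of_isIntegrallyClosed (A : Type u) [CommRing A] [IsLocalRing A] [IsDomain A]
    [IsIntegrallyClosed A] : CAlg2.IsUnibranch A := by
  have hnil : nilradical A = ⊥ := nilradical_eq_zero A
  let e : A ≃+* CAlg2.red A := ((Ideal.quotEquivOfEq hnil).trans (RingEquiv.quotientBot A)).symm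
  have : IsDomain (CAlg2.red A) := e.symm.toMulEquiv.isDomain
  have : IsIntegrallyClosed (CAlg2.red A) := IsIntegrallyClosed.of_equiv e
  have : IsLocalRing (CAlg2.red A) := e.isLocalRing
  refine ⟨‹_›, ?_⟩
  have hbot : integralClosure (CAlg2.red A) (FractionRing (CAlg2.red A)) = ⊥ :=
    IsIntegrallyClosed.integralClosure_eq_bot _ _
  exact ((Algebra.botEquivOfInjective (IsFractionRing.injective (CAlg2.red A) (FractionRing (CAlg2.red A)))).symm.trans
    (Subalgebra.equivOfEq _ _ hbot.symm)).toRingEquiv.isLocalRing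

end Groth.HensPair

namespace Groth.HensPair

theorem isUnibranch_of_ringEquiv {A B : Type u} [CommRing A] [CommRing B] [IsLocalRing A] [IsLocalRing B]
    (e : A ≃+* B) (h : CAlg2.IsUnibranch A) : CAlg2.IsUnibranch B := by
  have hnil : (nilradical A).map (e : A →+* B) = nilradical B := by
    ext x
    rw [Ideal.map_comap_of_equiv, Ideal.mem_comap, mem_nilradical, mem_nilradical]
    exact IsNilpotent.map_iff e.symm.injective
  let r : CAlg2.red A ≃+* CAlg2.red B := Ideal.quotientEquiv _ _ e hnil.symm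
  have : IsDomain (CAlg2.red A) := h.1
  have : IsLocalRing (CAlg2.normRed A) := h.2
  have hd : IsDomain (CAlg2.red B) := r.symm.toMulEquiv.isDomain
  refine ⟨hd, ?_⟩
  let Φ : FractionRing (CAlg2.red A) ≃+* FractionRing (CAlg2.red B) := IsFractionRing.ringEquivOfRingEquiv r
  have hΦ : ∀ a, Φ (algebraMap (CAlg2.red A) _ a) = algebraMap (CAlg2.red B) _ (r a) := fun a =>
    IsFractionRing.ringEquivOfRingEquiv_algebraMap r a
  have hto : ∀ x, IsIntegral (CAlg2.red A) x → IsIntegral (CAlg2.red B) (Φ x) := fun x hx =>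
    hx.map_of_comp_eq r.toRingHom Φ.toRingHom (RingHom.ext fun a => (hΦ a).symm)
  have hfrom : ∀ x, IsIntegral (CAlg2.red B) x → IsIntegral (CAlg2.red A) (Φ.symm x) := fun x hx =>
    hx.map_of_comp_eq r.symm.toRingHom Φ.symm.toRingHom (RingHom.ext fun a => by
      show algebraMap (CAlg2.red A) _ (r.symm a) = Φ.symm (algebraMap _ _ a)
      rw [RingEquiv.eq_symm_apply, hΦ, r.apply_symm_apply])
  let ψ : CAlg2.normRed A ≃+* CAlg2.normRed B :=
    { toFun := fun x => ⟨Φ x.1, hto x.1 x.2⟩
      invFun := fun x => ⟨Φ.symm x.1, hfrom x.1 x.2⟩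
      left_inv := fun x => Subtype.ext (Φ.symm_apply_apply _)
      right_inv := fun x => Subtype.ext (Φ.apply_symm_apply _)
      map_mul' := fun x y => Subtype.ext (map_mul Φ _ _)
      map_add' := fun x y => Subtype.ext (map_add Φ _ _) }
  exact ψ.isLocalRing

end Groth.HensPair

namespace Groth.HensPair

theorem isLocalRing_integralClosure_of_unibranch {O K : Type u} [CommRing O] [IsDomain O] [IsLocalRing O] [Field K]
    [Algebra O K] [IsFractionRing O K] (h : CAlg2.IsUnibranch O) : IsLocalRing (integralClosure O K) := by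
  have : IsDomain (CAlg2.red O) := h.1
  have : IsLocalRing (CAlg2.normRed O) := h.2
  let e : CAlg2.red O ≃+* O :=
    (Ideal.quotEquivOfEq (nilradical_eq_zero O)).trans (RingEquiv.quotientBot O)
  let Φ : FractionRing (CAlg2.red O) ≃+* K := IsFractionRing.ringEquivOfRingEquiv e
  have hΦ : ∀ a, Φ (algebraMap (CAlg2.red O) _ a) = algebraMap O K (e a) := fun a =>
    IsFractionRing.ringEquivOfRingEquiv_algebraMap e a
  have hfrom : ∀ x, IsIntegral (CAlg2.red O) x → IsIntegral O (Φ x) := fun x hx =>
    hx.map_of_comp_eq e.toRingHom Φ.toRingHom (RingHom.ext fun a => (hΦ a).symm)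
  have hto : ∀ x : K, IsIntegral O x → IsIntegral (CAlg2.red O) (Φ.symm x) := fun x hx => by
    refine hx.map_of_comp_eq e.symm.toRingHom Φ.symm.toRingHom (RingHom.ext fun a => ?_)
    show algebraMap (CAlg2.red O) _ (e.symm a) = Φ.symm (algebraMap O K a)
    rw [RingEquiv.eq_symm_apply, hΦ, e.apply_symm_apply]
  let ψ : CAlg2.normRed O ≃+* integralClosure O K :=
    { toFun := fun x => ⟨Φ x.1, hfrom x.1 x.2⟩
      invFun := fun x => ⟨Φ.symm x.1, hto x.1 x.2⟩
      left_inv := fun x => Subtype.ext (Φ.symm_apply_apply _)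
      right_inv := fun x => Subtype.ext (Φ.apply_symm_apply _)
      map_mul' := fun x y => Subtype.ext (map_mul Φ _ _)
      map_add' := fun x y => Subtype.ext (map_add Φ _ _) }
  exact ψ.isLocalRing

end Groth.HensPair
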