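import Groth.Agent.HensPair.SteinRadicial
import Groth.Prelude.Def_CAlg2
import Mathlib.RingTheory.Localization.Integral
import Mathlib.RingTheory.Polynomial.ScaleRoots
import Mathlib.RingTheory.Ideal.GoingUp

/-! Unibranch points have a single preimage in a purely inseparable Stein factor. -/

set_option autoImplicit false
universe u

open CategoryTheory CategoryTheory.Limits AlgebraicGeometry TopologicalSpace Opposite Polynomial

namespace Groth.HensPair

theorem mem_primeIdealOf_iff {X : Scheme.{u}} {U : X.Opens} (hU : IsAffineOpen U) (x : U) (a : Γ(X, U)) :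
    a ∈ (hU.primeIdealOf x).asIdeal ↔ (x : X) ∉ X.basicOpen a := by
  let _ : Algebra Γ(X, U) (X.presheaf.stalk x) := (X.presheaf.germ U x x.2).hom.toAlgebra
  have := hU.isLocalization_stalk x
  rw [X.mem_basicOpen a x x.2]
  exact not_not.symm.trans (not_congr (IsLocalization.AtPrime.isUnit_to_map_iff
    (X.presheaf.stalk x) (hU.primeIdealOf x).asIdeal a).symm)

/-- A multiplicative relation with an integral element forces the scalar into the prime. -/
theorem mem_of_mul_eq_of_isIntegral {A B L : Type u} [CommRing A] [CommRing B] [CommRing L] [Algebra A B]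
    [Algebra A L] (ψ : B →ₐ[A] L) (hψ : Function.Injective ψ) {P : Ideal B} [P.IsPrime] {b : B} (hb : b ∈ P)
    {z : L} (hz : IsIntegral A z) {m : A} (h : ψ b * z = algebraMap A L m) : algebraMap A B m ∈ P := by
  obtain ⟨F, hF, hF0⟩ := hz
  let p := F.map (algebraMap A B)
  have hp : p.Monic := hF.map _
  have h1 : Polynomial.eval₂ ψ.toRingHom z p = 0 := by
    rw [Polynomial.eval₂_map, AlgHom.toRingHom_eq_coe, AlgHom.comp_algebraMap]; exact hF0
  have h2 : (p.scaleRoots b).eval (algebraMap A B m) = 0 := by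
    refine hψ ?_
    rw [map_zero]
    have h3 := Polynomial.scaleRoots_eval₂_mul ψ.toRingHom z b (p := p)
    rw [h1, mul_zero, show ψ.toRingHom b * z = ψ.toRingHom (algebraMap A B m) from h.trans (ψ.commutes m).symm,
      Polynomial.eval₂_at_apply] at h3
    exact h3
  rw [← Ideal.Quotient.eq_zero_iff_mem]
  have h4 := congrArg (Ideal.Quotient.mk P) h2
  rw [← Polynomial.eval_map_apply, map_zero, Polynomial.map_scaleRoots _ _ _ (by rw [hp.leadingCoeff, map_one]; exact one_ne_zero),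
    Ideal.Quotient.eq_zero_iff_mem.2 hb, Polynomial.scaleRoots_zero, (hp.map _).leadingCoeff, one_smul,
    Polynomial.eval_pow, Polynomial.eval_X] at h4
  exact pow_eq_zero_iff'.1 h4 |>.1

/-- Two primes over a unibranch prime agree in a purely inseparable extension. -/
theorem prime_unique_of_unibranch {A B K L : Type u} [CommRing A] [CommRing B] [Field K] [Field L] [Algebra A B]
    [Algebra.IsIntegral A B] [Algebra A K] [Algebra A L] (ψ : B →ₐ[A] L) (hψ : Function.Injective ψ)
    (σ : K →ₐ[A] L) (q : ℕ) [ExpChar L q] (hrad : ∀ b, ∃ (e : ℕ) (r : K), ψ b ^ q ^ e = σ r)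
    (p : Ideal A) [p.IsPrime]
    (hloc : ∀ (r s : K) (m : A), IsIntegral A r → IsIntegral A s → m ∉ p → r + s = algebraMap A K m →
      ∃ (m' : A) (z : K), m' ∉ p ∧ IsIntegral A z ∧ (r * z = algebraMap A K m' ∨ s * z = algebraMap A K m'))
    (P₁ P₂ : Ideal B) [P₁.IsPrime] [P₂.IsPrime] (h₁ : P₁.comap (algebraMap A B) = p)
    (h₂ : P₂.comap (algebraMap A B) = p) : P₁ = P₂ := by
  by_contra hne
  -- the two primes are comaximal after localisation
  obtain ⟨m, hm, hmP⟩ : ∃ m, m ∉ p ∧ algebraMap A B m ∈ P₁ ⊔ P₂ := by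
    by_contra hall
    push Not at hall
    obtain ⟨Q, hQp, hQle, hQd⟩ := Ideal.exists_le_prime_disjoint (P₁ ⊔ P₂)
      (Algebra.algebraMapSubmonoid B p.primeCompl) (Set.disjoint_left.2 (by
        rintro x hx ⟨m, hm, rfl⟩
        exact hall m hm hx))
    have hQA : Q.comap (algebraMap A B) ≤ p := fun c hc => by_contra fun hc' =>
      Set.disjoint_left.1 hQd hc ⟨c, hc', rfl⟩
    have key : ∀ P : Ideal B, P.IsPrime → P ≤ Q → P.comap (algebraMap A B) = p → P = Q := by
      intro P hP hPQ hPA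
      by_contra hPne
      obtain ⟨x, hxQ, hxP⟩ := SetLike.exists_of_lt (lt_of_le_of_ne hPQ hPne)
      exact lt_irrefl p (lt_of_lt_of_le (hPA ▸ Ideal.comap_lt_comap_of_integral_mem_sdiff hPQ ⟨hxQ, hxP⟩
        (Algebra.IsIntegral.isIntegral x)) hQA)
    exact hne ((key P₁ ‹_› (le_sup_left.trans hQle) h₁).trans (key P₂ ‹_› (le_sup_right.trans hQle) h₂).symm)
  obtain ⟨b₁, hb₁, b₂, hb₂, hb⟩ := Submodule.mem_sup.1 hmP
  obtain ⟨e₁, r₁, hr₁⟩ := hrad b₁
  obtain ⟨e₂, r₂, hr₂⟩ := hrad b₂
  have hs₁ : ψ (b₁ ^ q ^ (e₁ + e₂)) = σ (r₁ ^ q ^ e₂) := by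
    rw [map_pow, map_pow, pow_add, pow_mul, hr₁]
  have hs₂ : ψ (b₂ ^ q ^ (e₁ + e₂)) = σ (r₂ ^ q ^ e₁) := by
    rw [map_pow, map_pow, add_comm e₁, pow_add, pow_mul, hr₂]
  have hint : ∀ (b : B) (r : K), ψ b = σ r → IsIntegral A r := fun b r h =>
    (isIntegral_algHom_iff σ σ.toRingHom.injective).1 (h ▸ (Algebra.IsIntegral.isIntegral b).map ψ)
  have hadd : r₁ ^ q ^ e₂ + r₂ ^ q ^ e₁ = algebraMap A K (m ^ q ^ (e₁ + e₂)) := by
    refine σ.toRingHom.injective ?_
    show σ _ = σ _
    rw [map_add, ← hs₁, ← hs₂, σ.commutes, map_pow ψ, map_pow ψ, ← add_pow_expChar_pow, ← map_add ψ, hb,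
      ψ.commutes, map_pow]
  have hpos : q ^ (e₁ + e₂) ≠ 0 := pow_ne_zero _ (expChar_pos L q).ne'
  obtain ⟨m', z, hm', hz, h | h⟩ := hloc _ _ _ (hint _ _ hs₁) (hint _ _ hs₂)
    (fun h => hm (Ideal.IsPrime.mem_of_pow_mem ‹p.IsPrime› _ h)) hadd
  · refine hm' (h₁ ▸ Ideal.mem_comap.2 (mem_of_mul_eq_of_isIntegral ψ hψ
      (Ideal.pow_mem_of_mem P₁ hb₁ _ (Nat.pos_of_ne_zero hpos)) (hz.map σ) ?_))
    rw [hs₁, ← map_mul, h, σ.commutes]
  · refine hm' (h₂ ▸ Ideal.mem_comap.2 (mem_of_mul_eq_of_isIntegral ψ hψ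
      (Ideal.pow_mem_of_mem P₂ hb₂ _ (Nat.pos_of_ne_zero hpos)) (hz.map σ) ?_))
    rw [hs₂, ← map_mul, h, σ.commutes]

/-- In a unibranch local domain, one of two integral fractions summing to a unit has an integral inverse. -/
theorem exists_inverse_of_unibranch {O K : Type u} [CommRing O] [IsDomain O] [IsLocalRing O] [Field K]
    [Algebra O K] [IsFractionRing O K] (h : CAlg2.IsUnibranch O) (r s : K) (hr : IsIntegral O r)
    (hs : IsIntegral O s) (u : O) (hu : IsUnit u) (hrs : r + s = algebraMap O K u) :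
    ∃ z : K, IsIntegral O z ∧ (r * z = 1 ∨ s * z = 1) := by
  have : IsDomain (CAlg2.red O) := h.1
  have : IsLocalRing (CAlg2.normRed O) := h.2
  let e : CAlg2.red O ≃+* O :=
    (Ideal.quotEquivOfEq (nilradical_eq_zero O)).trans (RingEquiv.quotientBot O)
  let Φ : FractionRing (CAlg2.red O) ≃+* K := IsFractionRing.ringEquivOfRingEquiv e
  have hΦ : ∀ a, Φ (algebraMap (CAlg2.red O) _ a) = algebraMap O K (e a) := fun a =>
    IsFractionRing.ringEquivOfRingEquiv_algebraMap e a
  have hto : ∀ x : K, IsIntegral O x → IsIntegral (CAlg2.red O) (Φ.symm x) := fun x hx => by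
    refine hx.map_of_comp_eq e.symm.toRingHom Φ.symm.toRingHom (RingHom.ext fun a => ?_)
    show algebraMap (CAlg2.red O) _ (e.symm a) = Φ.symm (algebraMap O K a)
    rw [RingEquiv.eq_symm_apply, hΦ, e.apply_symm_apply]
  have hfrom : ∀ x, IsIntegral (CAlg2.red O) x → IsIntegral O (Φ x) := fun x hx =>
    hx.map_of_comp_eq e.toRingHom Φ.toRingHom (RingHom.ext fun a => (hΦ a).symm)
  let r' : CAlg2.normRed O := ⟨Φ.symm r, hto r hr⟩
  let s' : CAlg2.normRed O := ⟨Φ.symm s, hto s hs⟩
  have hsum : IsUnit (r' + s') := by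
    have : r' + s' = algebraMap (CAlg2.red O) (CAlg2.normRed O) (e.symm u) := by
      refine Subtype.ext ?_
      show Φ.symm r + Φ.symm s = algebraMap (CAlg2.red O) _ (e.symm u)
      rw [← map_add, hrs, RingEquiv.symm_apply_eq, hΦ, e.apply_symm_apply]
    rw [this]
    exact (hu.map e.symm).map _
  have key : ∀ x : CAlg2.normRed O, IsUnit x → ∃ z : K, IsIntegral O z ∧ Φ x.1 * z = 1 := fun x hx => by
    obtain ⟨y, hy⟩ := hx.exists_right_inv
    exact ⟨Φ y.1, hfrom _ y.2, by rw [← map_mul, show x.1 * y.1 = 1 from congrArg Subtype.val hy, map_one]⟩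
  rcases IsLocalRing.isUnit_or_isUnit_of_isUnit_add hsum with hx | hx
  · obtain ⟨z, hz, hz'⟩ := key r' hx
    exact ⟨z, hz, Or.inl (by rwa [show Φ r'.1 = r from Φ.apply_symm_apply r] at hz')⟩
  · obtain ⟨z, hz, hz'⟩ := key s' hx
    exact ⟨z, hz, Or.inr (by rwa [show Φ s'.1 = s from Φ.apply_symm_apply s] at hz')⟩

variable {X Y : Scheme.{u}} [IsIntegral X] [IsIntegral Y]

theorem subsingleton_preimage_of_unibranch (f : X ⟶ Y) [IsProper f]
    (hdom : f.base (genericPoint X) ⤳ genericPoint Y)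
    (hrad : ∀ x : X.functionField,
      (∃ q : Polynomial Y.functionField, q ≠ 0 ∧
        Polynomial.eval₂ (CohIII.stalkToFunctionField f (genericPoint Y) hdom) x q = 0) →
      ∃ e : ℕ, x ^ (ringExpChar X.functionField ^ e) ∈
        Set.range (CohIII.stalkToFunctionField f (genericPoint Y) hdom))
    (y : Y) (hy : CAlg2.IsUnibranch (Y.presheaf.stalk y)) :
    (f.fromNormalization.base ⁻¹' {y}).Subsingleton := by
  obtain ⟨_, ⟨U, hU, rfl⟩, hyU, -⟩ :=
    Y.isBasis_affineOpens.exists_subset_of_mem_open (Set.mem_univ y) isOpen_univ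
  replace hU : IsAffineOpen U := hU
  have hη : genericPoint Y ∈ U := ((genericPoint_spec Y).mem_open_set_iff U.2).2 ⟨y, trivial, hyU⟩
  have hξ : genericPoint X ∈ f ⁻¹ᵁ U := hdom.mem_open U.2 hη
  have : Nonempty U := ⟨⟨_, hη⟩⟩
  have : Nonempty (f ⁻¹ᵁ U) := ⟨⟨_, hξ⟩⟩
  let ν := f.toNormalization
  let g := f.fromNormalization
  intro n₁ hn₁ n₂ hn₂
  have hV : IsAffineOpen (g ⁻¹ᵁ U) := hU.preimage g
  have hnV : ∀ n, g n = y → n ∈ g ⁻¹ᵁ U := fun n hn => by show g n ∈ U; rw [hn]; exact hyU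
  let σ₀ := CohIII.stalkToFunctionField f (genericPoint Y) hdom
  have he : f ⁻¹ᵁ U = ν ⁻¹ᵁ g ⁻¹ᵁ U := by
    rw [← Scheme.Hom.comp_preimage, Scheme.Hom.toNormalization_fromNormalization]
  let ι := ν.appLE (g ⁻¹ᵁ U) (f ⁻¹ᵁ U) he.le
  have : IsIso ι := by
    have := isIso_toNormalization_app_preimage f hU
    have h : ι = ν.app (g ⁻¹ᵁ U) ≫ X.presheaf.map (eqToHom he).op := by
      rw [Scheme.Hom.app_eq_appLE, Scheme.Hom.appLE_map]
    rw [h]
    infer_instance
  let A := Γ(Y, U)
  let B := Γ(f.normalization, g ⁻¹ᵁ U)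
  let _ : Algebra A B := (g.app U).hom.toAlgebra
  have : Algebra.IsIntegral A B := ⟨IsIntegralHom.isIntegral_app g U hU⟩
  let _ : Algebra A X.functionField := (σ₀.comp (Y.germToFunctionField U).hom).toAlgebra
  have hσ : ∀ a : A, X.germToFunctionField (f ⁻¹ᵁ U) (ι (g.app U a)) = σ₀ (Y.germToFunctionField U a) := fun a => by
    have h1 : g.app U ≫ ι = f.app U := by
      simp only [ι, g, ν, Scheme.Hom.app_eq_appLE, Scheme.Hom.appLE_comp_appLE,
        Scheme.Hom.toNormalization_fromNormalization]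
    show X.germToFunctionField (f ⁻¹ᵁ U) ((g.app U ≫ ι) a) = f.stalkMap (genericPoint X)
      (Y.presheaf.stalkSpecializes hdom (Y.presheaf.germ U (genericPoint Y) hη a))
    rw [h1, TopCat.Presheaf.germ_stalkSpecializes_apply, Scheme.Hom.germ_stalkMap_apply]
  let ψ : B →ₐ[A] X.functionField :=
    { ((X.germToFunctionField (f ⁻¹ᵁ U)).hom.comp ι.hom) with commutes' := hσ }
  have hψ : Function.Injective ψ :=
    (X.germToFunctionField_injective _).comp (ConcreteCategory.bijective_of_isIso ι).1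
  let σ : Y.functionField →ₐ[A] X.functionField := { σ₀ with commutes' := fun a => rfl }
  have hins := (exists_pow_mul_eq f hdom hrad hU hη).2
  have := functionField_isFractionRing_of_isAffineOpen Y U hU
  have hrad' : ∀ b : B, ∃ (e : ℕ) (r : Y.functionField), ψ b ^ (ringExpChar X.functionField) ^ e = σ r := by
    intro b
    obtain ⟨e, c, d, hd, hbd⟩ := hins b
    refine ⟨e, algebraMap A Y.functionField c / algebraMap A Y.functionField d, ?_⟩
    have h1 := congrArg ψ hbd
    rw [map_mul, map_pow] at h1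
    have h2 : ψ (g.app U d) ≠ 0 := by
      rw [show ψ (g.app U d) = σ₀ (Y.germToFunctionField U d) from hσ d]
      exact fun h => hd (Y.germToFunctionField_injective U (σ₀.injective (by rw [h, map_zero, map_zero])))
    rw [map_div₀, σ.commutes, σ.commutes, eq_div_iff (by rw [← ψ.commutes]; exact h2)]
    rw [← ψ.commutes, ← ψ.commutes]
    exact h1
  let O := Y.presheaf.stalk y
  let yU : U := ⟨y, hyU⟩
  let p := (hU.primeIdealOf yU).asIdeal
  let _ : Algebra A O := (Y.presheaf.germ U y hyU).hom.toAlgebra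
  have : IsLocalization.AtPrime O p := hU.isLocalization_stalk yU
  have hprime : ∀ n (hn : g n = y), (hV.primeIdealOf ⟨n, hnV n hn⟩).asIdeal.comap (algebraMap A B) = p := by
    intro n hn
    ext a
    show g.app U a ∈ (hV.primeIdealOf ⟨n, hnV n hn⟩).asIdeal ↔ a ∈ p
    rw [mem_primeIdealOf_iff, mem_primeIdealOf_iff, ← Scheme.preimage_basicOpen, Scheme.Hom.mem_preimage]
    show g n ∉ _ ↔ y ∉ _
    rw [hn]
  have : IsScalarTower A O Y.functionField :=
    functionField_isScalarTower Y U yU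
  have h := prime_unique_of_unibranch ψ hψ σ (ringExpChar X.functionField) hrad' p (by
    intro r s m hr hs hm hrs
    obtain ⟨z, hz, hz'⟩ := exists_inverse_of_unibranch hy r s (hr.tower_top) (hs.tower_top)
      (algebraMap A O m) (IsLocalization.map_units O (⟨m, hm⟩ : p.primeCompl))
      (hrs.trans (IsScalarTower.algebraMap_apply A O Y.functionField m))
    obtain ⟨⟨m', hm'⟩, hm''⟩ := IsIntegral.exists_multiple_integral_of_isLocalization p.primeCompl z hz
    refine ⟨m', m' • z, hm', hm'', ?_⟩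
    rw [Algebra.smul_def]
    rcases hz' with hz' | hz'
    · left; rw [mul_left_comm, hz', mul_one]
    · right; rw [mul_left_comm, hz', mul_one])
    (hV.primeIdealOf ⟨n₁, hnV n₁ hn₁⟩).asIdeal (hV.primeIdealOf ⟨n₂, hnV n₂ hn₂⟩).asIdeal
    (hprime n₁ hn₁) (hprime n₂ hn₂)
  calc n₁ = hV.fromSpec (hV.primeIdealOf ⟨n₁, hnV n₁ hn₁⟩) := (hV.fromSpec_primeIdealOf ⟨n₁, hnV n₁ hn₁⟩).symm
    _ = hV.fromSpec (hV.primeIdealOf ⟨n₂, hnV n₂ hn₂⟩) := congrArg _ (PrimeSpectrum.ext h)
    _ = n₂ := hV.fromSpec_primeIdealOf ⟨n₂, hnV n₂ hn₂⟩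

/-- Connectedness of fibres over unibranch points. -/
theorem connectedSpace_fiber_of_unibranch (f : X ⟶ Y) [IsProper f] [IsLocallyNoetherian Y]
    (hPF : CohFin.ProjFinite.{u}) (hdom : f.base (genericPoint X) ⤳ genericPoint Y)
    (hrad : ∀ x : X.functionField,
      (∃ q : Polynomial Y.functionField, q ≠ 0 ∧
        Polynomial.eval₂ (CohIII.stalkToFunctionField f (genericPoint Y) hdom) x q = 0) →
      ∃ e : ℕ, x ^ (ringExpChar X.functionField ^ e) ∈
        Set.range (CohIII.stalkToFunctionField f (genericPoint Y) hdom))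
    (y : Y) (hy : CAlg2.IsUnibranch (Y.presheaf.stalk y)) : ConnectedSpace ↥(f.fiber y) := by
  have := geometricallyConnected_toNormalization f hPF
  have hy' : y ∈ Set.range f := by
    have h1 : y ∈ closure ({f (genericPoint X)} : Set Y) :=
      (hdom.trans ((genericPoint_spec Y).specializes (Set.mem_univ y))).mem_closure
    exact closure_minimal (Set.singleton_subset_iff.2 (Set.mem_range_self _)) f.isClosedMap.isClosed_range h1
  obtain ⟨x, hx⟩ := hy'
  have hset : f.base ⁻¹' {y} = f.toNormalization.base ⁻¹' {f.toNormalization x} := by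
    have hxn : f.fromNormalization (f.toNormalization x) = y := by
      rw [← Scheme.Hom.comp_apply, Scheme.Hom.toNormalization_fromNormalization, hx]
    ext z
    constructor
    · intro hz
      refine subsingleton_preimage_of_unibranch f hdom hrad y hy ?_ hxn
      show f.fromNormalization (f.toNormalization z) = y
      rw [← Scheme.Hom.comp_apply, Scheme.Hom.toNormalization_fromNormalization]
      exact hz
    · intro hz
      show f z = y
      rw [← f.toNormalization_fromNormalization, Scheme.Hom.comp_apply, show f.toNormalization z = _ from hz, hxn]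
  have hc : _root_.IsConnected (f.base ⁻¹' {y}) := hset ▸ f.toNormalization.isConnected_preimage_singleton _
  have : ConnectedSpace ↥(f.base ⁻¹' {y}) := isConnected_iff_connectedSpace.1 hc
  exact (f.fiberHomeo y).connectedSpace_iff.2 this

end Groth.HensPair
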