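import Groth.Agent.HensPair.SteinNormalization
import Mathlib.AlgebraicGeometry.ZariskisMainTheorem

/-! Morphisms with trivial direct image of functions: the isomorphism locus. -/

set_option autoImplicit false
universe u

open CategoryTheory CategoryTheory.Limits AlgebraicGeometry TopologicalSpace Opposite

namespace Groth.HensPair

variable {X Y : Scheme.{u}} (f : X ⟶ Y)

theorem isIso_fromNormalization_of_bijective_app [QuasiCompact f] [QuasiSeparated f]
    (hO : ∀ U : Y.Opens, IsAffineOpen U → Function.Bijective (f.app U)) : IsIso f.fromNormalization := by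
  let g := f.fromNormalization
  have happ : ∀ U : Y.Opens, IsAffineOpen U → IsIso (g.app U) := by
    intro U hU
    let _ := (f.app U).hom.toAlgebra
    have hval : IsIso (CommRingCat.ofHom (integralClosure Γ(Y, U) Γ(X, f ⁻¹ᵁ U)).val.toRingHom) :=
      (ConcreteCategory.isIso_iff_bijective _).2 ⟨Subtype.val_injective, fun x => by
        obtain ⟨a, rfl⟩ := (hO U hU).2 x
        exact ⟨⟨_, isIntegral_algebraMap (x := a)⟩, rfl⟩⟩
    have hν : IsIso (f.toNormalization.app (g ⁻¹ᵁ U)) := by
      have h := f.toNormalization_app_preimage ⟨U, hU⟩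
      dsimp only at h
      rw [h]
      exact IsIso.comp_isIso' inferInstance (IsIso.comp_isIso' hval inferInstance)
    have he : f.toNormalization ⁻¹ᵁ g ⁻¹ᵁ U = f ⁻¹ᵁ U := by
      rw [← Scheme.Hom.comp_preimage, Scheme.Hom.toNormalization_fromNormalization]
    let e := f.toNormalization.app (g ⁻¹ᵁ U) ≫ X.presheaf.map (eqToHom he.symm).op
    have hcomp : g.app U ≫ e = f.app U := by
      simp only [e, g, Scheme.Hom.app_eq_appLE, Scheme.Hom.appLE_map, Scheme.Hom.appLE_comp_appLE,
        Scheme.Hom.toNormalization_fromNormalization]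
    have : IsIso (f.app U) := (ConcreteCategory.isIso_iff_bijective _).2 (hO U hU)
    have hce : IsIso (g.app U ≫ e) := hcomp ▸ this
    exact IsIso.of_isIso_comp_right (g.app U) e
  refine (MorphismProperty.isomorphisms.iff g).1 (IsZariskiLocalAtTarget.of_iSup_eq_top
    (P := MorphismProperty.isomorphisms Scheme.{u}) (fun U : Y.affineOpens => (U : Y.Opens))
    (iSup_affineOpens_eq_top Y) fun U => ?_)
  have : IsAffine (U : Y.Opens).toScheme := U.2
  have : IsAffine (g ⁻¹ᵁ (U : Y.Opens)).toScheme := U.2.preimage g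
  have := happ U U.2
  have h1 : IsIso (g ∣_ (U : Y.Opens)).appTop := by
    rw [morphismRestrict_appTop]
    have h2 : ∀ W : Y.Opens, W = (U : Y.Opens) → IsIso (g.app W) := fun W hW => by subst hW; assumption
    exact IsIso.comp_isIso' (h2 _ (Scheme.Opens.ι_image_top _)) (by
      have h3 := isIso_op (eqToHom (image_morphismRestrict_preimage g (U : Y.Opens) ⊤))
      exact Functor.map_isIso f.normalization.presheaf _)
  show IsIso (g ∣_ (U : Y.Opens))
  rw [← MorphismProperty.isomorphisms.iff,
    ← (MorphismProperty.isomorphisms Scheme.{u}).arrow_mk_iso_iff (arrowIsoSpecΓOfIsAffine (g ∣_ (U : Y.Opens))).symm]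
  show IsIso (Spec.map (g ∣_ (U : Y.Opens)).appTop)
  infer_instance

theorem exists_isIso_restrict_of_bijective_app [LocallyOfFiniteType f] [IsSeparated f] [QuasiCompact f]
    (hO : ∀ U : Y.Opens, IsAffineOpen U → Function.Bijective (f.app U)) :
    ∃ V : Y.Opens, IsIso (f ∣_ V) ∧ ∀ x, f x ∈ V ↔ f.QuasiFiniteAt x := by
  have := isIso_fromNormalization_of_bijective_app f hO
  obtain ⟨U, hU, e⟩ := f.exists_isIso_morphismRestrict_toNormalization
  let V : Y.Opens := inv f.fromNormalization ⁻¹ᵁ U
  have hgV : f.fromNormalization ⁻¹ᵁ V = U := by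
    simp only [V]; rw [← Scheme.Hom.comp_preimage, IsIso.hom_inv_id]; rfl
  refine ⟨V, ?_, fun x => ?_⟩
  · have h : IsIso ((f.toNormalization ≫ f.fromNormalization) ∣_ V) := by
      rw [morphismRestrict_comp]
      have : IsIso (f.toNormalization ∣_ f.fromNormalization ⁻¹ᵁ V) := by
        have h2 : ∀ W, W = U → IsIso (f.toNormalization ∣_ W) := fun W hW => by subst hW; exact hU
        exact h2 _ hgV
      have h3 : IsIso (f.fromNormalization ∣_ V) :=
        IsZariskiLocalAtTarget.restrict (P := MorphismProperty.isomorphisms Scheme.{u}) ‹IsIso f.fromNormalization› V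
      exact IsIso.comp_isIso' this h3
    rwa [Scheme.Hom.toNormalization_fromNormalization] at h
  · have h2 : f x ∈ V ↔ x ∈ f.toNormalization ⁻¹ᵁ (f.fromNormalization ⁻¹ᵁ V) := by
      rw [← Scheme.Hom.comp_preimage, Scheme.Hom.toNormalization_fromNormalization]; rfl
    rw [h2, hgV]
    exact Set.ext_iff.1 e x

end Groth.HensPair
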