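import Groth.Agent.HensPair.SteinNormalPoint
import Groth.Agent.HensPair.SteinQuasiFinite
import Groth.Agent.Variety2.Normal
import Groth.Agent.Variety2.DimTrdeg
import Groth.Agent.Variety2.DimScheme

/-! Fibrations between integral schemes and their function fields. -/

set_option autoImplicit false
universe u

open CategoryTheory CategoryTheory.Limits AlgebraicGeometry TopologicalSpace Opposite

namespace Groth.HensPair

variable {X Y : Scheme.{u}} [IsIntegral X] [IsIntegral Y]

theorem germ_app_eq (f : X ⟶ Y) (hdom : f.base (genericPoint X) ⤳ genericPoint Y) {U : Y.Opens}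
    [Nonempty U] [Nonempty (f ⁻¹ᵁ U)] (a : Γ(Y, U)) :
    X.germToFunctionField (f ⁻¹ᵁ U) (f.app U a) =
      CohIII.stalkToFunctionField f (genericPoint Y) hdom (Y.germToFunctionField U a) := by
  show _ = f.stalkMap (genericPoint X) (Y.presheaf.stalkSpecializes hdom (Y.presheaf.germ U (genericPoint Y) _ a))
  rw [TopCat.Presheaf.germ_stalkSpecializes_apply, Scheme.Hom.germ_stalkMap_apply]

theorem range_of_isIntegralElem (f : X ⟶ Y) (hdom : f.base (genericPoint X) ⤳ genericPoint Y)
    (hX : ∀ x : X, IsIntegrallyClosed (X.presheaf.stalk x)) (hfib : ∀ U : Y.Opens, IsIso (f.app U))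
    (z : X.functionField) (hz : (CohIII.stalkToFunctionField f (genericPoint Y) hdom).IsIntegralElem z) :
    z ∈ (CohIII.stalkToFunctionField f (genericPoint Y) hdom).range := by
  let σ₀ := CohIII.stalkToFunctionField f (genericPoint Y) hdom
  obtain ⟨_, ⟨U, hU, rfl⟩, hηU, -⟩ :=
    Y.isBasis_affineOpens.exists_subset_of_mem_open (Set.mem_univ (genericPoint Y)) isOpen_univ
  replace hU : IsAffineOpen U := hU
  have : Nonempty U := ⟨⟨_, hηU⟩⟩
  have : Nonempty (f ⁻¹ᵁ U) := ⟨⟨_, hdom.mem_open U.2 hηU⟩⟩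
  let _ : Algebra Y.functionField X.functionField := σ₀.toAlgebra
  let _ : Algebra Γ(Y, U) X.functionField := (σ₀.comp (algebraMap Γ(Y, U) Y.functionField)).toAlgebra
  have : IsScalarTower Γ(Y, U) Y.functionField X.functionField := .of_algebraMap_eq fun _ => rfl
  have := functionField_isFractionRing_of_isAffineOpen Y U hU
  have hz' : IsIntegral Y.functionField z := hz
  obtain ⟨⟨m, hm⟩, hmz⟩ := hz'.exists_multiple_integral_of_isLocalization (nonZeroDivisors Γ(Y, U)) z
  obtain ⟨s, hs⟩ := Groth.Variety2.exists_section_of_forall_stalk (f ⁻¹ᵁ U) (m • z) fun x hx => by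
    let _ := (X.presheaf.germ (f ⁻¹ᵁ U) x hx).hom.toAlgebra
    have : IsScalarTower Γ(X, f ⁻¹ᵁ U) (X.presheaf.stalk x) X.functionField :=
      functionField_isScalarTower X (f ⁻¹ᵁ U) ⟨x, hx⟩
    have := hX x
    refine IsIntegrallyClosed.isIntegral_iff.1 (IsIntegral.tower_top (R := Γ(X, f ⁻¹ᵁ U)) ?_)
    exact hmz.map_of_comp_eq (f.app U).hom (RingHom.id X.functionField)
      (RingHom.ext fun a => germ_app_eq f hdom a)
  obtain ⟨a, rfl⟩ := (ConcreteCategory.bijective_of_isIso (f.app U)).2 s
  rw [germ_app_eq f hdom a, Algebra.smul_def] at hs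
  have hm0 : algebraMap Γ(Y, U) Y.functionField m ≠ 0 :=
    IsFractionRing.to_map_ne_zero_of_mem_nonZeroDivisors hm
  refine ⟨Y.germToFunctionField U a / algebraMap Γ(Y, U) Y.functionField m, ?_⟩
  show σ₀ _ = z
  rw [map_div₀, hs]
  exact mul_div_cancel_left₀ z fun h => hm0 (σ₀.injective (h.trans (map_zero σ₀).symm))

/-- `f_* O_X = O_Y` over a normal base when the base is algebraically closed in the function field. -/
theorem isIso_app_of_isIntegralElem (f : X ⟶ Y) [IsProper f] [IsLocallyNoetherian Y]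
    (hPF : CohFin.ProjFinite.{u}) (hdom : f.base (genericPoint X) ⤳ genericPoint Y)
    (hY : ∀ y : Y, IsIntegrallyClosed (Y.presheaf.stalk y))
    (h : ∀ z : X.functionField, (CohIII.stalkToFunctionField f (genericPoint Y) hdom).IsIntegralElem z →
      z ∈ (CohIII.stalkToFunctionField f (genericPoint Y) hdom).range) (V : Y.Opens) : IsIso (f.app V) := by
  refine isIso_app_of_local f (fun y => ?_) V
  obtain ⟨U, hU, hyU, hiso⟩ := exists_affine_isIso_app f hPF hdom (fun x ⟨q, hq0, hq⟩ => h x (by
    let _ := (CohIII.stalkToFunctionField f (genericPoint Y) hdom).toAlgebra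
    have ha : IsAlgebraic Y.functionField x := ⟨q, hq0, hq⟩
    exact ha.isIntegral)) y (hY y)
  exact ⟨U, hyU, fun V hV => isIso_app_of_le f hU hV⟩

theorem bijective_stalkToFunctionField_of_mem (f : X ⟶ Y) (hdom : f.base (genericPoint X) ⤳ genericPoint Y)
    {V : Y.Opens} (hV : IsIso (f ∣_ V)) (hξ : f (genericPoint X) ∈ V) :
    Function.Bijective (CohIII.stalkToFunctionField f (genericPoint Y) hdom) := by
  have hiso : IsIso (f.stalkMap (genericPoint X)) :=
    ((MorphismProperty.isomorphisms CommRingCat.{u}).arrow_mk_iso_iff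
      (morphismRestrictStalkMap f V ⟨genericPoint X, hξ⟩)).1 (by
        show IsIso _
        infer_instance)
  have hgen : f.base (genericPoint X) = genericPoint Y :=
    (hdom.antisymm ((genericPoint_spec Y).specializes (Set.mem_univ _))).eq
  exact ⟨(CohIII.stalkToFunctionField f (genericPoint Y) hdom).injective,
    surjective_stalkToFunctionField f hgen hiso hdom⟩

theorem quasiFiniteAt_genericPoint_of_dim_eq {k : Type u} [Field k] (f : X ⟶ Y)
    (fX : X ⟶ Spec (CommRingCat.of k)) (fY : Y ⟶ Spec (CommRingCat.of k)) [LocallyOfFiniteType fX]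
    [LocallyOfFiniteType fY] [LocallyOfFiniteType f] (hf : f ≫ fY = fX)
    (hgen : f.base (genericPoint X) = genericPoint Y) (hdim : topologicalKrullDim X = topologicalKrullDim Y) :
    f.QuasiFiniteAt (genericPoint X) := by
  let ξ := genericPoint X
  obtain ⟨n, hn, hnh⟩ := Groth.Variety2.Dim.exists_trdegAt_eq_height fX ξ
  obtain ⟨m, hm, hmh⟩ := Groth.Variety2.Dim.exists_trdegAt_eq_height fY (f ξ)
  have hnm : n = m := by
    rw [Groth.Variety2.Dim.dim_eq_height_genericPoint, Groth.Variety2.Dim.dim_eq_height_genericPoint,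
      ← hgen] at hdim
    have h : Order.height ξ = Order.height (f ξ) := WithBot.coe_injective hdim
    rw [hnh, hmh] at h
    exact_mod_cast h
  have hrel : Groth.Variety2.Dim.relTrdeg f ξ = 0 := by
    have h := Groth.Variety2.Dim.trdegAt_eq_add fX fY f hf ξ
    rw [hn, hm, hnm] at h
    have hlt : Groth.Variety2.Dim.relTrdeg f ξ < Cardinal.aleph0 :=
      lt_of_le_of_lt (h.symm ▸ le_add_self) (Cardinal.natCast_lt_aleph0 (n := m))
    obtain ⟨r, hr⟩ := Cardinal.lt_aleph0.1 hlt
    rw [hr] at h ⊢
    have : m = m + r := by exact_mod_cast h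
    exact_mod_cast (by omega : r = 0)
  have hfY : IsField (Y.presheaf.stalk (f ξ)) := by
    show IsField (Y.presheaf.stalk (f (genericPoint X)))
    rw [show f (genericPoint X) = genericPoint Y from hgen]
    exact Field.toIsField Y.functionField
  let _ := hfY.toField
  let _ : Field (X.presheaf.stalk ξ) := inferInstanceAs (Field X.functionField)
  let _ := (f.stalkMap ξ).hom.toAlgebra
  have : Algebra.EssFiniteType (Y.presheaf.stalk (f ξ)) (X.presheaf.stalk ξ) :=
    LocallyOfFiniteType.stalkMap f ξ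
  have : Algebra.IsAlgebraic (Y.presheaf.stalk (f ξ)) (X.presheaf.stalk ξ) := by
    let _ := (f.residueFieldMap ξ).hom.toAlgebra
    have halg : Algebra.IsAlgebraic (Y.residueField (f ξ)) (X.residueField ξ) := trdeg_eq_zero_iff.1 hrel
    let eY := RingEquiv.ofBijective (Y.residue (f ξ)).hom ⟨(Y.residue (f ξ)).hom.injective, Y.residue_surjective _⟩
    let eX := RingEquiv.ofBijective (X.residue ξ).hom ⟨(X.residue ξ).hom.injective, X.residue_surjective _⟩
    refine ⟨fun b => ?_⟩
    obtain ⟨q, hq0, hq⟩ := halg.isAlgebraic (eX b)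
    refine ⟨q.map eY.symm.toRingHom, (Polynomial.map_ne_zero_iff eY.symm.injective).2 hq0, eX.injective ?_⟩
    rw [map_zero, ← hq, Polynomial.aeval_def, Polynomial.aeval_def, Polynomial.eval₂_map]
    rw [show eX (Polynomial.eval₂ _ b q) = eX.toRingHom (Polynomial.eval₂ _ b q) from rfl, Polynomial.hom_eval₂]
    congr 1
    refine RingHom.ext fun a => ?_
    obtain ⟨a, rfl⟩ := eY.surjective a
    show eX (f.stalkMap ξ (eY.symm (eY a))) = f.residueFieldMap ξ (eY a)
    rw [eY.symm_apply_apply]
    exact (congr($(Scheme.residue_residueFieldMap f ξ) a)).symm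
  show (f.stalkMap ξ).hom.QuasiFinite
  exact RingHom.QuasiFinite.of_finite (Algebra.finite_of_essFiniteType_of_isAlgebraic : Module.Finite (Y.presheaf.stalk (f ξ)) (X.presheaf.stalk ξ))

end Groth.HensPair
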