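import Groth.Agent.Calg8.AdicFree
import Mathlib.RingTheory.AdicCompletion.LocalRing
import Mathlib.RingTheory.AdicCompletion.AsTensorProduct
import Mathlib.RingTheory.AdicCompletion.Functoriality
import Mathlib.RingTheory.Flat.FaithfullyFlat.Algebra
import Mathlib.RingTheory.Unramified.LocalRing
import Groth.Agent.Calg1.Completion

/-! Completions of unramified and etale local homomorphisms. -/

set_option autoImplicit false
universe u

namespace Groth.HensPair

open IsLocalRing TensorProduct

variable (A B : Type u) [CommRing A] [CommRing B] [IsLocalRing A] [IsLocalRing B]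
  [IsNoetherianRing A] [IsNoetherianRing B] [Algebra A B] [IsLocalHom (algebraMap A B)]

section
variable [Algebra (AdicCompletion (maximalIdeal A) A) (AdicCompletion (maximalIdeal B) B)] [IsScalarTower A (AdicCompletion (maximalIdeal A) A) (AdicCompletion (maximalIdeal B) B)]

omit [IsNoetherianRing A] [IsNoetherianRing B] in
theorem algebraMap_completion_comm (a : A) :
    algebraMap (AdicCompletion (maximalIdeal A) A) (AdicCompletion (maximalIdeal B) B) (algebraMap A (AdicCompletion (maximalIdeal A) A) a) = algebraMap B (AdicCompletion (maximalIdeal B) B) (algebraMap A B a) := by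
  rw [← IsScalarTower.algebraMap_apply A (AdicCompletion (maximalIdeal A) A) (AdicCompletion (maximalIdeal B) B), IsScalarTower.algebraMap_apply A B (AdicCompletion (maximalIdeal B) B)]

theorem map_maximalIdeal_completion :
    (maximalIdeal (AdicCompletion (maximalIdeal A) A)).map (algebraMap (AdicCompletion (maximalIdeal A) A) (AdicCompletion (maximalIdeal B) B)) =
      ((maximalIdeal A).map (algebraMap A B)).map (algebraMap B (AdicCompletion (maximalIdeal B) B)) := by
  rw [AdicCompletion.maximalIdeal_eq_map, Ideal.map_map, Ideal.map_map, ← IsScalarTower.algebraMap_eq,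
    ← IsScalarTower.algebraMap_eq]

theorem isLocalHom_completion : IsLocalHom (algebraMap (AdicCompletion (maximalIdeal A) A) (AdicCompletion (maximalIdeal B) B)) := by
  refine ((IsLocalRing.local_hom_TFAE _).out 0 2).mpr ?_
  rw [map_maximalIdeal_completion, AdicCompletion.maximalIdeal_eq_map]
  exact Ideal.map_mono (((IsLocalRing.local_hom_TFAE (algebraMap A B)).out 0 2).mp ‹_›)

theorem residueField_completion_equiv [IsLocalHom (algebraMap (AdicCompletion (maximalIdeal A) A) (AdicCompletion (maximalIdeal B) B))] :
    ∃ (e₁ : ResidueField A ≃+* ResidueField (AdicCompletion (maximalIdeal A) A)) (e₂ : ResidueField B ≃+* ResidueField (AdicCompletion (maximalIdeal B) B)),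
      (algebraMap (ResidueField (AdicCompletion (maximalIdeal A) A)) (ResidueField (AdicCompletion (maximalIdeal B) B))).comp (e₁ : ResidueField A →+* ResidueField (AdicCompletion (maximalIdeal A) A)) =
        (e₂ : ResidueField B →+* ResidueField (AdicCompletion (maximalIdeal B) B)).comp (algebraMap (ResidueField A) (ResidueField B)) := by
  refine ⟨RingEquiv.ofBijective _ (AdicCompletion.residueField_map_bijective A),
    RingEquiv.ofBijective _ (AdicCompletion.residueField_map_bijective B), RingHom.ext fun x => ?_⟩
  obtain ⟨a, rfl⟩ := residue_surjective x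
  exact congrArg (residue (AdicCompletion (maximalIdeal B) B)) (algebraMap_completion_comm A B a)

theorem unramified_of_completion [IsLocalHom (algebraMap (AdicCompletion (maximalIdeal A) A) (AdicCompletion (maximalIdeal B) B))]
    (hm : (maximalIdeal (AdicCompletion (maximalIdeal A) A)).map (algebraMap (AdicCompletion (maximalIdeal A) A) (AdicCompletion (maximalIdeal B) B)) = maximalIdeal (AdicCompletion (maximalIdeal B) B))
    [Module.Finite (ResidueField (AdicCompletion (maximalIdeal A) A)) (ResidueField (AdicCompletion (maximalIdeal B) B))]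
    [Algebra.IsSeparable (ResidueField (AdicCompletion (maximalIdeal A) A)) (ResidueField (AdicCompletion (maximalIdeal B) B))] :
    (maximalIdeal A).map (algebraMap A B) = maximalIdeal B ∧
      Module.Finite (ResidueField A) (ResidueField B) ∧
      Algebra.IsSeparable (ResidueField A) (ResidueField B) := by
  obtain ⟨e₁, e₂, he⟩ := residueField_completion_equiv A B
  have he' : (algebraMap (ResidueField A) (ResidueField B)).comp (e₁.symm : ResidueField (AdicCompletion (maximalIdeal A) A) →+* ResidueField A) =
      (e₂.symm : ResidueField (AdicCompletion (maximalIdeal B) B) →+* ResidueField B).comp (algebraMap (ResidueField (AdicCompletion (maximalIdeal A) A)) (ResidueField (AdicCompletion (maximalIdeal B) B))) :=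
    RingHom.ext fun x => by
      obtain ⟨y, rfl⟩ := e₁.surjective x
      refine e₂.injective ?_
      simpa using (DFunLike.congr_fun he y).symm
  refine ⟨?_, Module.Finite.of_equiv_equiv e₁.symm e₂.symm he', Algebra.IsSeparable.of_equiv_equiv e₁.symm e₂.symm he'⟩
  rw [map_maximalIdeal_completion, AdicCompletion.maximalIdeal_eq_map] at hm
  have := Module.FaithfullyFlat.of_flat_of_isLocalHom (A := B) (B := (AdicCompletion (maximalIdeal B) B))
  rw [← Ideal.comap_map_eq_self_of_faithfullyFlat (B := (AdicCompletion (maximalIdeal B) B)) ((maximalIdeal A).map (algebraMap A B)), hm,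
    Ideal.comap_map_eq_self_of_faithfullyFlat]

variable (hm : (maximalIdeal A).map (algebraMap A B) = maximalIdeal B)
  [Module.Finite (ResidueField A) (ResidueField B)]

include hm in
/-- Lifts of a basis of the residue extension. -/
theorem exists_family :
    ∃ (d : ℕ) (_ : 0 < d) (v : Fin d → (AdicCompletion (maximalIdeal B) B)), Function.Surjective (Fintype.linearCombination (AdicCompletion (maximalIdeal A) A) v) ∧
      ∀ c : Fin d → A, (∑ i, c i • v i) ∈ maximalIdeal (AdicCompletion (maximalIdeal B) B) → ∀ i, c i ∈ maximalIdeal A := by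
  let β := Module.finBasis (ResidueField A) (ResidueField B)
  choose w hw using fun i => residue_surjective (β i)
  refine ⟨_, Module.finrank_pos, fun i => algebraMap B (AdicCompletion (maximalIdeal B) B) (w i), ?_, fun c hc i => ?_⟩
  · have hmm : maximalIdeal (AdicCompletion (maximalIdeal B) B) = (maximalIdeal (AdicCompletion (maximalIdeal A) A)).map (algebraMap (AdicCompletion (maximalIdeal A) A) (AdicCompletion (maximalIdeal B) B)) := by
      rw [map_maximalIdeal_completion, hm, AdicCompletion.maximalIdeal_eq_map]
    have : IsHausdorff (maximalIdeal (AdicCompletion (maximalIdeal A) A)) (AdicCompletion (maximalIdeal B) B) := by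
      rw [← IsHausdorff.map_algebraMap_iff (S := (AdicCompletion (maximalIdeal B) B)), ← hmm]; infer_instance
    have : IsPrecomplete (maximalIdeal (AdicCompletion (maximalIdeal A) A)) (Fin (Module.finrank (ResidueField A) (ResidueField B)) → (AdicCompletion (maximalIdeal A) A)) :=
      Groth.Calg1.isPrecomplete_pi _ _
    refine surjective_of_mkQ_comp_surjective (I := maximalIdeal (AdicCompletion (maximalIdeal A) A)) fun y => ?_
    obtain ⟨y, rfl⟩ := Submodule.mkQ_surjective _ y
    obtain ⟨b, hb⟩ := (AdicCompletion.residueField_map_bijective B).2 (residue (AdicCompletion (maximalIdeal B) B) y)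
    obtain ⟨b, rfl⟩ := residue_surjective b
    choose a ha using fun i => residue_surjective (β.repr (residue B b) i)
    refine ⟨fun i => algebraMap A (AdicCompletion (maximalIdeal A) A) (a i), ?_⟩
    rw [LinearMap.comp_apply, Submodule.mkQ_apply, Submodule.mkQ_apply, Submodule.Quotient.eq,
      Ideal.smul_top_eq_map, Submodule.restrictScalars_mem, ← hmm, ← residue_eq_zero_iff, map_sub, sub_eq_zero,
      ← hb, Fintype.linearCombination_apply]
    show residue (AdicCompletion (maximalIdeal B) B) (∑ i, algebraMap A (AdicCompletion (maximalIdeal A) A) (a i) • algebraMap B (AdicCompletion (maximalIdeal B) B) (w i)) = residue (AdicCompletion (maximalIdeal B) B) (algebraMap B (AdicCompletion (maximalIdeal B) B) b)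
    have h1 : ∑ i, algebraMap A (AdicCompletion (maximalIdeal A) A) (a i) • algebraMap B (AdicCompletion (maximalIdeal B) B) (w i) = algebraMap B (AdicCompletion (maximalIdeal B) B) (∑ i, a i • w i) := by
      rw [map_sum]
      exact Finset.sum_congr rfl fun i _ => by
        rw [Algebra.smul_def, algebraMap_completion_comm, Algebra.smul_def, map_mul]
    rw [h1, ← sub_eq_zero, ← map_sub, residue_eq_zero_iff, ← map_sub]
    rw [AdicCompletion.maximalIdeal_eq_map]
    refine Ideal.mem_map_of_mem _ ?_
    rw [← residue_eq_zero_iff, map_sub, sub_eq_zero, map_sum]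
    conv_rhs => rw [← β.sum_repr (residue B b)]
    refine Finset.sum_congr rfl fun i _ => ?_
    rw [← ha, ← hw, Algebra.smul_def, map_mul, Algebra.smul_def]
    rfl
  · have h1 : algebraMap B (AdicCompletion (maximalIdeal B) B) (∑ i, c i • w i) ∈ maximalIdeal (AdicCompletion (maximalIdeal B) B) := by
      rwa [map_sum, Finset.sum_congr rfl fun i _ => algebraMap.smul (c i) (w i) (AdicCompletion (maximalIdeal B) B)]
    have h2 : residue B (∑ i, c i • w i) = 0 := by
      rw [residue_eq_zero_iff, ← IsLocalRing.maximalIdeal_comap (algebraMap B (AdicCompletion (maximalIdeal B) B))]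
      exact h1
    have h3 : ∑ i, residue A (c i) • β i = 0 := by
      rw [← h2, map_sum]
      exact Finset.sum_congr rfl fun i _ => by rw [← hw, Algebra.smul_def, Algebra.smul_def, map_mul]; rfl
    exact (residue_eq_zero_iff _).1 (Fintype.linearIndependent_iff.1 β.linearIndependent _ h3 i)

include hm in
theorem completion_finite : Module.Finite (AdicCompletion (maximalIdeal A) A) (AdicCompletion (maximalIdeal B) B) := by
  obtain ⟨d, -, v, hv, -⟩ := exists_family A B hm
  exact Module.Finite.of_surjective _ hv

include hm in
theorem completion_free [Module.Flat A B] :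
    ∃ d : ℕ, 0 < d ∧ Nonempty ((Fin d → (AdicCompletion (maximalIdeal A) A)) ≃ₗ[(AdicCompletion (maximalIdeal A) A)] (AdicCompletion (maximalIdeal B) B)) := by
  obtain ⟨d, hd, v, hv, hv'⟩ := exists_family A B hm
  refine ⟨d, hd, ⟨LinearEquiv.ofBijective _ ⟨?_, hv⟩⟩⟩
  rw [injective_iff_map_eq_zero]
  intro c hc
  funext i
  have hmA : maximalIdeal (AdicCompletion (maximalIdeal A) A) = (maximalIdeal A).map (algebraMap A (AdicCompletion (maximalIdeal A) A)) := AdicCompletion.maximalIdeal_eq_map
  refine IsHausdorff.haus' (I := maximalIdeal (AdicCompletion (maximalIdeal A) A)) _ fun n => ?_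
  rw [SModEq.zero, smul_eq_mul, Ideal.mul_top]
  rcases Nat.eq_zero_or_pos n with rfl | hn
  · simp
  let J := maximalIdeal A ^ n


  have hev : ∀ (x : (AdicCompletion (maximalIdeal A) A)), AdicCompletion.eval (maximalIdeal A) A n x = 0 → x ∈ J.map (algebraMap A (AdicCompletion (maximalIdeal A) A)) := fun x hx => by
    rw [← Submodule.restrictScalars_mem A, ← Ideal.smul_top_eq_map,
      AdicCompletion.pow_smul_top_eq_ker_eval (maximalIdeal A).fg_of_isNoetherianRing]
    exact hx
  obtain ⟨a, ha'⟩ : ∃ a : Fin d → A, ∀ i, c i - algebraMap A (AdicCompletion (maximalIdeal A) A) (a i) ∈ J.map (algebraMap A (AdicCompletion (maximalIdeal A) A)) := by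
    choose a ha using fun i => Submodule.mkQ_surjective _ (AdicCompletion.eval (maximalIdeal A) A n (c i))
    exact ⟨a, fun i => hev _ (by rw [map_sub, sub_eq_zero, ← ha]; rfl)⟩
  have hsum : ∑ i, a i • v i ∈ J.map (algebraMap A (AdicCompletion (maximalIdeal B) B)) := by
    have h0 : ∑ i, c i • v i = 0 := by rw [← Fintype.linearCombination_apply]; exact hc
    rw [show ∑ i, a i • v i = -∑ i, (c i - algebraMap A (AdicCompletion (maximalIdeal A) A) (a i)) • v i by
      rw [eq_neg_iff_add_eq_zero, ← Finset.sum_add_distrib, ← h0]
      exact Finset.sum_congr rfl fun i _ => by rw [sub_smul, algebraMap_smul, add_sub_cancel]]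
    refine neg_mem (Ideal.sum_mem _ fun i _ => ?_)
    rw [Algebra.smul_def, IsScalarTower.algebraMap_eq A (AdicCompletion (maximalIdeal A) A) (AdicCompletion (maximalIdeal B) B), ← Ideal.map_map]
    exact Ideal.mul_mem_right _ _ (Ideal.mem_map_of_mem _ (ha' i))
  have : Module.Flat A (AdicCompletion (maximalIdeal B) B) := .trans A B (AdicCompletion (maximalIdeal B) B)
  let Q := (A ⧸ J) ⊗[A] (AdicCompletion (maximalIdeal B) B)
  let e : Q ≃ₗ[A] (AdicCompletion (maximalIdeal B) B) ⧸ (J • ⊤ : Submodule A (AdicCompletion (maximalIdeal B) B)) := TensorProduct.quotTensorEquivQuotSMul (AdicCompletion (maximalIdeal B) B) J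
  have hJm : J ≤ maximalIdeal A := Ideal.pow_le_self hn.ne'
  have he : ∀ x : (AdicCompletion (maximalIdeal B) B), e ((1 : A ⧸ J) ⊗ₜ[A] x) = Submodule.Quotient.mk x := fun x => by
    have := TensorProduct.quotTensorEquivQuotSMul_mk_tmul J (1 : A) x
    rw [map_one, one_smul] at this
    exact this
  let q : (AdicCompletion (maximalIdeal B) B) →ₗ[A] Q := e.symm.toLinearMap ∘ₗ (J • ⊤ : Submodule A (AdicCompletion (maximalIdeal B) B)).mkQ
  have hqs : Function.Surjective q := e.symm.surjective.comp (Submodule.mkQ_surjective _)
  have hq : ∀ x, q x = (1 : A ⧸ J) ⊗ₜ[A] x := fun x => e.symm_apply_eq.2 (he x).symm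
  have hqv : ∀ l : ULift.{u} (Fin d) →₀ A,
      Finsupp.linearCombination A (fun i : ULift.{u} (Fin d) => q (v i.down)) l = q (∑ i, l ⟨i⟩ • v i) := fun l => by
    rw [map_sum, Finsupp.linearCombination_apply, Finsupp.sum_fintype]
    · exact Fintype.sum_equiv Equiv.ulift _ _ fun i => (map_smul q _ _).symm
    · exact fun i => zero_smul _ _
  obtain ⟨-, hker⟩ := Groth.Calg8.bijMod_of_flat J hJm n le_rfl (fun i : ULift.{u} (Fin d) => q (v i.down)) (fun l hl i => by
    rw [hqv, ← Submodule.mem_comap] at hl
    have hcomap : (maximalIdeal A • ⊤ : Submodule A Q).comap q = maximalIdeal A • ⊤ := by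
      rw [show (maximalIdeal A • ⊤ : Submodule A Q) = (maximalIdeal A • ⊤ : Submodule A (AdicCompletion (maximalIdeal B) B)).map q by
          rw [Submodule.map_smul'', Submodule.map_top, LinearMap.range_eq_top.2 hqs], Submodule.comap_map_eq, sup_eq_left]
      rw [LinearEquiv.ker_comp, Submodule.ker_mkQ]
      exact Submodule.smul_mono_left hJm
    rw [hcomap, Ideal.smul_top_eq_map, Submodule.restrictScalars_mem] at hl
    refine hv' (fun j => l ⟨j⟩) ?_ i.down
    have h5 : (maximalIdeal A).map (algebraMap A (AdicCompletion (maximalIdeal B) B)) = maximalIdeal (AdicCompletion (maximalIdeal B) B) := by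
      rw [IsScalarTower.algebraMap_eq A B (AdicCompletion (maximalIdeal B) B), ← Ideal.map_map, hm, AdicCompletion.maximalIdeal_eq_map]
    rwa [h5] at hl) (fun y => by
    obtain ⟨x, rfl⟩ := hqs y
    obtain ⟨c', rfl⟩ := hv x
    choose a' ha₂ using fun i => (AdicCompletion.residueField_map_bijective A).2 (residue (AdicCompletion (maximalIdeal A) A) (c' i))
    choose a'' ha₃ using fun i => residue_surjective (a' i)
    refine ⟨Finsupp.equivFunOnFinite.symm fun j => a'' j.down, ?_⟩
    rw [hqv, ← map_sub]
    have hmem : Fintype.linearCombination (AdicCompletion (maximalIdeal A) A) v c' - ∑ i, a'' i • v i ∈ (maximalIdeal A • ⊤ : Submodule A (AdicCompletion (maximalIdeal B) B)) := by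
      rw [Fintype.linearCombination_apply, ← Finset.sum_sub_distrib]
      refine sum_mem fun i _ => ?_
      rw [← algebraMap_smul (AdicCompletion (maximalIdeal A) A) (a'' i), ← sub_smul, Ideal.smul_top_eq_map, Submodule.restrictScalars_mem,
        IsScalarTower.algebraMap_eq A (AdicCompletion (maximalIdeal A) A) (AdicCompletion (maximalIdeal B) B), ← Ideal.map_map, ← hmA, Algebra.smul_def]
      refine Ideal.mul_mem_right _ _ (Ideal.mem_map_of_mem _ ?_)
      rw [← residue_eq_zero_iff, map_sub, sub_eq_zero, ← ha₂, ← ha₃]
      rfl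
    simp only [Finsupp.coe_equivFunOnFinite_symm]
    have h4 := Submodule.mem_map_of_mem (f := q) hmem
    rw [Submodule.map_smul'', Submodule.map_top, LinearMap.range_eq_top.2 hqs] at h4
    exact h4)
  have h1 : Finsupp.equivFunOnFinite.symm (fun j : ULift.{u} (Fin d) => a j.down) ∈ (J • ⊤ : Submodule A (ULift.{u} (Fin d) →₀ A)) := by
    rw [← hker, LinearMap.mem_ker, hqv]
    simp only [Finsupp.coe_equivFunOnFinite_symm, q, LinearMap.comp_apply, Submodule.mkQ_apply]
    rw [show Submodule.Quotient.mk (∑ i, a i • v i) = (0 : (AdicCompletion (maximalIdeal B) B) ⧸ (J • ⊤ : Submodule A (AdicCompletion (maximalIdeal B) B))) from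
      (Submodule.Quotient.mk_eq_zero _).2 (by rw [Ideal.smul_top_eq_map]; exact hsum)]
    exact map_zero _
  have h2 : a i ∈ J := by simpa using (Groth.Calg8.finsupp_mem_smul_top_iff _ _).1 h1 ⟨i⟩
  rw [hmA, ← Ideal.map_pow]
  simpa using add_mem (ha' i) (Ideal.mem_map_of_mem (algebraMap A (AdicCompletion (maximalIdeal A) A)) h2)

end

omit [IsLocalRing A] [IsNoetherianRing A] [IsLocalHom (algebraMap A B)] in
/-- Flatness descends along the completion. -/
theorem flat_of_completion [Module.Flat A (AdicCompletion (maximalIdeal B) B)] : Module.Flat A B := by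
  have := Module.FaithfullyFlat.of_flat_of_isLocalHom (A := B) (B := (AdicCompletion (maximalIdeal B) B))
  rw [Module.Flat.iff_lTensor_preserves_injective_linearMap]
  intro N N' _ _ _ _ f hf
  have hι : ∀ (M : Type u) [AddCommGroup M] [Module A M],
      Function.Injective ((IsScalarTower.toAlgHom A B (AdicCompletion (maximalIdeal B) B)).toLinearMap.rTensor M) := by
    intro M _ _
    have h1 := Module.FaithfullyFlat.tensorProduct_mk_injective (A := B) (B := (AdicCompletion (maximalIdeal B) B)) (B ⊗[A] M)
    have h2 := (TensorProduct.AlgebraTensorModule.cancelBaseChange A B B (AdicCompletion (maximalIdeal B) B) M).injective.comp h1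
    convert h2 using 1
    ext z
    induction z with
    | zero => simp
    | add y z hy hz => simp only [Function.comp_apply, map_add] at hy hz ⊢; exact congrArg₂ (· + ·) hy hz
    | tmul b n => simp [Algebra.smul_def]
  intro x y hxy
  refine hι N (Module.Flat.lTensor_preserves_injective_linearMap (M := (AdicCompletion (maximalIdeal B) B)) f hf ?_)
  have := congrArg ((IsScalarTower.toAlgHom A B (AdicCompletion (maximalIdeal B) B)).toLinearMap.rTensor N') hxy
  simpa only [← LinearMap.comp_apply, LinearMap.lTensor_comp_rTensor, LinearMap.rTensor_comp_lTensor] using this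

end Groth.HensPair
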