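import Mathlib.RingTheory.Spectrum.Prime.Topology
import Mathlib.AlgebraicGeometry.PullbackCarrier
import Mathlib.AlgebraicGeometry.Morphisms.Finite

/-! Clopen subsets of a closed subscheme lifting uniquely. -/

set_option autoImplicit false
universe u v w

namespace Groth.HensPair

open Topology

/-- Every clopen of the source is the preimage of exactly one clopen of the target. -/
def ClopenBij {W : Type v} {Y : Type w} [TopologicalSpace W] [TopologicalSpace Y] (q : W → Y) : Prop :=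
  ∀ V : Set W, IsClopen V → ∃! U : Set Y, IsClopen U ∧ q ⁻¹' U = V

theorem ClopenBij.of_range_eq {W : Type v} {W' : Type u} {Y : Type w} [TopologicalSpace W]
    [TopologicalSpace W'] [TopologicalSpace Y] {q : W → Y} {q' : W' → Y} (hq : IsEmbedding q)
    (hq' : IsEmbedding q') (h : Set.range q = Set.range q') (hb : ClopenBij q) : ClopenBij q' := by
  let φ : W ≃ₜ W' := hq.toHomeomorph.trans ((Homeomorph.setCongr h).trans hq'.toHomeomorph.symm)
  have hφ : ∀ x, q' (φ x) = q x := fun x =>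
    congrArg Subtype.val (hq'.toHomeomorph.apply_symm_apply ((Homeomorph.setCongr h) (hq.toHomeomorph x)))
  intro V hV
  obtain ⟨U, ⟨hU, hUV⟩, huniq⟩ := hb (φ ⁻¹' V) (hV.preimage φ.continuous)
  refine ⟨U, ⟨hU, ?_⟩, fun U' hU' => huniq U' ⟨hU'.1, ?_⟩⟩
  · ext y
    obtain ⟨x, rfl⟩ := φ.surjective y
    rw [Set.mem_preimage, hφ, ← Set.mem_preimage, hUV]
    rfl
  · ext x
    rw [Set.mem_preimage, ← hφ, ← Set.mem_preimage, hU'.2]
    rfl

theorem ClopenBij.congr_range {W : Type v} {W' : Type u} {Y : Type w} [TopologicalSpace W]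
    [TopologicalSpace W'] [TopologicalSpace Y] {q : W → Y} {q' : W' → Y} (hq : IsEmbedding q)
    (hq' : IsEmbedding q') (h : Set.range q = Set.range q') : ClopenBij q ↔ ClopenBij q' :=
  ⟨.of_range_eq hq hq' h, .of_range_eq hq' hq h.symm⟩

theorem ClopenBij.comp_homeomorph {W : Type v} {Y : Type w} {Y' : Type u} [TopologicalSpace W]
    [TopologicalSpace Y] [TopologicalSpace Y'] {q : W → Y} (e : Y ≃ₜ Y') :
    ClopenBij (e ∘ q) ↔ ClopenBij q := by
  constructor
  · intro h V hV
    obtain ⟨U, ⟨hU, hUV⟩, huniq⟩ := h V hV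
    refine ⟨e ⁻¹' U, ⟨hU.preimage e.continuous, hUV⟩, fun U' hU' => ?_⟩
    have := huniq (e.symm ⁻¹' U') ⟨hU'.1.preimage e.symm.continuous, by
      rw [← hU'.2]; ext x; simp⟩
    rw [← this]; ext x; simp
  · intro h V hV
    obtain ⟨U, ⟨hU, hUV⟩, huniq⟩ := h V hV
    refine ⟨e.symm ⁻¹' U, ⟨hU.preimage e.symm.continuous, by rw [← hUV]; ext x; simp⟩, fun U' hU' => ?_⟩
    have := huniq (e ⁻¹' U') ⟨hU'.1.preimage e.continuous, hU'.2⟩
    rw [← this]; ext x; simp

open PrimeSpectrum in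
theorem clopenBij_comap_mk_iff {B : Type u} [CommRing B] (J : Ideal B) :
    ClopenBij (PrimeSpectrum.comap (Ideal.Quotient.mk J)) ↔
      Set.BijOn (Ideal.Quotient.mk J) {e : B | IsIdempotentElem e} {e | IsIdempotentElem e} := by
  have hpre : ∀ e : B, PrimeSpectrum.comap (Ideal.Quotient.mk J) ⁻¹' (basicOpen e : Set _) =
      (basicOpen (Ideal.Quotient.mk J e) : Set _) := fun e => rfl
  constructor
  · intro h
    refine ⟨fun e he => IsIdempotentElem.map he _, fun x hx y hy hxy => ?_, fun f hf => ?_⟩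
    · refine basicOpen_injOn_isIdempotentElem hx hy (SetLike.ext' ?_)
      exact (h _ (PrimeSpectrum.isClopen_iff.2 ⟨_, IsIdempotentElem.map hx (Ideal.Quotient.mk J), rfl⟩)).unique
        ⟨PrimeSpectrum.isClopen_iff.2 ⟨x, hx, rfl⟩, hpre x⟩ ⟨PrimeSpectrum.isClopen_iff.2 ⟨y, hy, rfl⟩, (hpre y).trans (by rw [hxy])⟩
    · obtain ⟨U, ⟨hU, hUV⟩, -⟩ := h _ (PrimeSpectrum.isClopen_iff.2 ⟨f, hf, rfl⟩)
      obtain ⟨e, he, rfl⟩ := PrimeSpectrum.isClopen_iff.1 hU
      exact ⟨e, he, basicOpen_injOn_isIdempotentElem (IsIdempotentElem.map he _) hf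
        (SetLike.ext' ((hpre e).symm.trans hUV))⟩
  · intro h V hV
    obtain ⟨f, hf, rfl⟩ := PrimeSpectrum.isClopen_iff.1 hV
    obtain ⟨e, he, rfl⟩ := h.surjOn hf
    refine ⟨_, ⟨PrimeSpectrum.isClopen_iff.2 ⟨e, he, rfl⟩, hpre e⟩, fun U hU => ?_⟩
    obtain ⟨e', he', rfl⟩ := PrimeSpectrum.isClopen_iff.1 hU.1
    rw [h.injOn he' he (basicOpen_injOn_isIdempotentElem (IsIdempotentElem.map he' _) hf
      (SetLike.ext' ((hpre e').symm.trans hU.2)))]

open AlgebraicGeometry CategoryTheory Limits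

/-- Clopens over an affine closed subscheme of the base, read in a ring. -/
theorem clopenBij_pullback_fst_iff {A B : Type u} [CommRing A] [CommRing B] [Algebra A B]
    (I : Ideal A) {Y : Scheme.{u}} (g : Y ⟶ Spec (CommRingCat.of A))
    (e : Y ≅ Spec (CommRingCat.of B))
    (hg : g = e.hom ≫ Spec.map (CommRingCat.ofHom (algebraMap A B))) :
    ClopenBij (pullback.fst g (Spec.map (CommRingCat.ofHom (Ideal.Quotient.mk I)))).base ↔
      Set.BijOn (Ideal.Quotient.mk (I.map (algebraMap A B))) {e : B | IsIdempotentElem e}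
        {e | IsIdempotentElem e} := by
  set i := Spec.map (CommRingCat.ofHom (Ideal.Quotient.mk I))
  have : IsClosedImmersion i := IsClosedImmersion.spec_of_surjective _ Ideal.Quotient.mk_surjective
  let h : ↥Y ≃ₜ PrimeSpectrum B := Scheme.homeoOfIso e
  rw [← clopenBij_comap_mk_iff, ← ClopenBij.comp_homeomorph h]
  refine ClopenBij.congr_range (h.isEmbedding.comp (pullback.fst g i).isClosedEmbedding.isEmbedding)
    (PrimeSpectrum.isClosedEmbedding_comap_of_surjective _ _ Ideal.Quotient.mk_surjective).isEmbedding ?_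
  have hi : Set.range i.base = PrimeSpectrum.zeroLocus (I : Set A) := by
    refine (range_comap_of_surjective _ _ (Ideal.Quotient.mk_surjective (I := I))).trans ?_
    rw [Ideal.mk_ker]
  rw [Set.range_comp, Scheme.Pullback.range_fst, hi, range_comap_of_surjective _ _ Ideal.Quotient.mk_surjective,
    Ideal.mk_ker, Ideal.map, PrimeSpectrum.zeroLocus_span, ← PrimeSpectrum.preimage_comap_zeroLocus]
  ext p
  obtain ⟨y, rfl⟩ := h.surjective p
  rw [h.injective.mem_set_image, Set.mem_preimage, hg]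
  exact Iff.rfl

end Groth.HensPair
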