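import Groth.Agent.HensPair.ProperClopen
import Groth.Agent.HensPair.Couple
import Groth.Agent.SitesTopoi.Clopen

/-! Consequences of proper base change for clopens: connected components, closed fibres. -/

set_option autoImplicit false
universe u v w

open CategoryTheory CategoryTheory.Limits AlgebraicGeometry TopologicalSpace

namespace Groth.HensPair

variable {A : Type u} [CommRing A] {X : Scheme.{u}}

theorem clopenBij_overV (hPF : CohFin.ProjFinite.{u}) (I : Ideal A) [HenselianRing A I]
    (f : X ⟶ Spec (CommRingCat.of A)) [IsProper f] :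
    ClopenBij (Subtype.val : ↥(overV f I) → X) := by
  intro V hV
  have hcl := (isClosed_overV f I).isClosedEmbedding_subtypeVal.isClosedMap
  obtain ⟨W, hW, hWV⟩ := exists_clopen_of_proper hPF I f (Subtype.val '' V) (Subtype.val '' Vᶜ)
    (hcl _ hV.1) (hcl _ hV.compl.1)
    (by rw [← Set.image_inter Subtype.val_injective, Set.inter_compl_self, Set.image_empty])
    (by rw [← Set.image_union, Set.union_compl_self, Set.image_univ, Subtype.range_coe])
  refine ⟨W, ⟨hW, ?_⟩, fun U hU => ?_⟩
  · ext ⟨x, hx⟩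
    constructor
    · intro h
      obtain ⟨y, hy, hyx⟩ := hWV.le ⟨h, hx⟩
      rwa [← show y = (⟨x, hx⟩ : ↥(overV f I)) from Subtype.ext hyx]
    · intro h
      exact (hWV.ge ⟨⟨x, hx⟩, h, rfl⟩).1
  · refine clopen_eq_of_inter_overV f (HenselianRing.jac (I := I)) hU.1 hW ?_
    rw [hWV, ← hU.2, Subtype.image_preimage_coe, Set.inter_comm]

theorem clopenBij_of_range {W : Type v} [TopologicalSpace W] (hPF : CohFin.ProjFinite.{u}) (I : Ideal A)
    [HenselianRing A I] (f : X ⟶ Spec (CommRingCat.of A)) [IsProper f] {q : W → X}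
    (hq : Topology.IsEmbedding q) (hr : Set.range q = overV f I) : ClopenBij q :=
  ClopenBij.of_range_eq Topology.IsEmbedding.subtypeVal hq (by rw [hr]; exact Subtype.range_coe)
    (clopenBij_overV hPF I f)

theorem range_pullback_fst_mk (I : Ideal A) (f : X ⟶ Spec (CommRingCat.of A)) :
    Set.range (pullback.fst f (Spec.map (CommRingCat.ofHom (Ideal.Quotient.mk I)))).base = overV f I := by
  have hi : Set.range (Spec.map (CommRingCat.ofHom (Ideal.Quotient.mk I))).base =
      PrimeSpectrum.zeroLocus (I : Set A) := by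
    refine (range_comap_of_surjective _ _ (Ideal.Quotient.mk_surjective (I := I))).trans ?_
    rw [Ideal.mk_ker]
  exact (Scheme.Pullback.range_fst f _).trans (congrArg (f.base ⁻¹' ·) hi)

theorem clopenBij_pullback_fst (hPF : CohFin.ProjFinite.{u}) (I : Ideal A) [HenselianRing A I]
    (f : X ⟶ Spec (CommRingCat.of A)) [IsProper f] :
    ClopenBij (pullback.fst f (Spec.map (CommRingCat.ofHom (Ideal.Quotient.mk I)))).base := by
  have : IsClosedImmersion (Spec.map (CommRingCat.ofHom (Ideal.Quotient.mk I))) :=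
    IsClosedImmersion.spec_of_surjective _ Ideal.Quotient.mk_surjective
  exact clopenBij_of_range hPF I f (pullback.fst f _).isClosedEmbedding.isEmbedding
    (range_pullback_fst_mk I f)

/-- Bijective clopens give bijective connected components, on quasi-compact quasi-separated spaces. -/
theorem bijective_connectedComponentsMap {W : Type v} {Y : Type w} [TopologicalSpace W] [TopologicalSpace Y]
    [CompactSpace W] [PrespectralSpace W] [QuasiSeparatedSpace W]
    [CompactSpace Y] [PrespectralSpace Y] [QuasiSeparatedSpace Y] {q : W → Y} (hq : Continuous q)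
    (hb : ClopenBij q) : Function.Bijective hq.connectedComponentsMap := by
  classical
  constructor
  · intro a b hab
    obtain ⟨x, rfl⟩ := ConnectedComponents.surjective_coe a
    obtain ⟨y, rfl⟩ := ConnectedComponents.surjective_coe b
    rw [Continuous.connectedComponentsMap_mk, Continuous.connectedComponentsMap_mk,
      ConnectedComponents.coe_eq_coe, connectedComponent_eq_iff_mem] at hab
    rw [ConnectedComponents.coe_eq_coe, connectedComponent_eq_iff_mem]
    rw [Groth.SitesTopoi.connectedComponent_eq_sInter]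
    intro V hV
    obtain ⟨U, ⟨hU, rfl⟩, -⟩ := hb V hV.1
    exact hU.connectedComponent_subset hV.2 hab
  · intro c
    obtain ⟨y, rfl⟩ := ConnectedComponents.surjective_coe c
    let S : {Z : Set Y // IsClopen Z ∧ y ∈ Z} → Set W := fun Z => q ⁻¹' Z.1
    have hne : (⋂ Z, S Z).Nonempty := by
      by_contra h
      have hnonempty : Nonempty {Z : Set Y // IsClopen Z ∧ y ∈ Z} := ⟨⟨Set.univ, isClopen_univ, trivial⟩⟩
      obtain ⟨s, hs⟩ := isCompact_univ.elim_finite_subfamily_closed S (fun Z => (Z.2.1.preimage hq).1)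
        (by rw [Set.univ_inter]; exact Set.not_nonempty_iff_eq_empty.1 h)
      have hZ : IsClopen (⋂ Z ∈ s, (Z : Set Y)) := isClopen_biInter_finset fun Z _ => Z.2.1
      have he : q ⁻¹' (⋂ Z ∈ s, (Z : Set Y)) = ∅ := by
        simpa [S, Set.preimage_iInter] using hs
      have hyZ : y ∈ ⋂ Z ∈ s, (Z : Set Y) := Set.mem_iInter₂.2 fun Z _ => Z.2.2
      have h0 := (hb ∅ isClopen_empty).unique ⟨hZ, he⟩ ⟨isClopen_empty, Set.preimage_empty⟩
      rw [h0] at hyZ
      exact hyZ
    obtain ⟨x, hx⟩ := hne
    refine ⟨x, ?_⟩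
    rw [Continuous.connectedComponentsMap_mk, ConnectedComponents.coe_eq_coe, connectedComponent_eq_iff_mem,
      Groth.SitesTopoi.connectedComponent_eq_sInter]
    exact fun Z hZ => Set.mem_iInter.1 hx ⟨Z, hZ⟩

theorem toSpecΓ_toGlobal (f : X ⟶ Spec (CommRingCat.of A)) :
    X.toSpecΓ ≫ Spec.map (CommRingCat.ofHom (toΓ f)) = f := by
  have h : CommRingCat.ofHom (toΓ f) =
      (Scheme.ΓSpecIso (CommRingCat.of A)).inv ≫ f.appTop := rfl
  rw [h, Spec.map_comp, ← Category.assoc, ← Scheme.toSpecΓ_naturality, Category.assoc,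
    toSpecΓ_SpecMap_ΓSpecIso_inv]
  exact Category.comp_id f

theorem isProper_toSpecΓ (f : X ⟶ Spec (CommRingCat.of A)) [IsProper f] : IsProper X.toSpecΓ := by
  have : IsProper (X.toSpecΓ ≫ Spec.map (CommRingCat.ofHom (toΓ f))) :=
    (toSpecΓ_toGlobal f).symm ▸ (inferInstance : IsProper f)
  exact IsProper.of_comp X.toSpecΓ (Spec.map (CommRingCat.ofHom (toΓ f)))

theorem mem_toSpecΓ_asIdeal (r : Γ(X, ⊤)) (x : X) :
    r ∈ (X.toSpecΓ x).asIdeal ↔ x ∉ X.basicOpen r := by
  have h := X.toSpecΓ_preimage_basicOpen r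
  rw [← h, Scheme.Hom.mem_preimage]
  exact not_not.symm.trans (not_congr (PrimeSpectrum.mem_basicOpen _ _).symm)

/-- The kernel of restriction to the closed fibre cuts out exactly the closed fibre. -/
theorem overV_ker (I : Ideal A) (f : X ⟶ Spec (CommRingCat.of A)) :
    overV X.toSpecΓ (RingHom.ker
      (pullback.fst f (Spec.map (CommRingCat.ofHom (Ideal.Quotient.mk I)))).appTop.hom) = overV f I := by
  set i := pullback.fst f (Spec.map (CommRingCat.ofHom (Ideal.Quotient.mk I)))
  refine Set.Subset.antisymm (fun x hx a ha => ?_) fun x hx r hr => ?_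
  · have h1 : toΓ f a ∈ RingHom.ker i.appTop.hom := by
      show i.appTop (f.appTop ((Scheme.ΓSpecIso (CommRingCat.of A)).inv a)) = 0
      rw [← ConcreteCategory.comp_apply, ← Scheme.Hom.comp_appTop, pullback.condition, Scheme.Hom.comp_appTop,
        ConcreteCategory.comp_apply]
      refine (congrArg _ ?_).trans (map_zero _)
      have h3 := congr($((Scheme.ΓSpecIso_inv_naturality (CommRingCat.ofHom (Ideal.Quotient.mk I)))) a)
      refine h3.symm.trans ?_
      rw [ConcreteCategory.comp_apply]
      show (Scheme.ΓSpecIso (CommRingCat.of (A ⧸ I))).inv (Ideal.Quotient.mk I a) = 0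
      rw [Ideal.Quotient.eq_zero_iff_mem.2 ha, map_zero]
    have h2 := (mem_toSpecΓ_asIdeal _ x).1 (hx h1)
    by_contra hne
    exact h2 ((mem_basicOpen_toGlobal f a x).2 hne)
  · obtain ⟨z, rfl⟩ := (range_pullback_fst_mk I f).ge hx
    refine (mem_toSpecΓ_asIdeal _ _).2 fun h => ?_
    have h1 : z ∈ i ⁻¹ᵁ X.basicOpen r := h
    rw [Scheme.preimage_basicOpen_top, show i.appTop r = 0 from hr, Scheme.basicOpen_zero] at h1
    exact h1

/-- The closed fibre of an irreducible closed subset is connected. -/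
theorem isPreconnected_closure_inter_overV (hPF : CohFin.ProjFinite.{u}) (I : Ideal A) [HenselianRing A I]
    (f : X ⟶ Spec (CommRingCat.of A)) [IsProper f] (x : X) :
    _root_.IsPreconnected (closure ({x} : Set X) ∩ overV f I) := by
  let T : Closeds X := ⟨closure {x}, isClosed_closure⟩
  let 𝓘 := Scheme.IdealSheafData.vanishingIdeal T
  have hT : Set.range 𝓘.subschemeι = closure ({x} : Set X) := by
    rw [Scheme.IdealSheafData.range_subschemeι]; simp [𝓘, T]
  have hirr : _root_.IsPreconnected (Set.univ : Set 𝓘.subscheme) := by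
    rw [← 𝓘.subschemeι.isClosedEmbedding.isEmbedding.isInducing.isPreconnected_image, Set.image_univ, hT]
    exact isPreirreducible_singleton.closure.isPreconnected
  have : PreconnectedSpace 𝓘.subscheme := ⟨hirr⟩
  have hb := clopenBij_overV hPF I (𝓘.subschemeι ≫ f)
  have hpre : _root_.IsPreconnected (overV (𝓘.subschemeι ≫ f) I) := by
    rw [isPreconnected_iff_preconnectedSpace, preconnectedSpace_iff_clopen]
    intro V hV
    obtain ⟨U, ⟨hU, rfl⟩, -⟩ := hb V hV
    rcases isClopen_iff.1 hU with rfl | rfl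
    · exact Or.inl Set.preimage_empty
    · exact Or.inr Set.preimage_univ
  have himg : 𝓘.subschemeι '' overV (𝓘.subschemeι ≫ f) I = closure ({x} : Set X) ∩ overV f I := by
    ext z
    constructor
    · rintro ⟨y, hy, rfl⟩
      exact ⟨hT.le ⟨y, rfl⟩, hy⟩
    · rintro ⟨hz, hzI⟩
      obtain ⟨y, rfl⟩ := hT.ge hz
      exact ⟨y, hzI, rfl⟩
  rw [← himg]
  exact hpre.image _ 𝓘.subschemeι.continuous.continuousOn

end Groth.HensPair
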