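import Groth.Agent.S12124
import Groth.Prelude.Def_CAlg2
import Mathlib.RingTheory.Flat.Basic
import Mathlib.AlgebraicGeometry.Geometrically.Reduced
import Mathlib.RingTheory.DiscreteValuationRing.Basic

/-!
The generic fibre of a flat local algebra with geometrically reduced fibres over a geometrically
unibranch Noetherian local ring has no non-trivial idempotents (EGA IV, 18.9).
-/

set_option autoImplicit false
universe u

open CategoryTheory AlgebraicGeometry TensorProduct IsLocalRing

namespace Groth.HensPair.UnibranchIdem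

theorem isReduced_tensor {A B : Type u} [CommRing A] [CommRing B] [Algebra A B]
    [GeometricallyReduced (Spec.map (CommRingCat.ofHom (algebraMap A B)))]
    (k : Type u) [Field k] [Algebra A k] : _root_.IsReduced (B ⊗[A] k) := by
  have h : AlgebraicGeometry.IsReduced (Limits.pullback (Spec.map (CommRingCat.ofHom (algebraMap A B)))
      (Spec.map (CommRingCat.ofHom (algebraMap A k)))) :=
    GeometricallyReduced.geometrically_isReduced _ _ _ (.of_hasPullback _ _)
  have h' : AlgebraicGeometry.IsReduced (Spec (CommRingCat.of (B ⊗[A] k))) :=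
    isReduced_of_isOpenImmersion (pullbackSpecIso A B k).inv
  exact (affine_isReduced_iff _).1 h'

section DVR

variable {A B K : Type u} [CommRing A] [CommRing B] [Field K] [Algebra A B] [Algebra A K]
  [Module.Flat A B] [GeometricallyReduced (Spec.map (CommRingCat.ofHom (algebraMap A B)))]

/-- An idempotent of the generic fibre extends over a discrete valuation ring. -/
theorem idem_mem_dvr (V : ValuationSubring K) [IsDiscreteValuationRing V] [Algebra A V] [IsScalarTower A V K]
    (e : B ⊗[A] K) (he : e * e = e) (b : B) (x : K) (hx : e = b ⊗ₜ x) :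
    e ∈ Set.range (Algebra.TensorProduct.map (AlgHom.id A B) (IsScalarTower.toAlgHom A V K)) := by
  let ψ := Algebra.TensorProduct.map (AlgHom.id A B) (IsScalarTower.toAlgHom A V K)
  let φ := Algebra.TensorProduct.map (AlgHom.id A B) (IsScalarTower.toAlgHom A V (ResidueField V))
  have hψ : Function.Injective ψ :=
    Module.Flat.lTensor_preserves_injective_linearMap (M := B) (IsScalarTower.toAlgHom A V K).toLinearMap
      Subtype.val_injective
  obtain ⟨π, hπ⟩ := IsDiscreteValuationRing.exists_irreducible V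
  let P : B ⊗[A] V := 1 ⊗ₜ π
  have hπ0 : (π : K) ≠ 0 := fun h => hπ.ne_zero (Subtype.ext h)
  have hPu : IsUnit (ψ P) := by
    show IsUnit ((1 : B) ⊗ₜ[A] (π : K))
    exact (isUnit_iff_ne_zero.2 hπ0).map (Algebra.TensorProduct.includeRight (R := A) (A := B))
  obtain ⟨n, y₀, hn⟩ : ∃ (n : ℕ) (y : B ⊗[A] V), ψ y = ψ P ^ n * e := by
    obtain ⟨c, s, hs, hcs⟩ := IsFractionRing.div_surjective V x
    have hs0 : s ≠ 0 := nonZeroDivisors.ne_zero hs
    obtain ⟨n, u, rfl⟩ := IsDiscreteValuationRing.eq_unit_mul_pow_irreducible hs0 hπ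
    refine ⟨n, b ⊗ₜ (((u⁻¹ : Vˣ) : V) * c), ?_⟩
    show b ⊗ₜ[A] ((((u⁻¹ : Vˣ) : V) * c : V) : K) = ((1 : B) ⊗ₜ[A] (π : K)) ^ n * e
    rw [hx, Algebra.TensorProduct.tmul_pow, one_pow, Algebra.TensorProduct.tmul_mul_tmul, one_mul, ← hcs]
    congr 1
    have hu : (((u⁻¹ : Vˣ) : V) : K) * ((u : V) : K) = 1 := congrArg Subtype.val u.inv_mul
    have hu0 : ((u : V) : K) ≠ 0 := fun h => by rw [h, mul_zero] at hu; exact zero_ne_one hu
    show (((u⁻¹ : Vˣ) : V) : K) * (c : K) = (π : K) ^ n * ((c : K) / (((u : V) : K) * (π : K) ^ n))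
    field_simp
    linear_combination (c : K) * hu
  induction n generalizing y₀ with
  | zero => exact ⟨y₀, by rwa [pow_zero, one_mul] at hn⟩
  | succ m ih =>
    have h1 : y₀ * y₀ = P ^ (m + 1) * y₀ := hψ (by
      rw [map_mul, map_mul, map_pow, hn]
      linear_combination (ψ P ^ (m + 1)) * (ψ P ^ (m + 1)) * he)
    have hφP : φ P = 0 := by
      show (1 : B) ⊗ₜ[A] (algebraMap V (ResidueField V) π) = 0
      rw [show algebraMap V (ResidueField V) π = 0 from (residue_eq_zero_iff π).2 hπ.not_isUnit, tmul_zero]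
    have hy : φ y₀ = 0 := by
      have := isReduced_tensor (A := A) (B := B) (ResidueField V)
      refine IsReduced.eq_zero _ ⟨2, ?_⟩
      rw [sq, ← map_mul, h1, map_mul, map_pow, hφP, zero_pow (Nat.succ_ne_zero m), zero_mul]
    let μ : V →ₗ[A] V := (LinearMap.mulLeft V π).restrictScalars A
    have hex : Function.Exact μ (IsScalarTower.toAlgHom A V (ResidueField V)).toLinearMap := by
      intro v
      show residue V v = 0 ↔ v ∈ Set.range (fun w => π * w)
      rw [residue_eq_zero_iff, hπ.maximalIdeal_eq, Ideal.mem_span_singleton]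
      exact ⟨fun ⟨w, h⟩ => ⟨w, h.symm⟩, fun ⟨w, h⟩ => ⟨w, h.symm⟩⟩
    obtain ⟨y₁, rfl⟩ := (lTensor_exact B hex residue_surjective y₀).1 hy
    have hμ : ∀ t, LinearMap.lTensor B μ t = P * t := by
      intro t
      induction t with
      | zero => rw [map_zero, mul_zero]
      | tmul b v =>
        rw [LinearMap.lTensor_tmul, Algebra.TensorProduct.tmul_mul_tmul, one_mul]
        rfl
      | add s t hs ht => rw [map_add, hs, ht, mul_add]
    rw [hμ, map_mul, pow_succ', mul_assoc] at hn
    exact ih y₁ (hPu.mul_left_cancel hn)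

end DVR

variable {A B : Type u} [CommRing A] [IsLocalRing A] [IsNoetherianRing A] [CommRing B] [Algebra A B]
  [Module.Flat A B] [GeometricallyReduced (Spec.map (CommRingCat.ofHom (algebraMap A B)))]

/-- An idempotent of the generic fibre comes from the normalisation. -/
theorem idem_mem_integralClosure [IsDomain (CAlg2.red A)] (e : B ⊗[A] FractionRing (CAlg2.red A))
    (he : e * e = e) :
    e ∈ Set.range (Algebra.TensorProduct.map (AlgHom.id A B)
      (IsScalarTower.toAlgHom A (CAlg2.normRed A) (FractionRing (CAlg2.red A)))) := by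
  classical
  let R := CAlg2.red A
  let K := FractionRing R
  have : IsLocalRing R := IsLocalRing.of_surjective' (Ideal.Quotient.mk (nilradical A)) Ideal.Quotient.mk_surjective
  obtain ⟨C₀, hC₀, hV, hmem, hfin⟩ := Groth.Agent.S12124.result (A := R)
  -- a presentation with a single denominator
  obtain ⟨b, a, ha, hea⟩ : ∃ (b : B) (a : R), a ≠ 0 ∧ e = b ⊗ₜ[A] (algebraMap R K a)⁻¹ := by
    clear he
    induction e with
    | zero => exact ⟨0, 1, one_ne_zero, (zero_tmul B _).symm⟩
    | tmul b x =>
      obtain ⟨c, s, hs, rfl⟩ := IsFractionRing.div_surjective R x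
      obtain ⟨c, rfl⟩ := Ideal.Quotient.mk_surjective c
      refine ⟨c • b, s, nonZeroDivisors.ne_zero hs, ?_⟩
      rw [smul_tmul, div_eq_mul_inv, Algebra.smul_def, IsScalarTower.algebraMap_apply A R K]
      rfl
    | add x y hx hy =>
      obtain ⟨b, a, ha, rfl⟩ := hx
      obtain ⟨b', a', ha', rfl⟩ := hy
      obtain ⟨a, rfl⟩ := Ideal.Quotient.mk_surjective a
      obtain ⟨a', rfl⟩ := Ideal.Quotient.mk_surjective a'
      refine ⟨a' • b + a • b', Ideal.Quotient.mk _ a * Ideal.Quotient.mk _ a', mul_ne_zero ha ha', ?_⟩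
      have h0 : algebraMap R K (Ideal.Quotient.mk _ a) ≠ 0 := by simpa using ha
      have h0' : algebraMap R K (Ideal.Quotient.mk _ a') ≠ 0 := by simpa using ha'
      have e1 : a' • (algebraMap R K (Ideal.Quotient.mk _ a * Ideal.Quotient.mk _ a'))⁻¹ =
          (algebraMap R K (Ideal.Quotient.mk _ a))⁻¹ := by
        rw [Algebra.smul_def, IsScalarTower.algebraMap_apply A R K, map_mul, mul_inv, mul_left_comm]
        show _ * (algebraMap R K (Ideal.Quotient.mk _ a') * _) = _
        rw [mul_inv_cancel₀ h0', mul_one]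
      have e2 : a • (algebraMap R K (Ideal.Quotient.mk _ a * Ideal.Quotient.mk _ a'))⁻¹ =
          (algebraMap R K (Ideal.Quotient.mk _ a'))⁻¹ := by
        rw [Algebra.smul_def, IsScalarTower.algebraMap_apply A R K, map_mul, mul_inv, ← mul_assoc]
        show algebraMap R K (Ideal.Quotient.mk _ a) * _ * _ = _
        rw [mul_inv_cancel₀ h0, one_mul]
      rw [add_tmul, smul_tmul, smul_tmul, e1, e2]
  let x₀ : K := (algebraMap R K a)⁻¹
  have ha0 : algebraMap R K a ≠ 0 := by simpa using ha
  let S := (hfin x₀).toFinset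
  choose V hVd hVmem using fun p : {p : Ideal C₀ // p ∈ S} =>
    haveI := ((hfin x₀).mem_toFinset.1 p.2).1
    hV p.1 ((hfin x₀).mem_toFinset.1 p.2).2.1
  have hCV : ∀ (p : {p : Ideal C₀ // p ∈ S}) (c : K), c ∈ integralClosure R K → c ∈ V p := fun p c hc =>
    have := ((hfin x₀).mem_toFinset.1 p.2).1
    (hVmem p c).2 ((hmem c).1 hc p.1 ((hfin x₀).mem_toFinset.1 p.2).2.1)
  let M : Finset {p : Ideal C₀ // p ∈ S} → Submodule A K := fun T =>
    { carrier := {x | algebraMap R K a * x ∈ integralClosure R K ∧ ∀ p ∈ T, x ∈ V p}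
      add_mem' := fun {x y} hx hy => ⟨by rw [mul_add]; exact add_mem hx.1 hy.1, fun p hp => add_mem (hx.2 p hp) (hy.2 p hp)⟩
      zero_mem' := ⟨by rw [mul_zero]; exact zero_mem _, fun p _ => zero_mem _⟩
      smul_mem' := fun r x hx => by
        rw [Algebra.smul_def, IsScalarTower.algebraMap_apply A R K]
        exact ⟨by rw [mul_left_comm]; exact mul_mem ((integralClosure R K).algebraMap_mem _) hx.1,
          fun p hp => mul_mem (hCV p _ ((integralClosure R K).algebraMap_mem _)) (hx.2 p hp)⟩ }
  suffices h : ∀ T, e ∈ LinearMap.range (LinearMap.lTensor B (M T).subtype) by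
    obtain ⟨z, hz⟩ := h Finset.univ
    have hle : ∀ x ∈ M Finset.univ, x ∈ integralClosure R K := by
      intro x hx
      refine (hmem x).2 fun p hp hp1 => ?_
      by_cases hps : p ∈ S
      · exact (hVmem ⟨p, hps⟩ x).1 (hx.2 _ (Finset.mem_univ _))
      · obtain ⟨s, hs, hsx⟩ := not_not.1 fun h => hps ((hfin x₀).mem_toFinset.2 ⟨hp, hp1, h⟩)
        obtain ⟨t, ht, htx⟩ := (hmem _).1 hx.1 p hp1
        refine ⟨s * t, Ideal.IsPrime.mul_notMem hp hs ht, ?_⟩
        have : ((s * t : C₀) : K) * x = ((s : K) * x₀) * ((t : K) * (algebraMap R K a * x)) := by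
          show (s : K) * (t : K) * x = _
          rw [show (s : K) * x₀ * ((t : K) * (algebraMap R K a * x)) = (s : K) * (t : K) * x * (x₀ * algebraMap R K a) by ring,
            show x₀ * algebraMap R K a = 1 from inv_mul_cancel₀ ha0, mul_one]
        rw [this]
        exact hsx.mul htx
    let inc : M Finset.univ →ₗ[A] CAlg2.normRed A :=
      { toFun := fun x => ⟨x.1, hle x.1 x.2⟩
        map_add' := fun _ _ => rfl
        map_smul' := fun _ _ => rfl }
    refine ⟨LinearMap.lTensor B inc z, ?_⟩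
    rw [← hz]
    show LinearMap.lTensor B (IsScalarTower.toAlgHom A (CAlg2.normRed A) K).toLinearMap _ = _
    rw [← LinearMap.lTensor_comp_apply]
    rfl
  intro T
  induction T using Finset.induction with
  | empty =>
    refine ⟨b ⊗ₜ ⟨x₀, by rw [mul_inv_cancel₀ ha0]; exact one_mem _, by simp⟩, ?_⟩
    rw [LinearMap.lTensor_tmul]
    exact hea.symm
  | insert p T hpT ih =>
    obtain ⟨z, hz⟩ := ih
    have := hVd p
    let _ : Algebra A (V p) := (((algebraMap R K).comp (algebraMap A R)).codRestrict (V p)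
      fun r => hCV p _ ((integralClosure R K).algebraMap_mem _)).toAlgebra
    have : IsScalarTower A (V p) K := .of_algebraMap_eq fun r => IsScalarTower.algebraMap_apply A R K r
    obtain ⟨w, hw⟩ := idem_mem_dvr (V p) e he b x₀ hea
    let ιV : (V p) →ₗ[A] K := (IsScalarTower.toAlgHom A (V p) K).toLinearMap
    let g : M T →ₗ[A] K ⧸ LinearMap.range ιV := (LinearMap.range ιV).mkQ.comp (M T).subtype
    let inc : M (insert p T) →ₗ[A] M T :=
      Submodule.inclusion fun x hx => ⟨hx.1, fun q hq => hx.2 q (Finset.mem_insert_of_mem hq)⟩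
    have hex : Function.Exact inc g := by
      intro x
      show Submodule.Quotient.mk (x : K) = 0 ↔ _
      rw [Submodule.Quotient.mk_eq_zero]
      constructor
      · rintro ⟨v, hv⟩
        refine ⟨⟨x.1, x.2.1, fun q hq => ?_⟩, rfl⟩
        rcases Finset.mem_insert.1 hq with rfl | hq
        · exact hv ▸ v.2
        · exact x.2.2 q hq
      · rintro ⟨y, rfl⟩
        exact ⟨⟨y.1, y.2.2 p (Finset.mem_insert_self _ _)⟩, rfl⟩
    have hg : LinearMap.lTensor B g z = 0 := by
      show LinearMap.lTensor B ((LinearMap.range ιV).mkQ.comp (M T).subtype) z = 0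
      rw [LinearMap.lTensor_comp_apply, hz, ← hw]
      show LinearMap.lTensor B _ (LinearMap.lTensor B ιV w) = 0
      rw [← LinearMap.lTensor_comp_apply, show (LinearMap.range ιV).mkQ.comp ιV = 0 from
        LinearMap.ext fun v => (Submodule.Quotient.mk_eq_zero _).2 ⟨v, rfl⟩, LinearMap.lTensor_zero]
      rfl
    obtain ⟨z', rfl⟩ := ((Module.Flat.lTensor_exact B hex) z).1 hg
    exact ⟨z', by rw [← LinearMap.lTensor_comp_apply] at hz; exact hz⟩

omit [IsNoetherianRing A] [GeometricallyReduced (Spec.map (CommRingCat.ofHom (algebraMap A B)))] in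
/-- The base change of a local algebra to the normalisation of a geometrically unibranch ring is local. -/
theorem isLocalRing_tensor_normRed [IsLocalRing B] [IsLocalHom (algebraMap A B)] (hA : CAlg2.IsGeomUnibranch A) :
    IsLocalRing (B ⊗[A] CAlg2.normRed A) := by
  obtain ⟨⟨hd, hloc⟩, hrad⟩ := hA
  let C := CAlg2.normRed A
  have hAint : (algebraMap A C).IsIntegral := by
    rw [IsScalarTower.algebraMap_eq A (CAlg2.red A) C]
    exact RingHom.IsIntegral.trans _ _ (RingHom.isIntegral_of_surjective _ Ideal.Quotient.mk_surjective)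
      (algebraMap_isIntegral_iff.2 inferInstance)
  have : Algebra.IsIntegral A C := algebraMap_isIntegral_iff.1 hAint
  let iL : B →+* B ⊗[A] C := Algebra.TensorProduct.includeLeftRingHom
  let iR : C →ₐ[A] B ⊗[A] C := Algebra.TensorProduct.includeRight
  have hBint : iL.IsIntegral := fun z => by
    induction z with
    | zero => exact iL.isIntegralElem_zero
    | tmul b c =>
      rw [show b ⊗ₜ[A] c = iL b * iR c by simp [iL, iR]]
      refine RingHom.IsIntegralElem.mul iL iL.isIntegralElem_map ?_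
      obtain ⟨F, hF, hF0⟩ := hAint c
      refine ⟨F.map (algebraMap A B), hF.map _, ?_⟩
      rw [Polynomial.eval₂_map, show iL.comp (algebraMap A B) = iR.toRingHom.comp (algebraMap A C) from
        RingHom.ext fun r => by simp [iL, iR, Algebra.TensorProduct.tmul_one_eq_one_tmul]]
      rw [show iR c = iR.toRingHom c from rfl, ← Polynomial.hom_eval₂, hF0, map_zero]
    | add x y hx hy => exact hx.add iL hy
  have : Module.FaithfullyFlat A B := Module.FaithfullyFlat.of_flat_of_isLocalHom
  have hnt : Nontrivial (B ⊗[A] C) := Module.FaithfullyFlat.lTensor_nontrivial A B C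
  let q := ringExpChar (C ⧸ maximalIdeal C)
  have hQC : ∀ Q : Ideal (B ⊗[A] C), Q.IsMaximal →
      Q.comap iR.toRingHom = maximalIdeal C ∧ Q.comap iL = maximalIdeal B := by
    intro Q hQ
    have hPB : (Q.comap iL).IsMaximal := by
      let _ := iL.toAlgebra
      have : Algebra.IsIntegral B (B ⊗[A] C) := ⟨hBint⟩
      exact Ideal.isMaximal_comap_of_isIntegral_of_isMaximal Q
    have : (Q.comap iR.toRingHom).IsPrime := Ideal.IsPrime.comap _
    refine ⟨IsLocalRing.eq_maximalIdeal (Ideal.isMaximal_of_isIntegral_of_isMaximal_comap (R := A) _ ?_),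
      IsLocalRing.eq_maximalIdeal hPB⟩
    have h : (Q.comap iR.toRingHom).comap (algebraMap A C) = (Q.comap iL).comap (algebraMap A B) := by
      rw [Ideal.comap_comap, Ideal.comap_comap]
      congr 1
      exact RingHom.ext fun r => by simp [iL, iR, Algebra.TensorProduct.tmul_one_eq_one_tmul]
    rw [h, IsLocalRing.eq_maximalIdeal hPB, show (maximalIdeal B).comap (algebraMap A B) = maximalIdeal A from
      Ideal.ext fun a => not_iff_not.2 (isUnit_map_iff (algebraMap A B) a)]
    infer_instance
  have key : ∀ z : B ⊗[A] C, ∃ (N : ℕ) (β : B), ∀ Q : Ideal (B ⊗[A] C), Q.IsMaximal →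
      z ^ q ^ N - iL β ∈ Q := by
    intro z
    let _ : Field (C ⧸ maximalIdeal C) := Ideal.Quotient.field _
    have hchar : ∀ Q : Ideal (B ⊗[A] C), Q.IsMaximal → ExpChar ((B ⊗[A] C) ⧸ Q) q := by
      intro Q hQ
      have : Q.IsPrime := hQ.isPrime
      let r : C ⧸ maximalIdeal C →+* (B ⊗[A] C) ⧸ Q :=
        Ideal.Quotient.lift _ ((Ideal.Quotient.mk Q).comp iR.toRingHom)
          fun c hc => Ideal.Quotient.eq_zero_iff_mem.2 ((hQC Q hQ).1.ge hc)
      exact expChar_of_injective_ringHom r.injective q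
    induction z with
    | zero => exact ⟨0, 0, fun Q _ => by simp⟩
    | tmul b c =>
      obtain ⟨n, r, hr⟩ := hrad (maximalIdeal C) (Ideal.Quotient.mk _ c)
      refine ⟨n, b ^ q ^ n * algebraMap A B r, fun Q hQ => ?_⟩
      have hm : c ^ q ^ n - algebraMap A C r ∈ maximalIdeal C := by
        rw [← Ideal.Quotient.eq, map_pow]
        exact hr.symm
      have h2 := (hQC Q hQ).1.ge hm
      rw [Ideal.mem_comap, map_sub] at h2
      have h3 : (b ⊗ₜ[A] c) ^ q ^ n - iL (b ^ q ^ n * algebraMap A B r) =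
          iL (b ^ q ^ n) * (iR (c ^ q ^ n) - iR (algebraMap A C r)) := by
        rw [mul_sub, map_mul, show iL (algebraMap A B r) = iR (algebraMap A C r) by
          simp [iL, iR, Algebra.TensorProduct.tmul_one_eq_one_tmul]]
        simp [iL, iR, Algebra.TensorProduct.tmul_pow]
      rw [h3]
      exact Q.mul_mem_left _ h2
    | add x y hx hy =>
      obtain ⟨N, β, hβ⟩ := hx
      obtain ⟨M, γ, hγ⟩ := hy
      refine ⟨N + M, β ^ q ^ M + γ ^ q ^ N, fun Q hQ => ?_⟩
      have := hchar Q hQ
      have h1 := Ideal.Quotient.eq.2 (hβ Q hQ)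
      have h2 := Ideal.Quotient.eq.2 (hγ Q hQ)
      rw [map_pow] at h1 h2
      rw [← Ideal.Quotient.eq, map_pow, map_add,
        add_pow_expChar_pow (Ideal.Quotient.mk Q x) (Ideal.Quotient.mk Q y) q (N + M), map_add, map_add, map_pow, map_pow,
        map_pow, map_pow, ← h1, ← h2, ← pow_mul, ← pow_mul, ← pow_add, ← pow_add, add_comm M N]
  have hiff : ∀ (z : B ⊗[A] C) (Q Q' : Ideal (B ⊗[A] C)), Q.IsMaximal → Q'.IsMaximal → z ∈ Q → z ∈ Q' := by
    intro z Q Q' hQ hQ' hz
    obtain ⟨N, β, hβ⟩ := key z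
    let _ : Field (C ⧸ maximalIdeal C) := Ideal.Quotient.field _
    have hN : 0 < q ^ N := expChar_pow_pos (C ⧸ maximalIdeal C) q N
    have h1 : iL β ∈ Q := (Submodule.sub_mem_iff_right _ (Q.pow_mem_of_mem hz _ hN)).1 (hβ Q hQ)
    have h2 : iL β ∈ Q' := (hQC Q' hQ').2.ge ((hQC Q hQ).2.le h1)
    exact hQ'.isPrime.mem_of_pow_mem _ ((Submodule.sub_mem_iff_left _ h2).1 (hβ Q' hQ'))
  obtain ⟨Q₀, hQ₀⟩ := Ideal.exists_maximal (B ⊗[A] C)
  exact IsLocalRing.of_unique_max_ideal ⟨Q₀, hQ₀, fun Q hQ =>
    le_antisymm (fun z hz => hiff z Q Q₀ hQ hQ₀ hz) fun z hz => hiff z Q₀ Q hQ₀ hQ hz⟩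

/-- The generic fibre over a geometrically unibranch local ring has only trivial idempotents. -/
theorem idem_trivial [IsLocalRing B] [IsLocalHom (algebraMap A B)] (hA : CAlg2.IsGeomUnibranch A)
    (e : B ⊗[A] FractionRing (CAlg2.red A)) (he : IsIdempotentElem e) : e = 0 ∨ e = 1 := by
  have : IsDomain (CAlg2.red A) := hA.1.1
  have := isLocalRing_tensor_normRed (B := B) hA
  let φ := Algebra.TensorProduct.map (AlgHom.id A B)
    (IsScalarTower.toAlgHom A (CAlg2.normRed A) (FractionRing (CAlg2.red A)))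
  have hφ : Function.Injective φ :=
    Module.Flat.lTensor_preserves_injective_linearMap (M := B)
      (IsScalarTower.toAlgHom A (CAlg2.normRed A) (FractionRing (CAlg2.red A))).toLinearMap Subtype.val_injective
  obtain ⟨z, rfl⟩ := idem_mem_integralClosure e he
  have hz : IsIdempotentElem z := hφ (by rw [map_mul]; exact he)
  rcases IsLocalRing.isUnit_or_isUnit_one_sub_self z with h | h
  · exact Or.inr (by rw [show z = 1 from h.mul_left_cancel (hz.trans (mul_one z).symm), map_one])
  · exact Or.inl (by rw [show z = 0 from h.mul_left_cancel ((hz.one_sub_mul_self).trans (mul_zero _).symm), map_zero])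

end Groth.HensPair.UnibranchIdem
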