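import Groth.Agent.Ega4Algebra2.HenselConnected
import Groth.Agent.HensPair.UnibranchIdem
import Groth.Agent.Hensel1.UnibranchSepClosed
import Mathlib.RingTheory.Spectrum.Prime.Homeomorph

/-! Geometric connectedness of the fibres of flat local maps with geometrically reduced fibres over
henselian local rings. -/

set_option autoImplicit false
set_option linter.style.haveILetI false
set_option linter.overlappingInstances false
set_option linter.unusedSectionVars false
universe u

open TensorProduct IsLocalRing Polynomial

namespace Groth.HensPair.HenselFibres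

variable (A B : Type u) [CommRing A] [IsLocalRing A] [CommRing B] [IsLocalRing B] [Algebra A B]
  [IsLocalHom (algebraMap A B)] [Module.Flat A B]

/-- A tensor product of local rings is local when the product of residue fields has one prime. -/
theorem isLocalRing_tensor (C : Type u) [CommRing C] [IsLocalRing C] [Algebra A C] [Algebra.IsIntegral A C]
    [IsLocalHom (algebraMap A C)]
    (h : Subsingleton (PrimeSpectrum (ResidueField B ⊗[ResidueField A] ResidueField C))) :
    IsLocalRing (B ⊗[A] C) := by
  have : Module.FaithfullyFlat A B := Module.FaithfullyFlat.of_flat_of_isLocalHom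
  have hnt : Nontrivial (B ⊗[A] C) := Module.FaithfullyFlat.lTensor_nontrivial A B C
  let T := B ⊗[A] C
  let S := ResidueField B ⊗[ResidueField A] ResidueField C
  let iL : B →+* T := Algebra.TensorProduct.includeLeftRingHom
  let iR : C →+* T := (Algebra.TensorProduct.includeRight : C →ₐ[A] T).toRingHom
  have hsq : iL.comp (algebraMap A B) = iR.comp (algebraMap A C) :=
    RingHom.ext fun r => Algebra.TensorProduct.tmul_one_eq_one_tmul r
  let fB : B →ₐ[A] S :=
    { toRingHom := Algebra.TensorProduct.includeLeftRingHom.comp (residue B)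
      commutes' := fun a => rfl }
  let fC : C →ₐ[A] S :=
    { toRingHom := (Algebra.TensorProduct.includeRight :
        ResidueField C →ₐ[ResidueField A] S).toRingHom.comp (residue C)
      commutes' := fun a => ((Algebra.TensorProduct.includeRight :
        ResidueField C →ₐ[ResidueField A] S).commutes (residue A a)).trans
          (IsScalarTower.algebraMap_apply A (ResidueField A) S a).symm }
  let φ := Algebra.TensorProduct.lift fB fC fun _ _ => Commute.all _ _
  have key : ∀ Q : Ideal T, Q.IsMaximal → ∃ P : PrimeSpectrum S, P.asIdeal.comap φ.toRingHom = Q := by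
    intro Q hQ
    let _ : Field (T ⧸ Q) := Ideal.Quotient.field Q
    let q := Ideal.Quotient.mk Q
    have hPB : Q.comap iL = maximalIdeal B := by
      have : Algebra.IsIntegral B T := inferInstanceAs (Algebra.IsIntegral B (B ⊗[A] C))
      exact eq_maximalIdeal (Ideal.isMaximal_comap_of_isIntegral_of_isMaximal (R := B) Q)
    have : (Q.comap iR).IsPrime := Ideal.IsPrime.comap _
    have hPC : Q.comap iR = maximalIdeal C := by
      refine eq_maximalIdeal (Ideal.isMaximal_of_isIntegral_of_isMaximal_comap (R := A) _ ?_)
      rw [Ideal.comap_comap, ← hsq, ← Ideal.comap_comap, hPB,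
        show (maximalIdeal B).comap (algebraMap A B) = maximalIdeal A from
          Ideal.ext fun a => not_iff_not.2 (isUnit_map_iff (algebraMap A B) a)]
      infer_instance
    let gB : ResidueField B →+* T ⧸ Q := Ideal.Quotient.lift (maximalIdeal B) (q.comp iL)
      fun b hb => Ideal.Quotient.eq_zero_iff_mem.2 (hPB.ge hb)
    let gC : ResidueField C →+* T ⧸ Q := Ideal.Quotient.lift (maximalIdeal C) (q.comp iR)
      fun c hc => Ideal.Quotient.eq_zero_iff_mem.2 (hPC.ge hc)
    let _ : Algebra (ResidueField A) (T ⧸ Q) := (gB.comp (algebraMap (ResidueField A) (ResidueField B))).toAlgebra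
    let ψ := Algebra.TensorProduct.lift (R := ResidueField A) (S := ResidueField A)
      ({ toRingHom := gB, commutes' := fun _ => rfl } : ResidueField B →ₐ[ResidueField A] T ⧸ Q)
      ({ toRingHom := gC
         commutes' := fun a => by
          obtain ⟨a, rfl⟩ := residue_surjective a
          exact congrArg q (RingHom.congr_fun hsq a).symm } : ResidueField C →ₐ[ResidueField A] T ⧸ Q)
      fun _ _ => Commute.all _ _
    have hψ : ∀ t : T, ψ (φ t) = q t := by
      intro t
      induction t using TensorProduct.induction_on with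
      | zero => rw [map_zero, map_zero, map_zero]
      | tmul b c =>
        rw [Algebra.TensorProduct.lift_tmul, map_mul]
        show ψ (residue B b ⊗ₜ 1) * ψ (1 ⊗ₜ residue C c) = _
        rw [Algebra.TensorProduct.lift_tmul, Algebra.TensorProduct.lift_tmul, map_one, map_one, mul_one, one_mul]
        show q (iL b) * q (iR c) = _
        rw [← map_mul]
        show q (b ⊗ₜ[A] (1 : C) * (1 : B) ⊗ₜ[A] c) = _
        rw [Algebra.TensorProduct.tmul_mul_tmul, mul_one, one_mul]
      | add x y hx hy => rw [map_add, map_add, map_add, hx, hy]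
    refine ⟨⟨RingHom.ker ψ.toRingHom, RingHom.ker_isPrime _⟩, Ideal.ext fun t => ?_⟩
    show ψ (φ t) = 0 ↔ _
    rw [hψ, Ideal.Quotient.eq_zero_iff_mem]
  obtain ⟨Q₀, hQ₀⟩ := Ideal.exists_maximal T
  refine IsLocalRing.of_unique_max_ideal ⟨Q₀, hQ₀, fun Q hQ => ?_⟩
  obtain ⟨P, rfl⟩ := key Q hQ
  obtain ⟨P₀, rfl⟩ := key Q₀ hQ₀
  rw [Subsingleton.elim P P₀]

theorem subsingleton_tensor_of_isPurelyInseparable (k l k' : Type u) [Field k] [Field l] [Field k']
    [Algebra k l] [Algebra k k'] [IsPurelyInseparable k k'] :
    Subsingleton (PrimeSpectrum (l ⊗[k] k')) :=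
  (PrimeSpectrum.isHomeomorph_comap_of_isPurelyInseparable k k' l).injective.subsingleton

variable [AlgebraicGeometry.GeometricallyReduced
  (AlgebraicGeometry.Spec.map (CommRingCat.ofHom (algebraMap A B)))]

/-- Idempotents in the base change to a field, when base changes to integral domains stay local. -/
theorem idem_field [IsNoetherianRing A] [HenselianLocalRing A]
    (hloc : ∀ (C : Type u) [CommRing C] [IsLocalRing C] [Algebra A C] [Algebra.IsIntegral A C],
      IsLocalRing (B ⊗[A] C))
    (L : Type u) [Field L] [Algebra A L] (e : B ⊗[A] L) (he : IsIdempotentElem e) : e = 0 ∨ e = 1 := by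
  let C := integralClosure A L
  haveI : Algebra.IsIntegral A C := IsIntegralClosure.isIntegral_algebra A L
  haveI : IsLocalRing C := Groth.EtaleAlgebra.isLocalRing_of_isIntegral_domain A C
  haveI := hloc C
  have hz : Ega4b.ICBC.IntOver B (⊥ : Subalgebra A L) e := by
    refine ⟨X ^ 2 - X, monic_X_pow_sub (n := 2) (degree_X_le.trans_lt (by norm_num)), ?_⟩
    simp [pow_two, he.eq]
  have hbot : ∀ c : L, IsIntegral (⊥ : Subalgebra A L) c → c ∈ C := fun c hc => by
    haveI : Algebra.IsIntegral A (⊥ : Subalgebra A L) := ⟨fun x => by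
      obtain ⟨x, hx⟩ := x
      obtain ⟨a, rfl⟩ := Algebra.mem_bot.mp hx
      exact isIntegral_algebraMap⟩
    exact isIntegral_trans (A := (⊥ : Subalgebra A L)) c hc
  obtain ⟨w₀, hw₀⟩ := Ega4b.ICBC.img_mono B (N' := Subalgebra.toSubmodule C) (fun c hc => hbot c hc)
    (Ega4b.ICBC.mem_img_of_intOver_of_reduced B (fun K _ _ => UnibranchIdem.isReduced_tensor K) ⊥ hz)
  let ι := Ega4b.ICBC.bc B C.val
  have hι : Function.Injective ι := Ega4b.ICBC.bc_injective _ Subtype.val_injective
  let w : B ⊗[A] C := w₀
  have hwe : ι w = e := (Ega4b.ICBC.bc_eq_lTensor _ C.val w).trans hw₀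
  have hwi : IsIdempotentElem w := hι (by rw [map_mul, hwe, he.eq])
  rcases IsLocalRing.isUnit_or_isUnit_one_sub_self w with hu | hu
  · refine Or.inr ?_
    rw [← hwe, hu.mul_left_cancel (show w * w = w * 1 by rw [hwi.eq, mul_one]), map_one]
  · refine Or.inl ?_
    rw [← hwe, hu.mul_right_eq_zero.mp (show (1 - w) * w = 0 by rw [sub_mul, one_mul, hwi.eq, sub_self]),
      map_zero]

set_option synthInstance.maxHeartbeats 200000 in
/-- All base changes to fields are connected. -/
theorem connectedSpace_tensor [IsNoetherianRing A] [HenselianLocalRing A]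
    (hloc : ∀ (C : Type u) [CommRing C] [IsLocalRing C] [Algebra A C] [Algebra.IsIntegral A C],
      IsLocalRing (B ⊗[A] C))
    (K : Type u) [Field K] [Algebra A K] : ConnectedSpace (PrimeSpectrum (K ⊗[A] B)) := by
  have : Module.FaithfullyFlat A B := Module.FaithfullyFlat.of_flat_of_isLocalHom
  haveI : Nontrivial (K ⊗[A] B) := inferInstance
  refine Ega4b.HenselConn.connectedSpace_of_idem _ fun e he => ?_
  let p := RingHom.ker (algebraMap A K)
  haveI : p.IsPrime := RingHom.ker_isPrime _
  let L := AlgebraicClosure p.ResidueField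
  let Ω := AlgebraicClosure K
  let j : p.ResidueField →ₐ[A] K := Ideal.ResidueField.liftₐ p (Algebra.ofId A K) le_rfl (by
    intro x hx
    exact isUnit_iff_ne_zero.mpr fun h0 => hx h0)
  letI : Algebra p.ResidueField Ω := ((algebraMap K Ω).comp j.toRingHom).toAlgebra
  haveI : IsScalarTower A p.ResidueField Ω := IsScalarTower.of_algebraMap_eq fun a => by
    show _ = algebraMap K Ω (j (algebraMap A p.ResidueField a))
    rw [j.commutes, ← IsScalarTower.algebraMap_apply]
  let i : L →ₐ[p.ResidueField] Ω := IsAlgClosed.lift
  letI : Algebra L Ω := i.toRingHom.toAlgebra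
  haveI : IsScalarTower A L Ω := IsScalarTower.of_algebraMap_eq fun a => by
    rw [IsScalarTower.algebraMap_apply A p.ResidueField L, IsScalarTower.algebraMap_apply A p.ResidueField Ω]
    exact (i.commutes _).symm
  let f := Algebra.TensorProduct.map (IsScalarTower.toAlgHom A K Ω) (AlgHom.id A B)
  have hf : Function.Injective f :=
    Module.Flat.rTensor_preserves_injective_linearMap _ (RingHom.injective (algebraMap K Ω))
  let g := (Algebra.TensorProduct.cancelBaseChange A L L Ω B).symm
  have hR : ∀ x : L ⊗[A] B, IsIdempotentElem x → x = 0 ∨ x = 1 := fun x hx => by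
    let σ := Algebra.TensorProduct.comm A L B
    rcases idem_field A B hloc L (σ x) (hx.map σ) with h | h
    · exact Or.inl (σ.injective (h.trans (map_zero σ).symm))
    · exact Or.inr (σ.injective (h.trans (map_one σ).symm))
  rcases Ega4b.HenselConn.idem_tensor hR (g (f e)) ((he.map f).map g) with h | h
  · exact Or.inl (hf ((g.injective (h.trans (map_zero g).symm)).trans (map_zero f).symm))
  · exact Or.inr (hf ((g.injective (h.trans (map_one g).symm)).trans (map_one f).symm))

omit [AlgebraicGeometry.GeometricallyReduced
  (AlgebraicGeometry.Spec.map (CommRingCat.ofHom (algebraMap A B)))] in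
theorem hloc_of_isSepClosed [IsSepClosed (ResidueField A)]
    (C : Type u) [CommRing C] [IsLocalRing C] [Algebra A C] [Algebra.IsIntegral A C] :
    IsLocalRing (B ⊗[A] C) := by
  have := Groth.Hensel1.isLocalHom_of_isIntegral' A C
  have := Groth.Hensel1.isAlgebraic_residueField A C
  exact isLocalRing_tensor A B C (subsingleton_tensor_of_isPurelyInseparable _ _ _)

omit [AlgebraicGeometry.GeometricallyReduced
  (AlgebraicGeometry.Spec.map (CommRingCat.ofHom (algebraMap A B)))] in
theorem hloc_of_bijective (hres : Function.Bijective (ResidueField.map (algebraMap A B)))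
    (C : Type u) [CommRing C] [IsLocalRing C] [Algebra A C] [Algebra.IsIntegral A C] :
    IsLocalRing (B ⊗[A] C) := by
  have := Groth.Hensel1.isLocalHom_of_isIntegral' A C
  have hs : Function.Surjective (algebraMap (ResidueField A) (ResidueField B)) := hres.2
  have : IsPurelyInseparable (ResidueField A) (ResidueField B) :=
    (isPurelyInseparable_iff_pow_mem (ResidueField A) (ringExpChar (ResidueField A))).2
      fun x => ⟨0, by rw [pow_zero, pow_one]; exact hs x⟩
  refine isLocalRing_tensor A B C ?_
  have := subsingleton_tensor_of_isPurelyInseparable (ResidueField A) (ResidueField C) (ResidueField B)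
  exact (PrimeSpectrum.homeomorphOfRingEquiv (Algebra.TensorProduct.comm (ResidueField A)
    (ResidueField B) (ResidueField C)).toRingEquiv).injective.subsingleton

end Groth.HensPair.HenselFibres
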