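import Mathlib.RingTheory.Unramified.LocalStructure
import Mathlib.RingTheory.Unramified.LocalRing
import Mathlib.RingTheory.Etale.StandardEtale
import Mathlib.RingTheory.Flat.Equalizer
import Mathlib.RingTheory.Nakayama
import Mathlib.LinearAlgebra.TensorProduct.Quotient

set_option autoImplicit false
universe u

namespace Groth.HensPair

open IsLocalRing TensorProduct

theorem injective_of_surjective_of_flat {A X B : Type u} [CommRing A] [CommRing X] [CommRing B]
    [Algebra A X] [Algebra A B] [IsLocalRing X] [IsNoetherianRing X] [Nontrivial B] [Module.Flat A B]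
    (m : Ideal A) (hm : m.map (algebraMap A X) = maximalIdeal X)
    (π : X →ₐ[A] B) (hπ : Function.Surjective π) : Function.Injective π := by
  let J : Ideal X := RingHom.ker π
  have hJ : J ≤ maximalIdeal X := IsLocalRing.le_maximalIdeal (RingHom.ker_ne_top π)
  let Jₐ : Submodule A X := LinearMap.ker π.toLinearMap
  have hinj := LinearMap.lTensor_injective_of_exact_of_flat π.toLinearMap hπ Jₐ.subtype
    Jₐ.subtype_injective (LinearMap.exact_subtype_ker_map _) (A ⧸ m)
  have key : ∀ j : Jₐ, j ∈ m • (⊤ : Submodule A Jₐ) := by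
    intro j
    have h1 : Jₐ.subtype.lTensor (A ⧸ m) (Ideal.Quotient.mk m 1 ⊗ₜ j) = 0 := by
      rw [LinearMap.lTensor_tmul]
      apply (quotTensorEquivQuotSMul X m).injective
      rw [map_zero, quotTensorEquivQuotSMul_mk_tmul, one_smul, Submodule.Quotient.mk_eq_zero,
        Ideal.smul_top_eq_map, Submodule.restrictScalars_mem, hm]
      exact hJ j.2
    have h2 := congrArg (quotTensorEquivQuotSMul Jₐ m) (hinj (h1.trans (map_zero _).symm))
    rwa [map_zero, quotTensorEquivQuotSMul_mk_tmul, one_smul, Submodule.Quotient.mk_eq_zero] at h2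
  have hJJ : J ≤ maximalIdeal X • J := fun x hx => by
    have : ((⟨x, hx⟩ : Jₐ) : X) ∈ maximalIdeal X • J := by
      refine Submodule.smul_induction_on (key ⟨x, hx⟩) (fun a ha y _ => ?_) fun y z hy hz => add_mem hy hz
      show a • (y : X) ∈ _
      rw [← algebraMap_smul X a (y : X)]
      exact Submodule.smul_mem_smul (hm ▸ Ideal.mem_map_of_mem _ ha) y.2
    exact this
  have hbot : J = ⊥ := Submodule.eq_bot_of_le_smul_of_le_jacobson_bot _ _
    (IsNoetherian.noetherian J) hJJ (IsLocalRing.maximalIdeal_le_jacobson ⊥)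
  exact (RingHom.injective_iff_ker_eq_bot _).2 hbot

variable (A B : Type u) [CommRing A] [CommRing B] [IsLocalRing A] [IsLocalRing B] [Algebra A B]
  [IsLocalHom (algebraMap A B)] [Algebra.EssFiniteType A B]
  [Algebra.IsSeparable (ResidueField A) (ResidueField B)]

theorem exists_standardEtale_surjective
    (hm : (maximalIdeal A).map (algebraMap A B) = maximalIdeal B) :
    ∃ (P : StandardEtalePair A) (𝔮 : Ideal P.Ring) (_ : 𝔮.IsPrime)
      (π : Localization.AtPrime 𝔮 →ₐ[A] B), Function.Surjective π := by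
  have hu : Algebra.FormallyUnramified A B := Algebra.FormallyUnramified.of_map_maximalIdeal hm
  let S := Algebra.EssFiniteType.subalgebra A B
  let Q : Ideal S := (maximalIdeal B).comap (algebraMap S B)
  have hsub : Q.primeCompl = Algebra.EssFiniteType.submonoid A B := by
    ext x
    show x ∉ Q ↔ IsUnit (algebraMap S B x)
    exact IsLocalRing.notMem_maximalIdeal
  have : IsLocalization.AtPrime B Q := by
    show IsLocalization Q.primeCompl B
    rw [hsub]; infer_instance
  let e : Localization.AtPrime Q ≃ₐ[S] B := IsLocalization.algEquiv Q.primeCompl _ _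
  have : Algebra.IsUnramifiedAt A Q := Algebra.FormallyUnramified.of_equiv (e.restrictScalars A).symm
  obtain ⟨f, hfQ, P, φ, hφ⟩ := Algebra.IsUnramifiedAt.exists_hasStandardEtaleSurjectionOn (R := A) Q
  have hf : IsUnit (algebraMap S B f) := IsLocalRing.notMem_maximalIdeal.1 hfQ
  let g : Localization.Away f →ₐ[A] B :=
    (IsLocalization.Away.liftAlgHom f (f := Algebra.ofId S B) hf).restrictScalars A
  have hg : ∀ s : S, g (algebraMap S _ s) = algebraMap S B s := fun s =>
    IsLocalization.Away.lift_eq f hf s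
  let ψ : P.Ring →ₐ[A] B := g.comp φ
  let 𝔮 : Ideal P.Ring := (maximalIdeal B).comap ψ
  let π : Localization.AtPrime 𝔮 →ₐ[A] B := IsLocalization.liftAlgHom (M := 𝔮.primeCompl) (f := ψ)
    fun y => IsLocalRing.notMem_maximalIdeal.1 y.2
  have hπ : ∀ y, π (algebraMap P.Ring _ y) = ψ y := fun y => IsLocalization.lift_eq _ y
  refine ⟨P, 𝔮, inferInstance, π, fun b => ?_⟩
  obtain ⟨s, t, rfl⟩ := IsLocalization.exists_mk'_eq Q.primeCompl b
  obtain ⟨x, hx⟩ := hφ (algebraMap S _ s)
  obtain ⟨y, hy⟩ := hφ (algebraMap S _ (t : S))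
  have hyq : y ∉ 𝔮 := fun h => t.2 (by
    show algebraMap S B t ∈ maximalIdeal B
    rw [← hg, ← hy]; exact h)
  refine ⟨IsLocalization.mk' _ x (⟨y, hyq⟩ : 𝔮.primeCompl), ?_⟩
  rw [IsLocalization.eq_mk'_iff_mul_eq, ← hg, ← hy, show g (φ y) = π (algebraMap P.Ring _ y) from (hπ y).symm,
    ← map_mul, IsLocalization.mk'_spec, hπ, ← hg, ← hx]
  rfl

theorem exists_standardEtale_algEquiv [IsNoetherianRing A] [Module.Flat A B]
    (hm : (maximalIdeal A).map (algebraMap A B) = maximalIdeal B) :
    ∃ (P : StandardEtalePair A) (𝔮 : Ideal P.Ring) (_ : 𝔮.IsPrime),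
      Nonempty (B ≃ₐ[A] Localization.AtPrime 𝔮) := by
  obtain ⟨P, 𝔮, hq, π, hπ⟩ := exists_standardEtale_surjective A B hm
  have : IsNoetherianRing P.Ring := Algebra.FiniteType.isNoetherianRing A P.Ring
  have : IsNoetherianRing (Localization.AtPrime 𝔮) :=
    IsLocalization.isNoetherianRing 𝔮.primeCompl _ inferInstance
  have : IsLocalHom (algebraMap A (Localization.AtPrime 𝔮)) := ⟨fun a ha => by
    have := ha.map π
    rw [AlgHom.commutes] at this
    exact isUnit_of_map_unit (algebraMap A B) a this⟩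
  have : Algebra.FormallyEtale A (Localization.AtPrime 𝔮) := inferInstance
  have : Algebra.EssFiniteType A (Localization.AtPrime 𝔮) :=
    have := Algebra.EssFiniteType.of_isLocalization (S := Localization.AtPrime 𝔮) 𝔮.primeCompl
    Algebra.EssFiniteType.comp A P.Ring _
  exact ⟨P, 𝔮, hq, ⟨(AlgEquiv.ofBijective π ⟨injective_of_surjective_of_flat _
    Algebra.FormallyUnramified.map_maximalIdeal π hπ, hπ⟩).symm⟩⟩

end Groth.HensPair
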