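import Groth.Agent.CohC3.FullyFaithful
import Groth.Agent.CohFin.Proper
import Groth.Agent.Hensel1.Pairs
import Groth.Agent.QCohMod.Coherent
import Groth.Agent.HensPair.IdemClopen

/-!
Clopen subsets of the closed fibre of a proper scheme over a Noetherian henselian pair lift, by the
theorem on formal functions in degree zero.
-/

set_option autoImplicit false
universe u

open CategoryTheory CategoryTheory.Limits AlgebraicGeometry Opposite TopologicalSpace

namespace Groth.HensPair

variable {A : Type u} [CommRing A] {X : Scheme.{u}}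

/-- The points over `V(I)`. -/
def overV (f : X ⟶ Spec (CommRingCat.of A)) (I : Ideal A) : Set X :=
  f.base ⁻¹' PrimeSpectrum.zeroLocus (I : Set A)

theorem isClosed_overV (f : X ⟶ Spec (CommRingCat.of A)) (I : Ideal A) : IsClosed (overV f I) :=
  (PrimeSpectrum.isClosed_zeroLocus _).preimage f.continuous

/-- The structure map on global functions. -/
noncomputable abbrev toΓ (f : X ⟶ Spec (CommRingCat.of A)) : A →+* Γ(X, ⊤) :=
  f.appTop.hom.comp (Scheme.ΓSpecIso (CommRingCat.of A)).inv.hom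

theorem mem_basicOpen_toGlobal (f : X ⟶ Spec (CommRingCat.of A)) (a : A) (x : X) :
    x ∈ X.basicOpen (U := ⊤) (toΓ f a) ↔ a ∉ (f x).asIdeal := by
  have h : X.basicOpen (U := ⊤) (toΓ f a) =
      f ⁻¹ᵁ (Spec (CommRingCat.of A)).basicOpen ((Scheme.ΓSpecIso (CommRingCat.of A)).inv a) :=
    (Scheme.preimage_basicOpen f _).symm
  rw [h, Scheme.Hom.mem_preimage, basicOpen_eq_of_affine]
  exact PrimeSpectrum.mem_basicOpen _ _

variable [X.Over (Spec (CommRingCat.of A))]

theorem mem_basicOpen_baseApp (U : X.Opens) (a : A) (x : X) (hx : x ∈ U) :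
    x ∈ X.basicOpen (CohC3.baseApp X U a) ↔ a ∉ ((X ↘ Spec (CommRingCat.of A)) x).asIdeal := by
  rw [← mem_basicOpen_toGlobal]
  have h : X.basicOpen (CohC3.baseApp X U a) =
      U ⊓ X.basicOpen (U := ⊤) (toΓ (X ↘ Spec (CommRingCat.of A)) a) :=
    Scheme.basicOpen_res X (toΓ (X ↘ Spec (CommRingCat.of A)) a) (homOfLE le_top).op
  rw [h]
  exact ⟨fun h => h.2, fun h => ⟨hx, h⟩⟩

/-- Functions in the extended ideal vanish at the points over its zero locus. -/
theorem notMem_basicOpen_of_mem_map (J : Ideal A) {U : X.Opens} {r : Γ(X, U)}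
    (hr : r ∈ J.map (CohC3.baseApp X U)) {x : X} (hx : x ∈ U)
    (hxJ : x ∈ overV (X ↘ Spec (CommRingCat.of A)) J) : x ∉ X.basicOpen r := by
  have hle : J.map (CohC3.baseApp X U) ≤
      (IsLocalRing.maximalIdeal (X.presheaf.stalk x)).comap (X.presheaf.germ U x hx).hom := by
    refine Ideal.map_le_iff_le_comap.2 fun a ha => ?_
    rw [Ideal.mem_comap, Ideal.mem_comap, IsLocalRing.mem_maximalIdeal]
    intro hu
    exact (mem_basicOpen_baseApp U a x hx).1 ((X.mem_basicOpen _ x hx).2 hu) (hxJ ha)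
  intro h
  exact (IsLocalRing.mem_maximalIdeal _).1 (hle hr) ((X.mem_basicOpen r x hx).1 h)

/-- The extended ideal is everything on an affine open missing its zero locus. -/
theorem map_baseApp_eq_top (J : Ideal A) {U : X.Opens} (hU : IsAffineOpen U)
    (hUJ : ∀ x ∈ U, x ∉ overV (X ↘ Spec (CommRingCat.of A)) J) : J.map (CohC3.baseApp X U) = ⊤ := by
  by_contra hne
  obtain ⟨M, hM, hle⟩ := Ideal.exists_le_maximal _ hne
  let p : PrimeSpectrum Γ(X, U) := ⟨M, hM.isPrime⟩
  have hxU : hU.fromSpec p ∈ U := by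
    have : hU.fromSpec p ∈ Set.range hU.fromSpec := Set.mem_range_self p
    rwa [hU.range_fromSpec] at this
  refine hUJ _ hxU fun a ha => ?_
  by_contra h
  have h1 : hU.fromSpec p ∈ X.basicOpen (CohC3.baseApp X U a) := (mem_basicOpen_baseApp U a _ hxU).2 h
  have h2 : p ∈ hU.fromSpec ⁻¹ᵁ X.basicOpen (CohC3.baseApp X U a) := h1
  rw [hU.fromSpec_preimage_basicOpen] at h2
  exact h2 (hle (Ideal.mem_map_of_mem _ ha))

theorem app_top_eq_iff [IsLocallyNoetherian X] (I : Ideal A) (n : ℕ) {U : X.Opens} (hU : IsAffineOpen U)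
    (r : Γ(X, U)) :
    (Formal.modPowπ I n (Coh.structureModule X)).app U r = 0 ↔ r ∈ (I ^ n).map (CohC3.baseApp X U) := by
  have := (Groth.QCohMod.isCoh_unit (X := X)).1
  rw [(CohC3.isQuot_modPowπ I n (Coh.structureModule X)).app_eq_zero_iff r hU]
  constructor
  · intro h
    refine Submodule.smul_induction_on h (fun a ha m _ => ?_) (fun a b ha hb => add_mem ha hb)
    exact Ideal.mul_mem_right _ _ ha
  · intro h
    have := Submodule.smul_mem_smul h (Submodule.mem_top (R := Γ(X, U)) (x := (1 : Γ(X, U))))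
    rwa [show r • (1 : Γ(X, U)) = r from mul_one r] at this

theorem secEquiv₀_smul_structure (a : A) (x : Coh.HH X (Coh.structureModule X) 0) :
    (CohC3.secEquiv₀ (Coh.structureModule X) (a • x) : Γ(X, ⊤)) =
      toΓ (X ↘ Spec (CommRingCat.of A)) a *
        (show Γ(X, ⊤) from CohC3.secEquiv₀ (Coh.structureModule X) x) := by
  rw [← CohC3.hmap_smulMod, CohC3.secEquiv₀_hmap, CohC3.smulMod_app]
  show CohC3.baseApp X ⊤ a * (show Γ(X, ⊤) from CohC3.secEquiv₀ (Coh.structureModule X) x) = _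
  congr 1
  exact congr($(X.presheaf.map_id _) (toΓ (X ↘ Spec (CommRingCat.of A)) a))

/-- Global functions form a finite algebra when `H⁰` is finite. -/
theorem finite_globalSections (h : Module.Finite A (Coh.HH X (Coh.structureModule X) 0)) :
    letI := RingHom.toAlgebra (toΓ (X ↘ Spec (CommRingCat.of A)))
    Module.Finite A Γ(X, ⊤) := by
  letI := RingHom.toAlgebra (toΓ (X ↘ Spec (CommRingCat.of A)))
  let g : Coh.HH X (Coh.structureModule X) 0 →ₗ[A] Γ(X, ⊤) :=
    { toFun := fun x => CohC3.secEquiv₀ (Coh.structureModule X) x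
      map_add' := fun x y => map_add (CohC3.secEquiv₀ (Coh.structureModule X)) x y
      map_smul' := fun a x =>
        (secEquiv₀_smul_structure a x).trans (Algebra.smul_def (A := Γ(X, ⊤)) a _).symm }
  exact Module.Finite.of_surjective g (CohC3.secEquiv₀ (Coh.structureModule X)).surjective

/-- The projection to `O / I^n O` on functions. -/
noncomputable def piApp (I : Ideal A) (n : ℕ) (U : X.Opens) :
    Γ(X, U) →+ Γ(Formal.modPow I n (Coh.structureModule X), U) :=
  ((Formal.modPowπ I n (Coh.structureModule X)).app U).hom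

theorem piApp_res (I : Ideal A) (n : ℕ) {U V : X.Opens} (h : V ≤ U) (r : Γ(X, U)) :
    Groth.CohTwo.res _ h (piApp I n U r) = piApp I n V (Groth.CohTwo.resR X h r) :=
  (Groth.CohTwo.app_res (Formal.modPowπ I n (Coh.structureModule X)) h r).symm

theorem piApp_mul_eq_zero (I : Ideal A) (n : ℕ) (U : X.Opens) (r : Γ(X, U)) {s : Γ(X, U)}
    (hs : piApp I n U s = 0) : piApp I n U (r * s) = 0 := by
  refine ((Formal.modPowπ I n (Coh.structureModule X)).app_smul r s).trans ?_
  exact (congrArg (r • ·) hs).trans (smul_zero r)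

theorem piApp_eq_zero_iff [IsLocallyNoetherian X] (I : Ideal A) (n : ℕ) {U : X.Opens} (hU : IsAffineOpen U)
    (r : Γ(X, U)) : piApp I n U r = 0 ↔ r ∈ (I ^ n).map (CohC3.baseApp X U) :=
  app_top_eq_iff I n hU r

/-- Existence of clopen lifts, Noetherian case, with finite cohomology of the structure sheaf. -/
theorem exists_clopen_of_finite [IsNoetherianRing A] [IsNoetherian X] (I : Ideal A) [HenselianRing A I]
    (hfin : ∀ p, Module.Finite A (Coh.HH X (Coh.structureModule X) p))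
    (P Q : Set X) (hP : IsClosed P) (hQ : IsClosed Q) (hPQ : P ∩ Q = ∅)
    (hcov : P ∪ Q = overV (X ↘ Spec (CommRingCat.of A)) I) :
    ∃ W : Set X, IsClopen W ∧ P ⊆ W ∧ Q ⊆ Wᶜ := by
  classical
  set f := X ↘ Spec (CommRingCat.of A)
  let O := Coh.structureModule X
  have hO : Coh.IsCoh O := Groth.QCohMod.isCoh_unit
  have := hO.1
  have hff := CohC3.proBij I hO hfin 0
  obtain ⟨n, hn1, hker⟩ := hff.ker 1
  obtain ⟨m, hm, hcoker⟩ := hff.coker n
  let O₁ : X.Opens := ⟨Qᶜ, hQ.isOpen_compl⟩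
  let O₂ : X.Opens := ⟨Pᶜ, hP.isOpen_compl⟩
  have hzero : piApp I m (O₁ ⊓ O₂) (1 : Γ(X, O₁ ⊓ O₂)) = 0 := by
    refine Groth.CohTwo.eq_of_local (Formal.modPow I m O) _ _ fun x hx => ?_
    obtain ⟨_, ⟨U, hU, rfl⟩, hxU, hUle⟩ :=
      X.isBasis_affineOpens.exists_subset_of_mem_open hx (O₁ ⊓ O₂).2
    refine ⟨U, hUle, hxU, ?_⟩
    rw [map_zero, piApp_res, piApp_eq_zero_iff I m hU, Ideal.map_pow,
      map_baseApp_eq_top I hU (fun y hy hyI => by
        rcases hcov.ge hyI with h1 | h1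
        · exact (hUle hy).2 h1
        · exact (hUle hy).1 h1), Ideal.top_pow]
    trivial
  obtain ⟨s, hs₁, hs₂⟩ := Groth.QCohMod.exists_glue₂ (Formal.modPow I m O)
    (le_top : O₁ ≤ ⊤) (le_top : O₂ ≤ ⊤)
    (by
      intro x _
      by_cases hx : x ∈ Q
      · exact Or.inr fun hxP => (Set.eq_empty_iff_forall_notMem.1 hPQ x ⟨hxP, hx⟩)
      · exact Or.inl hx)
    (piApp I m O₁ (1 : Γ(X, O₁))) (0 : Γ(Formal.modPow I m O, O₂)) (by
      rw [map_zero]
      refine (piApp_res I m inf_le_left _).trans ?_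
      rw [map_one]
      exact hzero)
  obtain ⟨z, hz⟩ := hcoker ((CohC3.secEquiv₀ (Formal.modPow I m O)).symm s)
  let c : Γ(X, ⊤) := CohC3.secEquiv₀ O z
  let τ := CohC3.qTr O (Ideal.pow_le_pow_right hm : I ^ m ≤ I ^ n)
  have hc : piApp I n ⊤ c = τ.app ⊤ s := by
    have h := congrArg (CohC3.secEquiv₀ (Formal.modPow I n O)) hz
    rw [CohC3.secEquiv₀_hmap, CohC3.secEquiv₀_hmap, AddEquiv.apply_symm_apply] at h
    exact h
  have hc₁ : piApp I n O₁ (Groth.CohTwo.resR X le_top c - 1) = 0 := by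
    rw [map_sub, sub_eq_zero, ← piApp_res, hc, ← Groth.CohTwo.app_res]
    refine (congrArg (τ.app O₁) hs₁).trans ?_
    exact congr(($(CohC3.modPowπ_qTr O (Ideal.pow_le_pow_right hm : I ^ m ≤ I ^ n))).app O₁ (1 : Γ(X, O₁)))
  have hc₂ : piApp I n O₂ (Groth.CohTwo.resR X le_top c) = 0 := by
    rw [← piApp_res, hc, ← Groth.CohTwo.app_res]
    exact (congrArg (τ.app O₂) hs₂).trans (map_zero _)
  let d : Γ(X, ⊤) := c * c - c
  have hd : piApp I n ⊤ d = 0 := by
    refine Groth.CohTwo.eq_of_local (Formal.modPow I n O) _ _ fun x _ => ?_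
    by_cases hx : x ∈ Q
    · refine ⟨O₂, le_top, fun hxP => (Set.eq_empty_iff_forall_notMem.1 hPQ x ⟨hxP, hx⟩), ?_⟩
      rw [map_zero, piApp_res]
      simp only [d, map_sub, map_mul]
      rw [hc₂, sub_zero]
      exact piApp_mul_eq_zero I n O₂ _ hc₂
    · refine ⟨O₁, le_top, hx, ?_⟩
      rw [map_zero, piApp_res, show Groth.CohTwo.resR X (le_top : O₁ ≤ ⊤) d =
        Groth.CohTwo.resR X le_top c * (Groth.CohTwo.resR X le_top c - 1) by
          simp only [d, map_sub, map_mul]; ring]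
      exact piApp_mul_eq_zero I n O₁ _ hc₁
  have hdI : (CohC3.secEquiv₀ O).symm d ∈ I • (⊤ : Submodule A (Coh.HH X O 0)) := by
    rw [← pow_one I]
    refine hker _ ((CohC3.secEquiv₀ (Formal.modPow I n O)).injective ?_)
    rw [CohC3.secEquiv₀_hmap, AddEquiv.apply_symm_apply, map_zero]
    exact hd
  let _ : Algebra A Γ(X, ⊤) := RingHom.toAlgebra (toΓ f)
  have : Module.Finite A Γ(X, ⊤) := finite_globalSections (hfin 0)
  have hdJ : d ∈ I.map (algebraMap A Γ(X, ⊤)) := by
    have : ∀ x ∈ I • (⊤ : Submodule A (Coh.HH X O 0)),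
        (show Γ(X, ⊤) from CohC3.secEquiv₀ O x) ∈ I.map (algebraMap A Γ(X, ⊤)) := fun x hx => by
      refine Submodule.smul_induction_on hx (fun a ha y _ => ?_) (fun y y' hy hy' => ?_)
      · refine (secEquiv₀_smul_structure a y).symm ▸ ?_
        exact Ideal.mul_mem_right _ _ (Ideal.mem_map_of_mem _ ha)
      · rw [map_add]; exact add_mem hy hy'
    have h := this _ hdI
    rwa [AddEquiv.apply_symm_apply] at h
  obtain ⟨e, he, hec⟩ := Groth.Hensel1.exists_idempotent_lift (I := I) c hdJ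
  have hpt : ∀ (O' : X.Opens) (r : Γ(X, O')) (x : X) (hx : x ∈ O'), x ∈ overV f I →
      piApp I n O' r = 0 → x ∉ X.basicOpen r := by
    intro O' r x hx hxI hr
    obtain ⟨_, ⟨U, hU, rfl⟩, hxU, hUle⟩ :=
      X.isBasis_affineOpens.exists_subset_of_mem_open hx O'.2
    intro hxr
    have h1 : piApp I n U (Groth.CohTwo.resR X hUle r) = 0 := by
      rw [← piApp_res, hr, map_zero]
    refine notMem_basicOpen_of_mem_map (I ^ n) ((piApp_eq_zero_iff I n hU _).1 h1) hxU
      (fun a ha => hxI (Ideal.pow_le_self (by omega) ha)) ?_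
    rw [show X.basicOpen (Groth.CohTwo.resR X hUle r) = U ⊓ X.basicOpen r from
      Scheme.basicOpen_res X r (homOfLE hUle).op]
    exact ⟨hxU, hxr⟩
  have hJ : ∀ x ∈ overV f I, ¬ IsUnit (X.presheaf.germ ⊤ x trivial (e - c)) := by
    intro x hx hu
    refine notMem_basicOpen_of_mem_map I (U := ⊤) (r := e - c) ?_ trivial hx ((X.mem_basicOpen (U := ⊤) (e - c) x trivial).2 hu)
    have hba : CohC3.baseApp X (⊤ : X.Opens) = algebraMap A Γ(X, ⊤) := RingHom.ext fun a =>
      congr($(X.presheaf.map_id _) (Coh.toGlobal f a))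
    rw [hba]
    exact hec
  refine ⟨X.basicOpen e, isClopen_basicOpen he, fun x hx => ?_, fun x hx => ?_⟩
  · have hxI : x ∈ overV f I := hcov ▸ Or.inl hx
    have hxO : x ∈ O₁ := fun h => Set.eq_empty_iff_forall_notMem.1 hPQ x ⟨hx, h⟩
    rcases germ_idem he x with ⟨-, h⟩ | ⟨h0, -⟩
    · exact h
    exfalso
    refine hpt O₁ _ x hxO hxI hc₁ ((X.mem_basicOpen _ x hxO).2 ?_)
    have h2 := hJ x hxI
    rw [map_sub, h0, zero_sub, IsUnit.neg_iff] at h2
    have h3 : X.presheaf.germ O₁ x hxO (Groth.CohTwo.resR X le_top c) = X.presheaf.germ ⊤ x trivial c :=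
      TopCat.Presheaf.germ_res_apply X.presheaf (homOfLE le_top) x hxO c
    rw [map_sub, map_one, h3]
    have h4 := ((IsLocalRing.isUnit_or_isUnit_one_sub_self _).resolve_left h2).neg
    rwa [neg_sub] at h4
  · have hxI : x ∈ overV f I := hcov ▸ Or.inr hx
    have hxO : x ∈ O₂ := fun h => Set.eq_empty_iff_forall_notMem.1 hPQ x ⟨h, hx⟩
    intro hxe
    rcases germ_idem he x with ⟨h1, -⟩ | ⟨-, h⟩
    swap
    · exact h hxe
    refine hpt O₂ _ x hxO hxI hc₂ ((X.mem_basicOpen _ x hxO).2 ?_)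
    rw [show X.presheaf.germ O₂ x hxO (Groth.CohTwo.resR X le_top c) = X.presheaf.germ ⊤ x trivial c from
      TopCat.Presheaf.germ_res_apply X.presheaf (homOfLE le_top) x hxO c]
    have h2 := hJ x hxI
    rw [map_sub, h1] at h2
    rcases IsLocalRing.isUnit_or_isUnit_one_sub_self (X.presheaf.germ ⊤ x trivial c) with h | h
    · exact h
    · exact absurd h h2

omit [X.Over (Spec (CommRingCat.of A))] in
/-- Existence of clopen lifts for proper schemes over a Noetherian henselian pair. -/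
theorem exists_clopen_of_noetherian (hPF : CohFin.ProjFinite.{u}) [IsNoetherianRing A] (I : Ideal A)
    [HenselianRing A I] (f : X ⟶ Spec (CommRingCat.of A)) [IsProper f]
    (P Q : Set X) (hP : IsClosed P) (hQ : IsClosed Q) (hPQ : P ∩ Q = ∅) (hcov : P ∪ Q = overV f I) :
    ∃ W : Set X, IsClopen W ∧ P ⊆ W ∧ Q ⊆ Wᶜ := by
  let : X.Over (Spec (CommRingCat.of A)) := ⟨f⟩
  haveI : IsLocallyNoetherian X := LocallyOfFiniteType.isLocallyNoetherian f
  haveI := CohFin.compactSpace_of_proper f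
  haveI : IsNoetherian X := ⟨⟩
  exact exists_clopen_of_finite I (fun p => CohFin.hFin_of_proper hPF p X f _ Groth.QCohMod.isCoh_unit)
    P Q hP hQ hPQ hcov

omit [X.Over (Spec (CommRingCat.of A))] in
/-- Global functions on a proper scheme over a Noetherian ring form a finite algebra. -/
theorem finite_globalSections_of_proper (hPF : CohFin.ProjFinite.{u}) [IsNoetherianRing A]
    (f : X ⟶ Spec (CommRingCat.of A)) [IsProper f] :
    letI := RingHom.toAlgebra (toΓ f)
    Module.Finite A Γ(X, ⊤) := by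
  let : X.Over (Spec (CommRingCat.of A)) := ⟨f⟩
  haveI : IsLocallyNoetherian X := LocallyOfFiniteType.isLocallyNoetherian f
  exact finite_globalSections (CohFin.hFin_of_proper hPF 0 X f _ Groth.QCohMod.isCoh_unit)

end Groth.HensPair

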