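import Groth.Agent.HensPair.GraphProj
import Groth.Agent.HensPair.ProperClopen
import Groth.Agent.Variety2.ProjBasics
import Mathlib.RingTheory.AdicCompletion.LocalRing

/-!
Clopen subsets of a quasi-compact open of the spectrum containing the complement of `V(I)` are those
of its preimage in the completion, for a henselian pair.
-/

set_option autoImplicit false
universe u v

open AlgebraicGeometry CategoryTheory MvPolynomial TopologicalSpace Pointwise

namespace Groth.HensPair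

variable {R : Type u} [CommRing R]

theorem pow_mul_eq_zero_of_imp {a b G : R} (ha : a * a = G * a) (hb : b * b = G * b)
    (h : ∀ p : PrimeSpectrum R, a ∉ p.asIdeal → b ∉ p.asIdeal) : ∃ t, G ^ t * (a * (b - G)) = 0 := by
  have hb0 : b * (b - G) = 0 := by rw [mul_sub, hb]; ring
  obtain ⟨m, hm⟩ : IsNilpotent (a * (b - G)) := by
    refine nilpotent_iff_mem_prime.2 fun J hJ => ?_
    by_cases haJ : a ∈ J
    · exact J.mul_mem_right _ haJ
    · refine J.mul_mem_left _ ((hJ.mem_or_mem (x := b) (y := b - G) (hb0 ▸ J.zero_mem)).resolve_left ?_)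
      exact h ⟨J, hJ⟩ haJ
  have hy : a * (b - G) * (a * (b - G)) = (G * (-G)) * (a * (b - G)) := by
    have : (b - G) * (b - G) = (-G) * (b - G) := by linear_combination hb
    linear_combination (b - G) * (b - G) * ha + G * a * this
  have hpow : ∀ j, (a * (b - G)) ^ (j + 1) = (G * (-G)) ^ j * (a * (b - G)) := by
    intro j
    induction j with
    | zero => simp
    | succ j ih => rw [pow_succ, ih, mul_assoc, hy, pow_succ]; ring
  refine ⟨2 * m, ?_⟩
  have h0 : (G * (-G)) ^ m * (a * (b - G)) = 0 := by rw [← hpow, pow_succ, hm, zero_mul]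
  rw [mul_pow, neg_pow] at h0
  have : (-1 : R) ^ m * (-1) ^ m = 1 := by rw [← mul_pow]; simp
  rw [two_mul, pow_add]
  linear_combination ((-1 : R) ^ m) * h0 - G ^ m * G ^ m * (a * (b - G)) * this

/-- Two quasi-idempotents with the same support agree after scaling. -/
theorem pow_mul_eq_of_support {a b G : R} (ha : a * a = G * a) (hb : b * b = G * b)
    (h : ∀ p : PrimeSpectrum R, a ∉ p.asIdeal ↔ b ∉ p.asIdeal) : ∃ t, G ^ t * (a - b) = 0 := by
  obtain ⟨t, ht⟩ := pow_mul_eq_zero_of_imp ha hb fun p => (h p).1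
  obtain ⟨s, hs⟩ := pow_mul_eq_zero_of_imp hb ha fun p => (h p).2
  refine ⟨t + s + 1, ?_⟩
  rw [pow_succ, pow_add]
  linear_combination G ^ t * hs - G ^ s * ht

/-- A clopen subset of an affine basic open, as a quasi-idempotent. -/
theorem exists_numerator_of_clopen (g : R) (V : Set (PrimeSpectrum R)) (hV : IsOpen V)
    (hV' : IsOpen ((PrimeSpectrum.basicOpen g : Set (PrimeSpectrum R)) \ V)) :
    ∃ N s x, g ^ s * (x * x - g ^ N * x) = 0 ∧
      ∀ p : PrimeSpectrum R, g ∉ p.asIdeal → (p ∈ V ↔ x ∉ p.asIdeal) := by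
  let L := Localization.Away g
  let c : PrimeSpectrum L → PrimeSpectrum R := PrimeSpectrum.comap (algebraMap R L)
  have hr : Set.range c = (PrimeSpectrum.basicOpen g : Set (PrimeSpectrum R)) :=
    PrimeSpectrum.localization_away_comap_range L g
  have hcont : Continuous c := PrimeSpectrum.continuous_comap _
  have hcl : IsClopen (c ⁻¹' V) := by
    refine ⟨⟨?_⟩, hV.preimage hcont⟩
    have : (c ⁻¹' V)ᶜ = c ⁻¹' ((PrimeSpectrum.basicOpen g : Set (PrimeSpectrum R)) \ V) := by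
      ext q
      exact ⟨fun h => ⟨hr.le ⟨q, rfl⟩, h⟩, fun h => h.2⟩
    rw [this]
    exact hV'.preimage hcont
  obtain ⟨e, he, heV⟩ := PrimeSpectrum.isClopen_iff.1 hcl
  obtain ⟨N, x, hx⟩ := IsLocalization.Away.surj g e
  obtain ⟨⟨_, s, rfl⟩, hs⟩ := (IsLocalization.eq_iff_exists (Submonoid.powers g) L).1
    (show algebraMap R L (x * x) = algebraMap R L (g ^ N * x) by
      rw [map_mul, map_mul, map_pow, ← hx]
      linear_combination (algebraMap R L g) ^ N * (algebraMap R L g) ^ N * he.eq)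
  refine ⟨N, s, x, by rw [mul_sub, hs, sub_self], fun p hp => ?_⟩
  obtain ⟨q, hq⟩ := hr.ge (show p ∈ PrimeSpectrum.basicOpen g from hp)
  rw [← hq]
  show q ∈ c ⁻¹' V ↔ algebraMap R L x ∉ q.asIdeal
  rw [heV, ← hx]
  have hu : IsUnit (algebraMap R L g ^ N) := (IsLocalization.Away.algebraMap_isUnit g).pow N
  exact ⟨fun h hh => h ((q.asIdeal.mul_unit_mem_iff_mem hu).1 hh),
    fun h hh => h (q.asIdeal.mul_mem_right _ hh)⟩

/-- Clopen subsets of a union of basic opens, as tuples. -/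
theorem exists_tuple_of_clopen {ι : Type*} [Finite ι] (g : ι → R) (V : Set (PrimeSpectrum R))
    (hV : IsOpen V)
    (hV' : IsOpen ((⋃ i, (PrimeSpectrum.basicOpen (g i) : Set (PrimeSpectrum R))) \ V))
    (hVU : V ⊆ ⋃ i, (PrimeSpectrum.basicOpen (g i) : Set (PrimeSpectrum R))) :
    ∃ (N : ℕ) (z : ι → R), 0 < N ∧ (∀ i j, z i * z j = g j ^ N * z i) ∧
      ∀ p : PrimeSpectrum R, p ∈ V ↔ ∃ i, z i ∉ p.asIdeal := by
  classical
  have := Fintype.ofFinite ι
  have hcl : ∀ i, IsOpen ((PrimeSpectrum.basicOpen (g i) : Set (PrimeSpectrum R)) \ V) := fun i => by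
    have : (PrimeSpectrum.basicOpen (g i) : Set (PrimeSpectrum R)) \ V =
        (PrimeSpectrum.basicOpen (g i) : Set (PrimeSpectrum R)) ∩
          ((⋃ i, (PrimeSpectrum.basicOpen (g i) : Set (PrimeSpectrum R))) \ V) := by
      ext p
      exact ⟨fun h => ⟨h.1, Set.mem_iUnion.2 ⟨i, h.1⟩, h.2⟩, fun h => ⟨h.1, h.2.2⟩⟩
    rw [this]
    exact (PrimeSpectrum.basicOpen (g i)).2.inter hV'
  choose n s x hx hp using fun i => exists_numerator_of_clopen (g i) V hV (hcl i)
  -- a common exponent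
  let N₀ := ∑ i, n i
  let w : ι → R := fun i => g i ^ (N₀ - n i) * x i
  have hn : ∀ i, n i ≤ N₀ := fun i => Finset.single_le_sum (fun j _ => Nat.zero_le _) (Finset.mem_univ i)
  have hw : ∀ i, g i ^ s i * (w i * w i - g i ^ N₀ * w i) = 0 := fun i => by
    have : g i ^ N₀ = g i ^ (N₀ - n i) * g i ^ n i := by rw [← pow_add, Nat.sub_add_cancel (hn i)]
    simp only [w, this]
    linear_combination g i ^ (N₀ - n i) * g i ^ (N₀ - n i) * hx i
  have hwp : ∀ i (p : PrimeSpectrum R), g i ∉ p.asIdeal → (p ∈ V ↔ w i ∉ p.asIdeal) := fun i p hi => by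
    rw [hp i p hi]
    exact ⟨fun h hh => h ((p.isPrime.mem_or_mem hh).resolve_left fun h' =>
      hi (p.isPrime.mem_of_pow_mem _ h')), fun h hh => h (p.asIdeal.mul_mem_left _ hh)⟩
  have hov : ∀ i j, ∃ t, (g i * g j) ^ t * (g j ^ N₀ * w i - g i ^ N₀ * w j) = 0 := fun i j => by
    let S := s i + s j + 1
    obtain ⟨t, ht⟩ := pow_mul_eq_of_support
      (a := (g i * g j) ^ S * (g j ^ N₀ * w i)) (b := (g i * g j) ^ S * (g i ^ N₀ * w j))
      (G := (g i * g j) ^ (S + N₀))
      (by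
        have : g i ^ S = g i ^ (s j + 1) * g i ^ s i := by rw [← pow_add]; congr 1; omega
        simp only [mul_pow, pow_add, this]
        linear_combination g i ^ (s j + 1) * g i ^ (s j + 1) * g i ^ s i *
          g j ^ S * g j ^ S * g j ^ N₀ * g j ^ N₀ * hw i)
      (by
        have : g j ^ S = g j ^ (s i + 1) * g j ^ s j := by rw [← pow_add]; congr 1; omega
        simp only [mul_pow, pow_add, this]
        linear_combination g j ^ (s i + 1) * g j ^ (s i + 1) * g j ^ s j *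
          g i ^ S * g i ^ S * g i ^ N₀ * g i ^ N₀ * hw j)
      (fun p => by
        by_cases hij : g i * g j ∈ p.asIdeal
        · have : (g i * g j) ^ S ∈ p.asIdeal := p.asIdeal.pow_mem_of_mem hij S (by omega)
          simp [p.asIdeal.mul_mem_right _ this]
        · have hi : g i ∉ p.asIdeal := fun h => hij (p.asIdeal.mul_mem_right _ h)
          have hj : g j ∉ p.asIdeal := fun h => hij (p.asIdeal.mul_mem_left _ h)
          simp only [p.isPrime.mul_mem_iff_mem_or_mem, not_or]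
          have := (hwp i p hi).symm.trans (hwp j p hj)
          have hS : (g i * g j) ^ S ∉ p.asIdeal := fun h => hij (p.isPrime.mem_of_pow_mem _ h)
          exact ⟨fun h => ⟨hS, fun h' => hi (p.isPrime.mem_of_pow_mem _ h'), this.1 h.2.2⟩,
            fun h => ⟨hS, fun h' => hj (p.isPrime.mem_of_pow_mem _ h'), this.2 h.2.2⟩⟩)
    refine ⟨(S + N₀) * t + S, ?_⟩
    rw [pow_add, pow_mul]
    linear_combination ht
  choose t ht using hov
  let T := (∑ i, ∑ j, t i j) + ∑ i, s i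
  have hti : ∀ i j, t i j ≤ T := fun i j =>
    ((Finset.single_le_sum (f := t i) (fun _ _ => Nat.zero_le _) (Finset.mem_univ j)).trans
      (Finset.single_le_sum (f := fun i => ∑ j, t i j) (fun _ _ => Nat.zero_le _)
        (Finset.mem_univ i))).trans (Nat.le_add_right _ _)
  have hB : ∀ i j, (g i * g j) ^ T * (g j ^ N₀ * w i - g i ^ N₀ * w j) = 0 := fun i j => by
    rw [← Nat.sub_add_cancel (hti i j), pow_add, mul_assoc, ht, mul_zero]
  have hA : ∀ i, g i ^ T * (w i * w i - g i ^ N₀ * w i) = 0 := fun i => by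
    have : s i ≤ T := (Finset.single_le_sum (f := s) (fun _ _ => Nat.zero_le _) (Finset.mem_univ i)).trans
      (Nat.le_add_left _ _)
    rw [← Nat.sub_add_cancel this, pow_add, mul_assoc, hw, mul_zero]
  refine ⟨N₀ + (T + N₀ + 1), fun i => g i ^ (T + N₀ + 1) * w i, by omega, fun i j => ?_, fun p => ?_⟩
  · simp only [pow_add, pow_one]
    linear_combination g i * g j * g i ^ N₀ * (w j - g j ^ N₀) * hB i j +
      g i * g j * g i ^ N₀ * g i ^ N₀ * g i ^ T * hA j
  · constructor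
    · intro hpV
      obtain ⟨i, hi⟩ := Set.mem_iUnion.1 (hVU hpV)
      exact ⟨i, fun h => (hwp i p hi).1 hpV ((p.isPrime.mem_or_mem h).resolve_left fun h' =>
        hi (p.isPrime.mem_of_pow_mem _ h'))⟩
    · rintro ⟨i, hi⟩
      refine (hwp i p fun h => hi (p.asIdeal.mul_mem_right _ (p.asIdeal.pow_mem_of_mem h _ (by omega)))).2
        fun h => hi (p.asIdeal.mul_mem_left _ h)

variable (I : Ideal R)

local notation "Â" => AdicCompletion I R
local notation "ι'" => algebraMap R (AdicCompletion I R)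

theorem map_pow_le_ker_evalₐ (n : ℕ) : (I ^ n).map ι' ≤ RingHom.ker (AdicCompletion.evalₐ I n) := by
  refine Ideal.map_le_iff_le_comap.2 fun a ha => ?_
  rw [Ideal.mem_comap, RingHom.mem_ker, AlgHom.commutes, Ideal.Quotient.algebraMap_eq,
    Ideal.Quotient.eq_zero_iff_mem]
  exact ha

theorem mem_pow_of_algebraMap_mem (n : ℕ) {a : R} (ha : ι' a ∈ (I ^ n).map ι') : a ∈ I ^ n := by
  have := map_pow_le_ker_evalₐ I n ha
  rwa [RingHom.mem_ker, AlgHom.commutes, Ideal.Quotient.algebraMap_eq,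
    Ideal.Quotient.eq_zero_iff_mem] at this

theorem exists_sub_mem_map_pow (hI : I.FG) (n : ℕ) (x : Â) : ∃ a, x - ι' a ∈ (I ^ n).map ι' := by
  obtain ⟨a, ha⟩ := Ideal.Quotient.mk_surjective (AdicCompletion.evalₐ I n x)
  refine ⟨a, ?_⟩
  have hle : I ^ n ≤ I ^ n • (⊤ : Ideal R) := by simp
  have h : AdicCompletion.eval I R n (x - ι' a) = 0 := by
    rw [← AdicCompletion.factor_evalₐ_eq_eval I _ hle]
    have h1 : AdicCompletion.evalₐ I n (x - ι' a) = 0 := by
      rw [map_sub, AlgHom.commutes, Ideal.Quotient.algebraMap_eq, ha, sub_self]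
    rw [h1, map_zero]
  have h2 : x - ι' a ∈ (I ^ n • ⊤ : Submodule R Â) := by
    rw [AdicCompletion.pow_smul_top_eq_ker_eval hI, LinearMap.mem_ker]
    exact h
  rw [Ideal.smul_top_eq_map] at h2
  exact h2

theorem map_le_jacobson_completion (hI : I.FG) : I.map ι' ≤ Ideal.jacobson ⊥ := by
  have := AdicCompletion.isAdicComplete_self I hI
  exact IsAdicComplete.le_jacobson_bot _

variable {I}

/-- A clopen of the open with empty preimage in the completion is empty. -/
theorem eq_empty_of_comap_completion {ι : Type*} [Finite ι] (hI : I.FG)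
    (hjac : I ≤ Ideal.jacobson ⊥) (g : ι → R) (hg : I ≤ (Ideal.span (Set.range g)).radical)
    (V : Set (PrimeSpectrum R)) (hV : IsOpen V)
    (hV' : IsOpen ((⋃ i, (PrimeSpectrum.basicOpen (g i) : Set (PrimeSpectrum R))) \ V))
    (hVU : V ⊆ ⋃ i, (PrimeSpectrum.basicOpen (g i) : Set (PrimeSpectrum R)))
    (h : ∀ q : PrimeSpectrum Â, PrimeSpectrum.comap ι' q ∉ V) : V = ∅ := by
  classical
  have := Fintype.ofFinite ι
  obtain ⟨N, z, hN, hz, hzV⟩ := exists_tuple_of_clopen g V hV hV' hVU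
  have hnil : ∀ i, ∃ e, ι' (z i) ^ e = 0 := fun i => nilpotent_iff_mem_prime.2 fun q hq => by
    by_contra hne
    exact h ⟨q, hq⟩ ((hzV _).2 ⟨i, hne⟩)
  choose e he using hnil
  let E := ∑ i, e i + 1
  let z' : ι → R := fun i => z i ^ E
  let g' : ι → R := fun i => (g i ^ N) ^ E
  have hz' : ∀ i j, z' i * z' j = g' j * z' i := fun i j => by
    rw [← mul_pow, hz, mul_pow]
  have hz'0 : ∀ i n, z' i ∈ I ^ n := fun i n => by
    have hle : e i ≤ E := (Finset.single_le_sum (f := e) (fun _ _ => Nat.zero_le _)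
      (Finset.mem_univ i)).trans (Nat.le_succ _)
    refine mem_pow_of_algebraMap_mem I n ?_
    rw [map_pow, ← Nat.sub_add_cancel hle, pow_add, he, mul_zero]
    exact zero_mem _
  have hg' : I ≤ (Ideal.span (Set.range g')).radical := by
    refine hg.trans (Ideal.radical_le_radical_iff.2 (Ideal.span_le.2 ?_))
    rintro _ ⟨i, rfl⟩
    exact ⟨N * E, by rw [pow_mul]; exact Ideal.subset_span ⟨i, rfl⟩⟩
  obtain ⟨k, hk⟩ := Ideal.exists_pow_le_of_le_radical_of_fg hg' hI
  let F : Ideal R := Ideal.span (Set.range z')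
  have hle : F * F ≤ I * (F * F) := by
    rw [Ideal.span_mul_span', Ideal.span_le]
    rintro _ ⟨_, ⟨i, rfl⟩, _, ⟨j, rfl⟩, rfl⟩
    have h1 : z' i ∈ I * Ideal.span (Set.range g') := by
      refine Ideal.mul_mono_right hk ?_
      rw [← pow_succ']
      exact hz'0 i (k + 1)
    have h2 : z' i * z' j ∈ I * (Ideal.span (Set.range g') * Ideal.span {z' j}) := by
      rw [← mul_assoc]
      exact Ideal.mul_mem_mul h1 (Ideal.mem_span_singleton_self _)
    refine Ideal.mul_mono_right ?_ h2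
    rw [Ideal.span_mul_span', Ideal.span_le]
    rintro _ ⟨_, ⟨m, rfl⟩, _, rfl, rfl⟩
    show g' m * z' j ∈ Ideal.span (Set.range z' * Set.range z')
    rw [← hz' j m]
    exact Ideal.subset_span ⟨_, ⟨j, rfl⟩, _, ⟨m, rfl⟩, rfl⟩
  have hfg : (F * F).FG := (Submodule.fg_span (Set.finite_range z')).mul (Submodule.fg_span (Set.finite_range z'))
  have hbot : F * F = ⊥ := Submodule.eq_bot_of_le_smul_of_le_jacobson_bot I _ hfg hle hjac
  refine Set.eq_empty_iff_forall_notMem.2 fun p hp => ?_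
  obtain ⟨i, hi⟩ := (hzV p).1 hp
  have h1 : z' i * z' i ∈ F * F := Ideal.mul_mem_mul (Ideal.subset_span ⟨i, rfl⟩) (Ideal.subset_span ⟨i, rfl⟩)
  rw [hbot, Ideal.mem_bot, ← pow_two, ← pow_mul] at h1
  exact hi (p.isPrime.mem_of_pow_mem _ (h1 ▸ p.asIdeal.zero_mem))

theorem not_all_mem_of_mem_graph {n : ℕ} {c : Fin (n + 1) → R} {x : PPt n R}
    (h : ∀ k, (X k : MvPolynomial (Fin (n + 1)) R) ∈ x.asHomogeneousIdeal.toIdeal) : False :=
  (exists_X_notMem x).elim fun k hk => hk (h k)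

/-- Every clopen of the preimage in the completion comes from the open. -/
theorem exists_clopen_comap_completion {ι : Type u} [Finite ι] (hPF : CohFin.ProjFinite.{u}) (hI : I.FG)
    [HenselianRing R I] (g : ι → R) (hg : I ≤ (Ideal.span (Set.range g)).radical)
    (V : Set (PrimeSpectrum Â)) (hV : IsOpen V)
    (hV' : IsOpen ((⋃ i, (PrimeSpectrum.basicOpen (ι' (g i)) : Set (PrimeSpectrum Â))) \ V))
    (hVU : V ⊆ ⋃ i, (PrimeSpectrum.basicOpen (ι' (g i)) : Set (PrimeSpectrum Â))) :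
    ∃ W : Set ↥(⋃ i, (PrimeSpectrum.basicOpen (g i) : Set (PrimeSpectrum R))), IsClopen W ∧
      ∀ (q : PrimeSpectrum Â) (hq : PrimeSpectrum.comap ι' q ∈
        ⋃ i, (PrimeSpectrum.basicOpen (g i) : Set (PrimeSpectrum R))), ⟨_, hq⟩ ∈ W ↔ q ∈ V := by
  classical
  have := Fintype.ofFinite ι
  obtain ⟨N, z, hN, hz, hzV⟩ := exists_tuple_of_clopen (fun i => ι' (g i)) V hV hV' hVU
  let g' : ι → R := fun i => g i ^ N
  have hz' : ∀ i j, z i * (ι' (g' j) - z j) = 0 := fun i j => by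
    rw [mul_sub, hz, map_pow]; ring
  have hg' : I ≤ (Ideal.span (Set.range g')).radical := by
    refine hg.trans (Ideal.radical_le_radical_iff.2 (Ideal.span_le.2 ?_))
    rintro _ ⟨i, rfl⟩
    exact ⟨N, Ideal.subset_span ⟨i, rfl⟩⟩
  obtain ⟨k, hk⟩ := Ideal.exists_pow_le_of_le_radical_of_fg hg' hI
  choose a ha using fun i => exists_sub_mem_map_pow I hI (k + k + 1) (z i)
  let b : ι → R := fun i => g' i - a i
  -- the tuple
  obtain ⟨n, ⟨σ⟩⟩ : ∃ n, Nonempty (Fin (n + 1) ≃ Option (ι ⊕ ι)) :=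
    ⟨Fintype.card (ι ⊕ ι), ⟨(Fintype.equivFinOfCardEq (Fintype.card_option)).symm⟩⟩
  let c : Fin (n + 1) → R := fun j => (σ j).elim 0 (Sum.elim a b)
  let ka : ι → Fin (n + 1) := fun i => σ.symm (some (Sum.inl i))
  let kb : ι → Fin (n + 1) := fun i => σ.symm (some (Sum.inr i))
  let k0 : Fin (n + 1) := σ.symm none
  have hca : ∀ i, c (ka i) = a i := fun i => by simp [c, ka]
  have hcb : ∀ i, c (kb i) = g' i - a i := fun i => by simp [c, kb, b]
  have hc0 : c k0 = 0 := by simp [c, k0]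
  have hspan : Ideal.span (Set.range g') ≤ Ideal.span (Set.range c) := Ideal.span_le.2 (by
    rintro _ ⟨i, rfl⟩
    rw [show g' i = c (ka i) + c (kb i) by rw [hca, hcb]; ring]
    exact add_mem (Ideal.subset_span ⟨_, rfl⟩) (Ideal.subset_span ⟨_, rfl⟩))
  have hpow : I ^ (k + k + 1) ≤ I * Ideal.span (Set.range c) ^ 2 := by
    rw [pow_succ', pow_two, pow_add]
    exact Ideal.mul_mono_right (Ideal.mul_mono (hk.trans hspan) (hk.trans hspan))
  have hpow1 : I ^ (k + k + 1) ≤ I * Ideal.span (Set.range c) := by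
    refine hpow.trans (Ideal.mul_mono_right ?_)
    rw [pow_two]
    exact Ideal.mul_le_left
  have hab : ∀ i j, a i * (g' j - a j) ∈ I ^ (k + k + 1) := fun i j => by
    refine mem_pow_of_algebraMap_mem I _ ?_
    have : ι' (a i * (g' j - a j)) =
        (z j - ι' (a j)) * ι' (a i) - (z i - ι' (a i)) * (ι' (g' j) - z j) := by
      rw [map_mul, map_sub]
      linear_combination hz' i j
    rw [this]
    exact sub_mem (Ideal.mul_mem_right _ _ (ha j)) (Ideal.mul_mem_right _ _ (ha i))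
  have hU : ∀ p : PrimeSpectrum R, p ∈ (⋃ i, (PrimeSpectrum.basicOpen (g i) : Set (PrimeSpectrum R))) →
      ∃ j, c j ∉ p.asIdeal := fun p hp => by
    obtain ⟨i, hi⟩ := Set.mem_iUnion.1 hp
    by_contra h
    push Not at h
    have h1 : g' i ∈ p.asIdeal := by
      rw [show g' i = c (ka i) + c (kb i) by rw [hca, hcb]; ring]
      exact add_mem (h _) (h _)
    exact hi (p.isPrime.mem_of_pow_mem _ h1)
  have hall : ∀ {S : Type u} [CommRing S] (f : R →+* S) {x : PPt n S}, x ∈ graph (f ∘ c) →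
      (∀ i, (X (ka i) : MvPolynomial (Fin (n + 1)) S) ∈ x.asHomogeneousIdeal.toIdeal) →
      (∀ i, (X (kb i) : MvPolynomial (Fin (n + 1)) S) ∈ x.asHomogeneousIdeal.toIdeal) → False := by
    intro S _ f x hx h1 h2
    refine (exists_X_notMem x).elim fun j hj => hj ?_
    rcases hσ : σ j with _ | i | i
    · refine mem_of_mem_graph hx (isHomogeneous_X S j) ?_
      rw [eval_X, show j = k0 from σ.eq_symm_apply.2 hσ, Function.comp_apply, hc0, map_zero]
    · exact (σ.eq_symm_apply.2 hσ : j = ka i) ▸ h1 i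
    · exact (σ.eq_symm_apply.2 hσ : j = kb i) ▸ h2 i
  -- the closed subscheme of projective space and its splitting over `V(I)`
  let PR : Scheme.{u} := CohB1.ProjSpace n R
  let pr : PR ⟶ Spec (CommRingCat.of R) := CohB1.ProjSpace.toSpec n R
  have : IsProper pr := Groth.Variety2.isProper_projSpace_toSpec n R
  let T : Closeds PR := ⟨graph c, isClosed_graph c⟩
  let 𝓘 := Scheme.IdealSheafData.vanishingIdeal T
  let e : 𝓘.subscheme → PPt n R := 𝓘.subschemeι
  have hec : Continuous e := 𝓘.subschemeι.continuous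
  have her : Set.range e = graph c := by
    show Set.range 𝓘.subschemeι = _
    rw [Scheme.IdealSheafData.range_subschemeι]; simp [𝓘, T]
  have hecl : IsClosedMap e := 𝓘.subschemeι.isClosedEmbedding.isClosedMap
  have hei : Function.Injective e := 𝓘.subschemeι.isClosedEmbedding.injective
  let Ta : Set (PPt n R) := ProjectiveSpectrum.zeroLocus (CohB1.polyGrading n R)
    (Set.range fun i => (X (ka i) : MvPolynomial (Fin (n + 1)) R))
  let Tb : Set (PPt n R) := ProjectiveSpectrum.zeroLocus (CohB1.polyGrading n R)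
    (Set.range fun i => (X (kb i) : MvPolynomial (Fin (n + 1)) R))
  have hTa : ∀ x : PPt n R, x ∈ Ta ↔ ∀ i, (X (ka i) : MvPolynomial (Fin (n + 1)) R) ∈ x.asHomogeneousIdeal.toIdeal :=
    fun x => ⟨fun h i => h ⟨i, rfl⟩, fun h => Set.range_subset_iff.2 h⟩
  have hTb : ∀ x : PPt n R, x ∈ Tb ↔ ∀ i, (X (kb i) : MvPolynomial (Fin (n + 1)) R) ∈ x.asHomogeneousIdeal.toIdeal :=
    fun x => ⟨fun h i => h ⟨i, rfl⟩, fun h => Set.range_subset_iff.2 h⟩
  let P : Set 𝓘.subscheme := overV (𝓘.subschemeι ≫ pr) I ∩ e ⁻¹' Tb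
  let Q : Set 𝓘.subscheme := overV (𝓘.subschemeι ≫ pr) I ∩ e ⁻¹' Ta
  have hover : ∀ y, y ∈ overV (𝓘.subschemeι ≫ pr) I ↔ (I : Set R) ⊆ (basePt (e y)).asIdeal := fun y => Iff.rfl
  obtain ⟨W, hW, hWP⟩ := exists_clopen_of_proper hPF I (𝓘.subschemeι ≫ pr) P Q
    ((isClosed_overV _ _).inter ((ProjectiveSpectrum.isClosed_zeroLocus _ _).preimage hec))
    ((isClosed_overV _ _).inter ((ProjectiveSpectrum.isClosed_zeroLocus _ _).preimage hec))
    (Set.eq_empty_iff_forall_notMem.2 fun y ⟨⟨_, h2⟩, _, h1⟩ =>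
      hall (RingHom.id R) (x := e y) (by simpa using her.le ⟨y, rfl⟩) ((hTa _).1 h1) ((hTb _).1 h2))
    (Set.Subset.antisymm (fun y hy => hy.elim (·.1) (·.1)) fun y hy => by
      by_cases hyA : ∀ i, (X (ka i) : MvPolynomial (Fin (n + 1)) R) ∈ (e y).asHomogeneousIdeal.toIdeal
      · exact Or.inr ⟨hy, (hTa _).2 hyA⟩
      · refine Or.inl ⟨hy, (hTb _).2 fun j => ?_⟩
        push Not at hyA
        obtain ⟨i, hi⟩ := hyA
        obtain ⟨H, hH, hHI, hHe⟩ := exists_form_of_mem c I 2 (hpow (hab i j))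
        have h1 : X (ka i) * X (kb j) - H ∈ (e y).asHomogeneousIdeal.toIdeal :=
          mem_of_mem_graph (her.le ⟨y, rfl⟩) (((isHomogeneous_X R _).mul (isHomogeneous_X R _)).sub hH)
            (by rw [map_sub, map_mul, eval_X, eval_X, hHe, hca, hcb, sub_self])
        have h2 : H ∈ (e y).asHomogeneousIdeal.toIdeal := map_C_le_of_le_basePt ((hover y).1 hy) hHI
        have h3 := add_mem h1 h2
        rw [sub_add_cancel] at h3
        exact ((e y).isPrime.mem_or_mem h3).resolve_left hi)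
  let W₁ : Set (PPt n R) := e '' W
  let W₂ : Set (PPt n R) := e '' Wᶜ
  have hW₁₂ : ∀ x ∈ graph c, (x ∈ W₁ ↔ x ∉ W₂) := fun x hx => by
    obtain ⟨y, rfl⟩ := her.ge hx
    simp only [W₁, W₂, hei.mem_set_image, Set.mem_compl_iff, not_not]
  -- its trace on the open
  let γ : ↥(⋃ i, (PrimeSpectrum.basicOpen (g i) : Set (PrimeSpectrum R))) → PPt n R :=
    fun p => graphPt c p.1 (hU p.1 p.2)
  have hγ : Continuous γ := continuous_graphPt c hU
  have hγc : γ ⁻¹' W₁ = (γ ⁻¹' W₂)ᶜ := by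
    ext p
    exact hW₁₂ _ (graphPt_mem_graph _ _ _)
  refine ⟨γ ⁻¹' W₁, ⟨(hecl _ hW.1).preimage hγ,
    hγc ▸ ((hecl _ hW.compl.1).preimage hγ).isOpen_compl⟩, fun q hq => ?_⟩
  -- over the completion
  let ĉ : Fin (n + 1) → Â := ι' ∘ c
  have hH : ∀ i, ∃ H : MvPolynomial (Fin (n + 1)) Â, H.IsHomogeneous 1 ∧
      H ∈ (I.map ι').map C ∧ eval ĉ H = z i - ι' (a i) := fun i => by
    refine exists_form_of_mem ĉ (I.map ι') 1 ?_
    rw [pow_one, show Ideal.span (Set.range ĉ) = (Ideal.span (Set.range c)).map ι' by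
      rw [Ideal.map_span, ← Set.range_comp], ← Ideal.map_mul]
    exact Ideal.map_mono hpow1 (ha i)
  choose H hH1 hHI hHe using hH
  let La : ι → MvPolynomial (Fin (n + 1)) Â := fun i => X (ka i) + H i
  let Lb : ι → MvPolynomial (Fin (n + 1)) Â := fun i => X (kb i) - H i
  have hLa : ∀ i, (La i).IsHomogeneous 1 := fun i => (isHomogeneous_X _ _).add (hH1 i)
  have hLb : ∀ i, (Lb i).IsHomogeneous 1 := fun i => (isHomogeneous_X _ _).sub (hH1 i)
  have hea : ∀ i, eval ĉ (La i) = z i := fun i => by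
    simp only [La, map_add, eval_X, hHe, ĉ, Function.comp_apply, hca]; ring
  have heb : ∀ i, eval ĉ (Lb i) = ι' (g' i) - z i := fun i => by
    simp only [Lb, map_sub, eval_X, hHe, ĉ, Function.comp_apply, hcb]; ring
  let Y₁ : Set (PPt n Â) := graph ĉ ∩ ProjectiveSpectrum.zeroLocus _ (Set.range Lb)
  let Y₂ : Set (PPt n Â) := graph ĉ ∩ ProjectiveSpectrum.zeroLocus _ (Set.range La)
  have hY₁c : IsClosed Y₁ := (isClosed_graph _).inter (ProjectiveSpectrum.isClosed_zeroLocus _ _)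
  have hY₂c : IsClosed Y₂ := (isClosed_graph _).inter (ProjectiveSpectrum.isClosed_zeroLocus _ _)
  have hcov : ∀ x ∈ graph ĉ, x ∈ Y₁ ∨ x ∈ Y₂ := fun x hx => by
    by_cases hxA : ∀ i, La i ∈ x.asHomogeneousIdeal.toIdeal
    · exact Or.inr ⟨hx, Set.range_subset_iff.2 hxA⟩
    · refine Or.inl ⟨hx, Set.range_subset_iff.2 fun j => ?_⟩
      push Not at hxA
      obtain ⟨i, hi⟩ := hxA
      exact (x.isPrime.mem_or_mem (mem_of_mem_graph hx ((hLa i).mul (hLb j))
        (by rw [map_mul, hea, heb, hz']))).resolve_left hi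
  -- comparisons over `V(I)`
  let PA : Scheme.{u} := CohB1.ProjSpace n Â
  let pA : PA ⟶ Spec (CommRingCat.of Â) := CohB1.ProjSpace.toSpec n Â
  have : IsProper pA := Groth.Variety2.isProper_projSpace_toSpec n Â
  have hvan : ∀ (T : Set (PPt n Â)), IsClosed T →
      (∀ x ∈ T, (I.map ι' : Set Â) ⊆ (basePt x).asIdeal → False) → ∀ x, x ∉ T := fun T hT h x hx =>
    Set.eq_empty_iff_forall_notMem.1 (eq_empty_of_inter_overV pA (map_le_jacobson_completion I hI)
      (T := T) hT (Set.eq_empty_iff_forall_notMem.2 fun y ⟨hy, hyI⟩ => h y hy hyI)) x hx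
  have hXa : ∀ x ∈ Y₂, (I.map ι' : Set Â) ⊆ (basePt x).asIdeal →
      ∀ i, (X (ka i) : MvPolynomial (Fin (n + 1)) Â) ∈ x.asHomogeneousIdeal.toIdeal := fun x hx hxI i => by
    have := sub_mem (show La i ∈ x.asHomogeneousIdeal.toIdeal from hx.2 ⟨i, rfl⟩) (map_C_le_of_le_basePt hxI (hHI i))
    simpa [La] using this
  have hXb : ∀ x ∈ Y₁, (I.map ι' : Set Â) ⊆ (basePt x).asIdeal →
      ∀ i, (X (kb i) : MvPolynomial (Fin (n + 1)) Â) ∈ x.asHomogeneousIdeal.toIdeal := fun x hx hxI i => by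
    have := add_mem (show Lb i ∈ x.asHomogeneousIdeal.toIdeal from hx.2 ⟨i, rfl⟩) (map_C_le_of_le_basePt hxI (hHI i))
    simpa [Lb] using this
  have hproj : ∀ x ∈ graph ĉ, (I.map ι' : Set Â) ⊆ (basePt x).asIdeal → ∀ y, e y = projComap ι' x →
      y ∈ overV (𝓘.subschemeι ≫ pr) I := fun x _ hxI y hy => by
    rw [hover, hy, basePt_projComap]
    exact fun r hr => hxI (Ideal.mem_map_of_mem _ hr)
  have h12 : ∀ x, x ∉ Y₁ ∩ (projComap ι' ⁻¹' W₂) :=
    hvan _ (hY₁c.inter ((hecl _ hW.compl.1).preimage (continuous_projComap _))) fun x ⟨hx, y, hy, hyx⟩ hxI => by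
      have hyI := hproj x hx.1 hxI y hyx
      have hyQ : y ∈ Q := by
        have : y ∈ P ∪ Q := by
          by_cases h : ∀ i, (X (kb i) : MvPolynomial (Fin (n + 1)) R) ∈ (e y).asHomogeneousIdeal.toIdeal
          · exact Or.inl ⟨hyI, (hTb _).2 h⟩
          · exact absurd (fun i => hyx ▸ (mem_projComap_iff ι' x (X (kb i))).2 (by simpa using hXb x hx hxI i)) h
        exact this.resolve_left fun h => hy (hWP.ge h).1
      exact hall ι' hx.1 (fun i => by
        have := (hTa _).1 hyQ.2 i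
        rw [hyx, mem_projComap_iff, map_X] at this
        exact this) (hXb x hx hxI)
  have h21 : ∀ x, x ∉ Y₂ ∩ (projComap ι' ⁻¹' W₁) :=
    hvan _ (hY₂c.inter ((hecl _ hW.1).preimage (continuous_projComap _))) fun x ⟨hx, y, hy, hyx⟩ hxI => by
      have hyP : y ∈ P := hWP.le ⟨hy, hproj x hx.1 hxI y hyx⟩
      exact hall ι' hx.1 (hXa x hx hxI) fun i => by
        have := (hTb _).1 hyP.2 i
        rw [hyx, mem_projComap_iff, map_X] at this
        exact this
  have hq' : ∃ j, (ι' ∘ c) j ∉ q.asIdeal := hU _ hq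
  let x := graphPt ĉ q hq'
  have hx : x ∈ graph ĉ := graphPt_mem_graph _ _ _
  have hγx : γ ⟨_, hq⟩ = projComap ι' x := (projComap_graphPt ι' c q hq' (hU _ hq)).symm
  show γ ⟨_, hq⟩ ∈ W₁ ↔ q ∈ V
  rw [hγx]
  have hY : projComap ι' x ∈ W₁ ↔ ∀ i, ι' (g' i) - z i ∈ q.asIdeal := by
    constructor
    · intro h i
      have hxY : x ∈ Y₁ := (hcov x hx).resolve_right fun h' => h21 x ⟨h', h⟩
      rw [← heb i, ← mem_graphPt_iff ĉ q hq' (hLb i)]
      exact hxY.2 ⟨i, rfl⟩
    · intro h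
      have hxY : x ∈ Y₁ := ⟨hx, Set.range_subset_iff.2 fun i => (mem_graphPt_iff ĉ q hq' (hLb i)).2 (by
        rw [heb]; exact h i)⟩
      exact (hW₁₂ _ (projComap_mem_graph ι' c hx)).2 fun h' => h12 x ⟨hxY, h'⟩
  rw [hY, hzV]
  constructor
  · intro h
    obtain ⟨j, hj⟩ := Set.mem_iUnion.1 hq
    refine ⟨j, fun hh => hj ?_⟩
    have := add_mem (h j) hh
    rw [sub_add_cancel] at this
    exact (show g j ∈ (PrimeSpectrum.comap ι' q).asIdeal from
      (PrimeSpectrum.comap ι' q).isPrime.mem_of_pow_mem N this)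
  · rintro ⟨i, hi⟩ j
    exact (q.isPrime.mem_or_mem (hz' i j ▸ q.asIdeal.zero_mem : z i * (ι' (g' j) - z j) ∈ q.asIdeal)).resolve_left hi

end Groth.HensPair
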