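import Groth.Agent.HensPair.Colimit
import Groth.Agent.Hensel1.Pairs
import Mathlib.LinearAlgebra.Matrix.Charpoly.LinearMap
import Mathlib.Algebra.Polynomial.Lifts
import Mathlib.RingTheory.Nakayama

/-! Lifting idempotents of finite algebras after an etale neighbourhood. -/

set_option autoImplicit false
universe u

namespace Groth.HensPair

open Polynomial TensorProduct

variable {A : Type u} [CommRing A] {I : Ideal A}

theorem exists_range_of_finset (s : Finset (Hz I)) : ∃ i : Idx I, ∀ x ∈ s, x ∈ (of I i).range := by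
  obtain ⟨i, y, hy⟩ := exists_of_fintype (I := I) fun x : s => (x : Hz I)
  exact ⟨i, fun x hx => ⟨y ⟨x, hx⟩, hy ⟨x, hx⟩⟩⟩

theorem exists_forall_map_eq_zero {i : Idx I} (s : Finset i.Obj) (hs : ∀ x ∈ s, of I i x = 0) :
    ∃ (j : Idx I) (f : i.Obj →ₐ[A] j.Obj), ∀ x ∈ s, f x = 0 := by
  classical
  induction s using Finset.induction_on with
  | empty => exact ⟨i, AlgHom.id A _, by simp⟩
  | @insert a s _ ih =>
    obtain ⟨j, f, hf⟩ := ih fun x hx => hs x (Finset.mem_insert_of_mem hx)
    obtain ⟨k, g, hg⟩ := of_eq_of (I := I) (x := f a) (y := 0) (by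
      rw [map_zero, ← AlgHom.comp_apply, of_comp]; exact hs a (Finset.mem_insert_self a s))
    refine ⟨k, g.comp f, fun x hx => ?_⟩
    rcases Finset.mem_insert.1 hx with rfl | hx
    · rw [AlgHom.comp_apply, hg, map_zero]
    · rw [AlgHom.comp_apply, hf x hx, map_zero]

/-- A monic polynomial congruent to `(X² - X) ^ m` factors after an etale neighbourhood. -/
theorem exists_isNbhd_factor (p : A[X]) (hp : p.Monic) (m : ℕ)
    (hpm : p.map (Ideal.Quotient.mk I) = ((X : (A ⧸ I)[X]) ^ 2 - X) ^ m) :
    ∃ (A' : Type u) (_ : CommRing A') (_ : Algebra A A') (_ : IsNbhd I A') (g h a c : A'[X]),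
      p.map (algebraMap A A') = g * h ∧ a * g + c * h = 1 ∧
      g.map (Ideal.Quotient.mk (I.map (algebraMap A A'))) = X ^ m ∧
      h.map (Ideal.Quotient.mk (I.map (algebraMap A A'))) = (X - 1) ^ m := by
  classical
  have hH := henselianRing I
  set q := Ideal.Quotient.mk (I.map (algebraMap A (Hz I)))
  have hm1 : (X - 1 : (Hz I ⧸ I.map (algebraMap A (Hz I)))[X]).Monic := by
    simpa using monic_X_sub_C (1 : Hz I ⧸ I.map (algebraMap A (Hz I)))
  obtain ⟨g, h, -, -, hgh, hg, hh, a, c, hac⟩ := Groth.Hensel1.exists_monic_factor_lift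
    (I := I.map (algebraMap A (Hz I))) (hp.map (algebraMap A (Hz I)))
    (monic_X_pow m) (hm1.pow m) (IsCoprime.pow ⟨1, -1, by ring⟩) (by
      have h1 := congrArg (Polynomial.map (Ideal.quotientMap (I.map (algebraMap A (Hz I)))
        (algebraMap A (Hz I)) Ideal.le_comap_map)) hpm
      rw [Polynomial.map_map, Ideal.quotientMap_comp_mk, ← Polynomial.map_map] at h1
      rw [h1, ← mul_pow]
      simp only [Polynomial.map_pow, Polynomial.map_sub, map_X]
      congr 1
      ring)
  obtain ⟨i, hi⟩ := exists_range_of_finset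
    (g.coeffs ∪ h.coeffs ∪ a.coeffs ∪ c.coeffs)
  have hl : ∀ P : (Hz I)[X], P.coeffs ⊆ g.coeffs ∪ h.coeffs ∪ a.coeffs ∪ c.coeffs →
      ∃ P' : i.Obj[X], P'.map (of I i).toRingHom = P := fun P hP =>
    (mem_lifts P).1 ((lifts_iff_coeff_lifts P).2 fun n => by
      by_cases h0 : P.coeff n = 0
      · exact ⟨0, by rw [map_zero, h0]⟩
      · exact hi _ (hP (Polynomial.mem_coeffs_iff.2 ⟨n, mem_support_iff.2 h0, rfl⟩)))
  obtain ⟨g', rfl⟩ := hl g (fun x hx => by simp [hx])
  obtain ⟨h', rfl⟩ := hl h (fun x hx => by simp [hx])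
  obtain ⟨a', rfl⟩ := hl a (fun x hx => by simp [hx])
  obtain ⟨c', rfl⟩ := hl c (fun x hx => by simp [hx])
  let d₁ := p.map (algebraMap A i.Obj) - g' * h'
  let d₂ := a' * g' + c' * h' - 1
  have hd₁ : d₁.map (of I i).toRingHom = 0 := by
    rw [Polynomial.map_sub, Polynomial.map_mul, Polynomial.map_map,
      show (of I i).toRingHom.comp (algebraMap A i.Obj) = algebraMap A (Hz I) from (of I i).comp_algebraMap,
      hgh, sub_self]
  have hd₂ : d₂.map (of I i).toRingHom = 0 := by
    rw [Polynomial.map_sub, Polynomial.map_add, Polynomial.map_mul, Polynomial.map_mul, Polynomial.map_one,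
      hac, sub_self]
  obtain ⟨j, f, hf⟩ := exists_forall_map_eq_zero (d₁.coeffs ∪ d₂.coeffs) fun x hx => by
    rcases Finset.mem_union.1 hx with hx | hx
    · obtain ⟨n, -, rfl⟩ := Polynomial.mem_coeffs_iff.1 hx
      simpa using congrArg (fun P => P.coeff n) hd₁
    · obtain ⟨n, -, rfl⟩ := Polynomial.mem_coeffs_iff.1 hx
      simpa using congrArg (fun P => P.coeff n) hd₂
  have hz : ∀ d : i.Obj[X], d.coeffs ⊆ d₁.coeffs ∪ d₂.coeffs → d.map f.toRingHom = 0 := fun d hd => by
    ext n
    rw [coeff_map, coeff_zero]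
    by_cases h0 : d.coeff n = 0
    · rw [h0, map_zero]
    · exact hf _ (hd (Polynomial.mem_coeffs_iff.2 ⟨n, mem_support_iff.2 h0, rfl⟩))
  have e₁ := hz d₁ Finset.subset_union_left
  have e₂ := hz d₂ Finset.subset_union_right
  rw [Polynomial.map_sub, Polynomial.map_mul, Polynomial.map_map,
    show f.toRingHom.comp (algebraMap A i.Obj) = algebraMap A j.Obj from f.comp_algebraMap, sub_eq_zero] at e₁
  rw [Polynomial.map_sub, Polynomial.map_add, Polynomial.map_mul, Polynomial.map_mul, Polynomial.map_one,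
    sub_eq_zero] at e₂
  let qj := Ideal.quotientMap (I := I.map (algebraMap A j.Obj)) (I.map (algebraMap A (Hz I))) (of I j).toRingHom
    (Ideal.map_le_iff_le_comap.1 (by
      rw [Ideal.map_map, show (of I j).toRingHom.comp (algebraMap A j.Obj) = algebraMap A (Hz I) from (of I j).comp_algebraMap]))
  have hqj : Function.Injective qj := by
    refine (injective_iff_map_eq_zero qj).2 fun y hy => ?_
    obtain ⟨y, rfl⟩ := j.isNbhd.bijective.2 y
    obtain ⟨y, rfl⟩ := Ideal.Quotient.mk_surjective y
    rw [Ideal.quotientMap_mk] at hy ⊢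
    rw [Ideal.quotientMap_mk] at hy
    change Ideal.Quotient.mk _ (of I j (algebraMap A j.Obj y)) = 0 at hy
    rw [AlgHom.commutes] at hy
    have := (quotientMap_bijective I).1 (a₁ := Ideal.Quotient.mk I y) (a₂ := 0)
      (by rw [Ideal.quotientMap_mk, map_zero]; exact hy)
    rw [Ideal.Quotient.eq_zero_iff_mem] at this ⊢
    exact Ideal.mem_map_of_mem _ this
  have hred : ∀ (P : i.Obj[X]), Polynomial.map qj ((P.map f.toRingHom).map (Ideal.Quotient.mk _)) =
      (P.map (of I i).toRingHom).map q := fun P => by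
    rw [Polynomial.map_map, Polynomial.map_map, Polynomial.map_map]
    congr 1
    refine RingHom.ext fun x => ?_
    show qj (Ideal.Quotient.mk _ (f x)) = q (of I i x)
    rw [Ideal.quotientMap_mk]
    exact congrArg q (DFunLike.congr_fun (of_comp f) x)
  refine ⟨j.Obj, inferInstance, inferInstance, j.isNbhd, g'.map f.toRingHom, h'.map f.toRingHom,
    a'.map f.toRingHom, c'.map f.toRingHom, e₁, e₂, map_injective qj hqj ?_, map_injective qj hqj ?_⟩
  · rw [hred, hg, Polynomial.map_pow, map_X]
  · rw [hred, hh, Polynomial.map_pow, Polynomial.map_sub, map_X, Polynomial.map_one]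

/-- Idempotents of a finite algebra modulo `I` lift after an etale neighbourhood. -/
theorem exists_isNbhd_idempotent {F : Type u} [CommRing F] [Algebra A F] [Module.Finite A F]
    (b : F) (hb : b * b - b ∈ I.map (algebraMap A F)) :
    ∃ (A' : Type u) (_ : CommRing A') (_ : Algebra A A') (_ : IsNbhd I A') (e : A' ⊗[A] F),
      IsIdempotentElem e ∧ e - 1 ⊗ₜ b ∈ I.map (algebraMap A (A' ⊗[A] F)) := by
  obtain ⟨P, hP, -, hPI, hP0⟩ := LinearMap.exists_monic_and_natDegree_eq_and_coeff_mem_pow_and_aeval_eq_zero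
    A (LinearMap.mulLeft A (b * b - b)) I (by
      rintro _ ⟨x, rfl⟩
      rw [Ideal.smul_top_eq_map]
      exact Ideal.mul_mem_right x _ hb)
  let m := P.natDegree
  have hPb : aeval (b * b - b) P = 0 := by
    have h1 : Algebra.lmul A F (aeval (b * b - b) P) = 0 := by
      rw [← aeval_algHom_apply]; exact hP0
    simpa using LinearMap.congr_fun h1 1
  have hPmap : P.map (Ideal.Quotient.mk I) = X ^ m := by
    ext k
    rw [coeff_map, coeff_X_pow]
    split_ifs with hk
    · subst hk; rw [show P.coeff m = 1 from hP.coeff_natDegree, map_one]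
    · rw [Ideal.Quotient.eq_zero_iff_mem]
      rcases lt_or_gt_of_ne hk with h | h
      · exact Ideal.pow_le_self (by omega) (hPI k)
      · rw [coeff_eq_zero_of_natDegree_lt h]; exact zero_mem _
  cases subsingleton_or_nontrivial A
  · have : Subsingleton F := Module.subsingleton A F
    exact ⟨A, inferInstance, inferInstance, isNbhd_self, 1, IsIdempotentElem.one, by
      rw [Subsingleton.elim b 1, ← Algebra.TensorProduct.one_def, sub_self]; exact zero_mem _⟩
  have hq2 : (X ^ 2 - X : A[X]).Monic := monic_X_pow_sub (by rw [degree_X]; norm_num)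
  have hp : (P.comp (X ^ 2 - X)).Monic := hP.comp hq2 (by
    rw [natDegree_sub_eq_left_of_natDegree_lt (by simp)]; simp)
  obtain ⟨A', _, _, hA', g, h, a, c, hgh, hac, hg, hh⟩ := exists_isNbhd_factor (P.comp (X ^ 2 - X)) hp m (by
    rw [Polynomial.map_comp, hPmap]; simp)
  let F' := A' ⊗[A] F
  let β : F' := 1 ⊗ₜ b
  have hzero : aeval β g * aeval β h = 0 := by
    rw [← map_mul, ← hgh, aeval_map_algebraMap, aeval_comp]
    simp only [map_sub, map_pow, aeval_X]
    have : β ^ 2 - β = Algebra.TensorProduct.includeRight (R := A) (A := A') (b * b - b) := by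
      rw [map_sub, map_mul, pow_two]; rfl
    rw [this, aeval_algHom_apply, hPb, map_zero]
  have hone : aeval β a * aeval β g + aeval β c * aeval β h = 1 := by
    rw [← map_mul, ← map_mul, ← map_add, hac, map_one]
  set mk := Ideal.Quotient.mk (I.map (algebraMap A F'))
  have hβ : mk β * mk β = mk β := by
    rw [← map_mul, Ideal.Quotient.eq]
    have : β * β - β = Algebra.TensorProduct.includeRight (R := A) (A := A') (b * b - b) := by
      rw [map_sub, map_mul]; rfl
    rw [this]
    exact algHom_map_le _ hb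
  let φ : A' ⧸ I.map (algebraMap A A') →+* F' ⧸ I.map (algebraMap A F') :=
    Ideal.quotientMap _ (algebraMap A' F') (Ideal.map_le_iff_le_comap.1 (by
      rw [Ideal.map_map, ← IsScalarTower.algebraMap_eq]))
  have hev : ∀ Q : A'[X], mk (aeval β Q) = (Q.map (Ideal.Quotient.mk _)).eval₂ φ (mk β) := fun Q => by
    rw [eval₂_map, aeval_def, hom_eval₂]
    rfl
  have hG : mk (aeval β g) = mk β ^ m := by rw [hev, hg, eval₂_X_pow]
  have hH : mk (aeval β h) = (mk β - 1) ^ m := by rw [hev, hh, eval₂_pow, eval₂_sub, eval₂_X, eval₂_one]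
  refine ⟨A', inferInstance, inferInstance, hA', aeval β a * aeval β g, ?_, Ideal.Quotient.eq.1 ?_⟩
  · show _ * _ = _
    linear_combination (aeval β a * aeval β g) * hone - (aeval β a * aeval β c) * hzero
  · rcases Nat.eq_zero_or_pos m with hm | hm
    · have h1 : P = 1 := (Polynomial.Monic.natDegree_eq_zero hP).1 hm
      rw [h1, map_one] at hPb
      have : Subsingleton F := subsingleton_of_zero_eq_one hPb.symm
      have : Subsingleton F' := (Algebra.TensorProduct.includeRight (R := A) (A := A') (B := F)).toRingHom.codomain_trivial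
      exact Subsingleton.elim _ _
    have hE := congrArg mk hone
    rw [map_add, map_mul mk (aeval β c), map_one, hH] at hE
    have h1 : mk β * (mk β - 1) ^ m = 0 := by
      obtain ⟨k, hk⟩ := Nat.exists_eq_succ_of_ne_zero hm.ne'
      rw [hk, pow_succ']
      linear_combination (mk β - 1) ^ k * hβ
    have hid : IsIdempotentElem (mk β) := hβ
    rw [map_mul, hG, ← Nat.succ_pred_eq_of_pos hm, hid.pow_succ_eq]
    rw [map_mul, hG, ← Nat.succ_pred_eq_of_pos hm, hid.pow_succ_eq] at hE
    rw [← Nat.succ_pred_eq_of_pos hm] at h1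
    linear_combination -(mk (aeval β a)) * hβ + mk β * hE - mk (aeval β c) * h1

/-- The determinant trick for an ideal comaximal with `I F`. -/
theorem exists_sub_one_mem_algebraMap_mem {F : Type u} [CommRing F] [Algebra A F] [Module.Finite A F]
    (Q : Ideal F) {z : F} (hz : z ∈ I.map (algebraMap A F)) (h : 1 - z ∈ Q) :
    ∃ s : A, s - 1 ∈ I ∧ algebraMap A F s ∈ Q := by
  have h1 : (⊤ : Submodule A (F ⧸ Q)) ≤ I • ⊤ := by
    intro x _
    rw [Ideal.smul_top_eq_map]
    show x ∈ I.map (algebraMap A (F ⧸ Q))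
    have h2 : (1 : F ⧸ Q) = Ideal.Quotient.mk Q z := by
      rw [← map_one (Ideal.Quotient.mk Q), Ideal.Quotient.eq]; exact h
    rw [← mul_one x, h2]
    exact Ideal.mul_mem_left _ _ (algHom_map_le (Ideal.Quotient.mkₐ A Q) hz)
  obtain ⟨s, hs, h0⟩ :=
    Submodule.exists_sub_one_mem_and_smul_eq_zero_of_fg_of_le_smul I ⊤ Module.Finite.fg_top h1
  refine ⟨s, hs, Ideal.Quotient.eq_zero_iff_mem.1 ?_⟩
  have := h0 1 Submodule.mem_top
  rw [Algebra.smul_def, mul_one] at this
  exact this

end Groth.HensPair
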