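import Groth.Agent.HensPair.ProperClopenCor
import Groth.Agent.HensPair.SectionsBaseChange
import Groth.Agent.HensPair.Universal
import Groth.Agent.HensPair.IdemClopen
import Mathlib.AlgebraicGeometry.Fiber

/-!
Idempotent functions on a fibre of a proper morphism extend to a neighbourhood: they lift to the
henselization by proper base change for clopens, and flat base change brings them back.
-/

set_option autoImplicit false
universe u

open CategoryTheory CategoryTheory.Limits AlgebraicGeometry TopologicalSpace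

namespace Groth.HensPair

theorem isPushout_mem_induction {A B C D : CommRingCat.{u}} {f : A ⟶ B} {g : A ⟶ C} {i : B ⟶ D} {j : C ⟶ D}
    (h : IsPushout f g i j) (S : Subring D) (hi : ∀ x, i x ∈ S) (hj : ∀ x, j x ∈ S) (d : D) : d ∈ S := by
  let i' : B ⟶ CommRingCat.of S := CommRingCat.ofHom (i.hom.codRestrict S hi)
  let j' : C ⟶ CommRingCat.of S := CommRingCat.ofHom (j.hom.codRestrict S hj)
  have hw : f ≫ i' = g ≫ j' := CommRingCat.hom_ext (RingHom.ext fun a => Subtype.ext (congr($(h.w) a)))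
  let φ := h.desc i' j' hw
  have hid : φ ≫ CommRingCat.ofHom S.subtype = 𝟙 D := by
    refine h.hom_ext ?_ ?_
    · rw [h.inl_desc_assoc]; rfl
    · rw [h.inr_desc_assoc]; rfl
  have h1 : S.subtype (φ d) = d := congr($(hid) d)
  exact h1 ▸ (φ d).2

/-- Up to scalars invertible at the prime, idempotents on the fibre extend. -/
theorem exists_mul_mem_range_fibre (hPF : CohFin.ProjFinite.{u}) {A R : Type u} [CommRing A] [CommRing R]
    [Algebra A R] [IsLocalRing R] [Module.Flat A R]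
    (hR : ∀ r : R, ∃ a g : A, IsUnit (algebraMap A R g) ∧ r * algebraMap A R g = algebraMap A R a)
    {X P : Scheme.{u}} (f : X ⟶ Spec (CommRingCat.of A)) [IsProper f] (a : P ⟶ X)
    (b : P ⟶ Spec (CommRingCat.of (IsLocalRing.ResidueField R)))
    (hP : IsPullback a b f
      (Spec.map (CommRingCat.ofHom ((IsLocalRing.residue R).comp (algebraMap A R)))))
    (e : Γ(P, ⊤)) (he : IsIdempotentElem e) :
    ∃ (g : A) (t : Γ(X, ⊤)), IsUnit (algebraMap A R g) ∧ a.appTop t = a.appTop (toΓ f g) * e := by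
  classical
  let m := IsLocalRing.maximalIdeal R
  let H := Hz m
  let mH : Ideal H := m.map (algebraMap R H)
  have hH := isPairHenselization m
  have : HenselianRing H mH := hH.1
  let _ : Algebra A H := ((algebraMap R H).comp (algebraMap A R)).toAlgebra
  have : IsScalarTower A R H := IsScalarTower.of_algebraMap_eq fun _ => rfl
  have : Module.Flat R H := flat_of_isPairHenselization hH
  have : Module.Flat A H := Module.Flat.trans A R H
  let q := RingEquiv.ofBijective _ (quotientMap_bijective_of_isPairHenselization hH)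
  let ψ : H →+* IsLocalRing.ResidueField R := q.symm.toRingHom.comp (Ideal.Quotient.mk mH)
  have hψs : Function.Surjective ψ := q.symm.surjective.comp Ideal.Quotient.mk_surjective
  have hψ : ∀ r, ψ (algebraMap R H r) = IsLocalRing.residue R r := fun r =>
    (RingEquiv.symm_apply_eq q).2 rfl
  have hker : RingHom.ker ψ = mH := by
    ext x
    rw [RingHom.mem_ker]
    show q.symm (Ideal.Quotient.mk mH x) = 0 ↔ x ∈ mH
    rw [map_eq_zero_iff q.symm q.symm.injective, Ideal.Quotient.eq_zero_iff_mem]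
  let σ : Spec (CommRingCat.of H) ⟶ Spec (CommRingCat.of A) := Spec.map (CommRingCat.ofHom (algebraMap A H))
  let τ := Spec.map (CommRingCat.ofHom ψ)
  have hτσ : τ ≫ σ = Spec.map (CommRingCat.ofHom ((IsLocalRing.residue R).comp (algebraMap A R))) := by
    rw [← Spec.map_comp, ← CommRingCat.ofHom_comp]
    congr 2
    exact RingHom.ext fun x => hψ _
  let XH := pullback f σ
  let fH : XH ⟶ Spec (CommRingCat.of H) := pullback.snd f σ
  let d : XH ⟶ X := pullback.fst f σ
  have : IsProper fH := MorphismProperty.pullback_snd _ _ ‹_›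
  let c : P ⟶ XH := pullback.lift a (b ≫ τ) (by rw [Category.assoc, hτσ, hP.w])
  have hcd : c ≫ d = a := pullback.lift_fst _ _ _
  have hcf : c ≫ fH = b ≫ τ := pullback.lift_snd _ _ _
  have hc : IsPullback c b fH τ := by
    refine IsPullback.of_right ?_ hcf (IsPullback.of_hasPullback f σ)
    rw [hτσ]
    exact hcd.symm ▸ hP
  have : IsClosedImmersion τ := IsClosedImmersion.spec_of_surjective _ hψs
  have : IsClosedImmersion c := MorphismProperty.of_isPullback hc.flip ‹_›
  have hr : Set.range c = overV fH mH := by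
    have h1 : Set.range c = Set.range (pullback.fst fH τ) := by
      rw [show (c : P → XH) = pullback.fst fH τ ∘ hc.isoPullback.hom from funext fun x => by
        show c x = (hc.isoPullback.hom ≫ pullback.fst fH τ) x
        rw [hc.isoPullback_hom_fst]]
      exact hc.isoPullback.hom.surjective.range_comp _
    rw [h1, Scheme.Pullback.range_fst]
    refine congrArg (fH.base ⁻¹' ·) ?_
    exact (range_comap_of_surjective _ ψ hψs).trans (by rw [hker])
  -- the lifted idempotent
  obtain ⟨W, ⟨hW, hWe⟩, -⟩ := clopenBij_of_range hPF mH fH c.isClosedEmbedding.isEmbedding hr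
    (P.basicOpen e : Set P) (isClopen_basicOpen he)
  obtain ⟨ε, hε, hεW⟩ := exists_idem_of_isClopen hW
  have hce : c.appTop ε = e := by
    refine eq_of_basicOpen_eq (hε.map _) he ?_
    rw [← Scheme.preimage_basicOpen_top]
    show c.base ⁻¹' (XH.basicOpen ε : Set XH) = _
    rw [hεW]
    exact hWe
  -- sections of the flat base change
  let S : Subring Γ(XH, ⊤) :=
    { carrier := {x | ∃ (g : A) (t : Γ(X, ⊤)), IsUnit (algebraMap A R g) ∧
        a.appTop t = a.appTop (toΓ f g) * c.appTop x}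
      one_mem' := ⟨1, 1, by rw [map_one]; exact isUnit_one, by simp⟩
      zero_mem' := ⟨1, 0, by rw [map_one]; exact isUnit_one, by simp⟩
      mul_mem' := by
        rintro x y ⟨g, t, hg, ht⟩ ⟨g', t', hg', ht'⟩
        refine ⟨g * g', t * t', by rw [map_mul]; exact hg.mul hg', ?_⟩
        simp only [map_mul, ht, ht']
        ring
      add_mem' := by
        rintro x y ⟨g, t, hg, ht⟩ ⟨g', t', hg', ht'⟩
        refine ⟨g * g', t * toΓ f g' + t' * toΓ f g, by rw [map_mul]; exact hg.mul hg', ?_⟩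
        simp only [map_mul, map_add, ht, ht']
        ring
      neg_mem' := by
        rintro x ⟨g, t, hg, ht⟩
        exact ⟨g, -t, hg, by simp [ht]⟩ }
  have hcdt : ∀ t, c.appTop (d.appTop t) = a.appTop t := fun t => by
    rw [← hcd, Scheme.Hom.comp_appTop]; rfl
  have hcH : ∀ x : H, c.appTop (toΓ fH x) = b.appTop ((Scheme.ΓSpecIso (CommRingCat.of _)).inv (ψ x)) := by
    intro x
    show (fH.appTop ≫ c.appTop) ((Scheme.ΓSpecIso (CommRingCat.of H)).inv x) = _
    rw [← Scheme.Hom.comp_appTop, hcf, Scheme.Hom.comp_appTop]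
    show b.appTop (((Scheme.ΓSpecIso (CommRingCat.of H)).inv ≫ τ.appTop) x) = _
    rw [← Scheme.ΓSpecIso_inv_naturality]
    rfl
  have haA : ∀ x : A, a.appTop (toΓ f x) =
      b.appTop ((Scheme.ΓSpecIso (CommRingCat.of _)).inv (IsLocalRing.residue R (algebraMap A R x))) := by
    intro x
    show (f.appTop ≫ a.appTop) ((Scheme.ΓSpecIso (CommRingCat.of A)).inv x) = _
    rw [← Scheme.Hom.comp_appTop, hP.w, Scheme.Hom.comp_appTop]
    show b.appTop (((Scheme.ΓSpecIso (CommRingCat.of A)).inv ≫ (Spec.map (CommRingCat.ofHom _)).appTop) x) = _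
    rw [← Scheme.ΓSpecIso_inv_naturality]
    rfl
  have hS : ε ∈ S := by
    have : CompactSpace X := QuasiCompact.compactSpace_of_compactSpace f
    have : QuasiSeparatedSpace X := quasiSeparatedSpace_of_quasiSeparated f
    refine isPushout_mem_induction (isPushout_appTop (a := d) (b := fH) (p := f) (IsPullback.of_hasPullback f σ))
      S (fun t => ⟨1, t, by rw [map_one]; exact isUnit_one, by rw [hcdt, map_one, map_one, one_mul]⟩)
      (fun z => ?_) ε
    obtain ⟨x, hx⟩ : ∃ x : H, (Scheme.ΓSpecIso (CommRingCat.of H)).inv x = z :=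
      ⟨(Scheme.ΓSpecIso (CommRingCat.of H)).hom z, congr($((Scheme.ΓSpecIso (CommRingCat.of H)).hom_inv_id) z)⟩
    obtain ⟨r, hr'⟩ : ∃ r, ψ x = IsLocalRing.residue R r :=
      ⟨(IsLocalRing.residue_surjective (ψ x)).choose, (IsLocalRing.residue_surjective (ψ x)).choose_spec.symm⟩
    obtain ⟨y, g, hg, hyg⟩ := hR r
    refine ⟨g, toΓ f y, hg, ?_⟩
    rw [show fH.appTop z = toΓ fH x by rw [← hx]; rfl, hcH, haA, haA, hr', ← hyg]
    simp only [map_mul]
    ring
  obtain ⟨g, t, hg, ht⟩ := hS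
  exact ⟨g, t, hg, hce ▸ ht⟩

theorem apply_fiberι {X S : Scheme.{u}} (f : X ⟶ S) (s : S) (z : f.fiber s) : f (f.fiberι s z) = s := by
  have h : f.fiberι s z ∈ f.base ⁻¹' {s} := (f.range_fiberι s).le ⟨z, rfl⟩
  exact h

/-- **Idempotents on a fibre extend to a neighbourhood.** -/
theorem exists_section_of_idem_fibre (hPF : CohFin.ProjFinite.{u}) {X S : Scheme.{u}} (f : X ⟶ S)
    [IsProper f] (s : S) (e : Γ(f.fiber s, ⊤)) (he : IsIdempotentElem e) :
    ∃ (V : S.Opens) (hs : s ∈ V) (t : Γ(X, f ⁻¹ᵁ V)),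
      (f.fiberι s).appLE (f ⁻¹ᵁ V) ⊤ (fun z _ => by
        show f (f.fiberι s z) ∈ V
        rw [apply_fiberι]; exact hs) t = e := by
  obtain ⟨_, ⟨U, hU, rfl⟩, hsU, -⟩ :=
    S.isBasis_affineOpens.exists_subset_of_mem_open (Set.mem_univ s) isOpen_univ
  replace hU : IsAffineOpen U := hU
  let A := Γ(S, U)
  let R := S.presheaf.stalk s
  let _ : Algebra A R := (S.presheaf.germ U s hsU).hom.toAlgebra
  have : IsLocalization.AtPrime R (hU.primeIdealOf ⟨s, hsU⟩).asIdeal := hU.isLocalization_stalk ⟨s, hsU⟩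
  have : Module.Flat A R := IsLocalization.flat R (hU.primeIdealOf ⟨s, hsU⟩).asIdeal.primeCompl
  let Y : Scheme.{u} := (f ⁻¹ᵁ U).toScheme
  let fA : Y ⟶ Spec (CommRingCat.of A) := (f ∣_ U) ≫ hU.isoSpec.hom
  have : IsProper (f ∣_ U) := IsZariskiLocalAtTarget.restrict ‹_› U
  have : IsProper fA := inferInstance
  have hR : ∀ r : R, ∃ a g : A, IsUnit (algebraMap A R g) ∧ r * algebraMap A R g = algebraMap A R a := fun r => by
    obtain ⟨⟨a, g⟩, h⟩ := IsLocalization.surj (hU.primeIdealOf ⟨s, hsU⟩).asIdeal.primeCompl r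
    exact ⟨a, g, IsLocalization.map_units R g, h⟩
  have hfib : ∀ z, f.fiberι s z ∈ f ⁻¹ᵁ U := fun z => by
    show f (f.fiberι s z) ∈ U
    rw [apply_fiberι]; exact hsU
  let a : f.fiber s ⟶ Y := IsOpenImmersion.lift (f ⁻¹ᵁ U).ι (f.fiberι s) (by
    rw [Scheme.Opens.range_ι]; rintro _ ⟨z, rfl⟩; exact hfib z)
  have ha : a ≫ (f ⁻¹ᵁ U).ι = f.fiberι s := IsOpenImmersion.lift_fac _ _ _
  let φ : Spec (S.residueField s) ⟶ Spec (CommRingCat.of A) :=
    Spec.map (CommRingCat.ofHom ((IsLocalRing.residue R).comp (algebraMap A R)))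
  have hφ : φ ≫ hU.fromSpec = S.fromSpecResidueField s := by
    show Spec.map (S.presheaf.germ U s hsU ≫ S.residue s) ≫ hU.fromSpec = _
    rw [Spec.map_comp, Category.assoc]
    show Spec.map (S.residue s) ≫ hU.fromSpecStalk hsU = _
    rw [hU.fromSpecStalk_eq_fromSpecStalk]
    rfl
  have hright : IsPullback (f ⁻¹ᵁ U).ι fA f hU.fromSpec := by
    refine IsPullback.of_iso (isPullback_morphismRestrict f U).flip (Iso.refl _) (Iso.refl _) hU.isoSpec (Iso.refl _)
      ?_ ?_ ?_ ?_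
    all_goals simp [fA, ← IsAffineOpen.isoSpec_inv_ι]
  have hP : IsPullback a (f.fiberToSpecResidueField s) fA φ := by
    refine IsPullback.of_right ?_ ?_ hright
    · rw [ha, hφ]
      exact IsPullback.of_hasPullback f (S.fromSpecResidueField s)
    · refine (cancel_mono hU.fromSpec).1 ?_
      calc (a ≫ fA) ≫ hU.fromSpec = a ≫ (f ⁻¹ᵁ U).ι ≫ f := by rw [Category.assoc, hright.w]
        _ = f.fiberι s ≫ f := by rw [← Category.assoc, ha]
        _ = f.fiberToSpecResidueField s ≫ φ ≫ hU.fromSpec := by rw [hφ]; exact pullback.condition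
        _ = _ := (Category.assoc _ _ _).symm
  obtain ⟨g, t, hg, ht⟩ := exists_mul_mem_range_fibre hPF hR fA a _ hP e he
  let V := S.basicOpen g
  have hsV : s ∈ V := (S.mem_basicOpen g s hsU).2 hg
  refine ⟨V, hsV, ?_⟩
  let D : Y.Opens := Y.basicOpen (toΓ fA g)
  have hVD : f ⁻¹ᵁ V = (f ⁻¹ᵁ U).ι ''ᵁ D := by
    ext x
    constructor
    · intro hx
      have hxU : x ∈ f ⁻¹ᵁ U := S.basicOpen_le g hx
      refine ⟨⟨x, hxU⟩, (mem_basicOpen_toGlobal fA g _).2 ?_, rfl⟩
      have h1 : hU.fromSpec (fA ⟨x, hxU⟩) = f x := by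
        rw [← Scheme.Hom.comp_apply, ← hright.w]; rfl
      have h2 : fA ⟨x, hxU⟩ ∈ hU.fromSpec ⁻¹ᵁ S.basicOpen g := by
        show hU.fromSpec (fA ⟨x, hxU⟩) ∈ S.basicOpen g
        rw [h1]; exact hx
      rw [hU.fromSpec_preimage_basicOpen] at h2
      exact h2
    · rintro ⟨y, hy, rfl⟩
      have h2 : fA y ∈ hU.fromSpec ⁻¹ᵁ S.basicOpen g := by
        rw [hU.fromSpec_preimage_basicOpen]
        exact (mem_basicOpen_toGlobal fA g y).1 hy
      show f ((f ⁻¹ᵁ U).ι y) ∈ V
      rw [← Scheme.Hom.comp_apply, hright.w]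
      exact h2
  have hu : IsUnit (Y.presheaf.map (homOfLE (le_top : D ≤ ⊤)).op (toΓ fA g)) :=
    RingedSpace.isUnit_res_basicOpen Y.toLocallyRingedSpace.toRingedSpace (toΓ fA g)
  let u : Γ(Y, D) := Y.presheaf.map (homOfLE (le_top : D ≤ ⊤)).op t * (hu.unit⁻¹ : Γ(Y, D)ˣ)
  have haD : (⊤ : (f.fiber s).Opens) ≤ a ⁻¹ᵁ D := fun z _ => by
    have h1 : f.fiberι s z ∈ f ⁻¹ᵁ V := by
      show f (f.fiberι s z) ∈ V
      rw [apply_fiberι]; exact hsV
    rw [hVD, ← ha] at h1
    obtain ⟨y, hy, hyz⟩ := h1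
    show a z ∈ D
    rwa [← (f ⁻¹ᵁ U).ι.isOpenEmbedding.injective (show (f ⁻¹ᵁ U).ι y = (f ⁻¹ᵁ U).ι (a z) from hyz)]
  refine ⟨X.presheaf.map (eqToHom hVD).op u, ?_⟩
  have hres : ∀ x, a.appLE D ⊤ haD (Y.presheaf.map (homOfLE (le_top : D ≤ ⊤)).op x) = a.appTop x := fun x => by
    rw [← ConcreteCategory.comp_apply, Scheme.Hom.map_appLE, Scheme.Hom.appLE]
    simp [Scheme.Hom.appTop]
  have hu2 : a.appLE D ⊤ haD u = e := by
    have h1 : a.appLE D ⊤ haD u * a.appTop (toΓ fA g) = e * a.appTop (toΓ fA g) := by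
      rw [← hres (toΓ fA g), ← map_mul, show u * Y.presheaf.map (homOfLE (le_top : D ≤ ⊤)).op (toΓ fA g) =
        Y.presheaf.map (homOfLE (le_top : D ≤ ⊤)).op t by rw [mul_assoc, IsUnit.val_inv_mul, mul_one], hres, hres, ht,
        mul_comm]
    exact ((hu.map (a.appLE D ⊤ haD).hom).mul_left_injective (by simpa [hres] using h1))
  refine Eq.trans ?_ hu2
  have key : ∀ (f' : f.fiber s ⟶ X) (h : f' = a ≫ (f ⁻¹ᵁ U).ι) (W : X.Opens) (hW : W = (f ⁻¹ᵁ U).ι ''ᵁ D)
      (h' : ⊤ ≤ f' ⁻¹ᵁ W), f'.appLE W ⊤ h' (X.presheaf.map (eqToHom hW).op u) = a.appLE D ⊤ haD u := by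
    rintro f' rfl W rfl h'
    rw [← Scheme.Hom.appLE_comp_appLE a (f ⁻¹ᵁ U).ι ((f ⁻¹ᵁ U).ι ''ᵁ D) D ⊤ (by simp) haD]
    simp [Scheme.Opens.ι_appLE]
    rfl
  exact key _ ha.symm _ hVD _

end Groth.HensPair
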