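import Groth.Agent.HensPair.ProperClopenNoeth
import Groth.Agent.Variety2.ProjBasics
import Groth.Agent.PnCoh.ToGlobal

/-!
The closed subset of projective space cut out by the forms vanishing on a tuple `c`, and the point
`[c₀ : … : cₙ]` over a prime.
-/

set_option autoImplicit false
universe u

open AlgebraicGeometry CategoryTheory MvPolynomial TopologicalSpace

namespace Groth.HensPair

attribute [local instance] MvPolynomial.gradedAlgebra

variable {A : Type u} [CommRing A] {n : ℕ}

/-- Points of projective space, as homogeneous primes. -/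
abbrev PPt (n : ℕ) (A : Type u) [CommRing A] : Type u := ProjectiveSpectrum (CohB1.polyGrading n A)

/-- The underlying prime of the base. -/
noncomputable def basePt (x : PPt n A) : PrimeSpectrum A :=
  CohB1.ProjSpace.toSpec n A (show CohB1.ProjSpace n A from x)

theorem mem_basePt_iff (x : PPt n A) (a : A) :
    a ∈ (basePt x).asIdeal ↔ (C a : MvPolynomial (Fin (n + 1)) A) ∈ x.asHomogeneousIdeal.toIdeal := by
  let X' : Scheme.{u} := CohB1.ProjSpace n A
  let f := CohB1.ProjSpace.toSpec n A
  have h1 := mem_basicOpen_toGlobal f a (show X' from x)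
  have h2 := Groth.PnCoh.toGlobal_projSpace_val n A a ⊤ (⟨(show X' from x), trivial⟩ : (⊤ : X'.Opens))
  have h3 : (show X' from x) ∈ X'.basicOpen (U := ⊤) (toΓ f a) ↔
      (C a : MvPolynomial (Fin (n + 1)) A) ∉ x.asHomogeneousIdeal.toIdeal := by
    have e : Coh.resTop X' (Opposite.op ⊤) (Coh.toGlobal f a) = (toΓ f a : Γ(X', ⊤)) :=
      congr($(X'.presheaf.map_id _) (toΓ f a))
    let σ := Proj.stalkIso' (CohB1.polyGrading n A) x
    have hσ : σ (X'.presheaf.germ ⊤ (show X' from x) trivial (toΓ f a)) =
        ((Coh.resTop X' (Opposite.op ⊤) (Coh.toGlobal f a) : Twist.O (𝒜 := CohB1.polyGrading n A) (Opposite.op (⊤ : X'.Opens))).1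
          ⟨(show X' from x), trivial⟩) :=
      (Proj.stalkIso'_germ (CohB1.polyGrading n A) ⊤ x trivial _).trans (by rw [e]; rfl)
    have hiff : IsUnit (X'.presheaf.germ ⊤ (show X' from x) trivial (toΓ f a)) ↔
        IsUnit (Localization.mk (C a : MvPolynomial (Fin (n + 1)) A) (1 : x.asHomogeneousIdeal.toIdeal.primeCompl)) := by
      refine (MulEquiv.isUnit_map σ).symm.trans ?_
      rw [hσ, ← HomogeneousLocalization.isUnit_iff_isUnit_val]
      exact Iff.of_eq (congrArg IsUnit h2)
    refine (X'.mem_basicOpen (U := ⊤) (toΓ f a) (show X' from x) trivial).trans (hiff.trans ?_)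
    rw [Localization.mk_one_eq_algebraMap, IsLocalization.AtPrime.isUnit_to_map_iff _ x.asHomogeneousIdeal.toIdeal]
    rfl
  exact not_iff_not.1 (h1.symm.trans h3)

theorem exists_X_notMem (x : PPt n A) : ∃ k, (X k : MvPolynomial (Fin (n + 1)) A) ∉ x.asHomogeneousIdeal.toIdeal := by
  by_contra h
  push Not at h
  refine x.not_irrelevant_le fun F hF => ?_
  have h0 : GradedRing.proj (CohB1.polyGrading n A) 0 F = 0 := hF
  have h1 : coeff 0 F = 0 := by
    have h2 : homogeneousComponent 0 F = 0 := by
      rw [← h0]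
      exact (decomposition.decompose'_apply F 0).symm
    rwa [homogeneousComponent_zero, map_eq_zero_iff _ (C_injective _ _)] at h2
  have h2 : F ∈ Ideal.span ((X : Fin (n + 1) → MvPolynomial (Fin (n + 1)) A) '' Set.univ) := by
    refine mem_ideal_span_X_image.2 fun m hm => ?_
    by_contra hne
    push Not at hne
    have : m = 0 := Finsupp.ext fun i => hne i trivial
    exact (MvPolynomial.mem_support_iff.1 hm) (this ▸ h1)
  exact (Ideal.span_le.2 (by rintro _ ⟨k, -, rfl⟩; exact h k)) h2

/-- The forms of each degree vanishing at `c` cut out the closed subset `graph c`. -/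
def graphForms (c : Fin (n + 1) → A) : Set (MvPolynomial (Fin (n + 1)) A) :=
  {F | ∃ m, F.IsHomogeneous m ∧ eval c F = 0}

/-- The closed subset of projective space of the tuple `c`. -/
def graph (c : Fin (n + 1) → A) : Set (PPt n A) :=
  ProjectiveSpectrum.zeroLocus (CohB1.polyGrading n A) (graphForms c)

theorem isClosed_graph (c : Fin (n + 1) → A) : IsClosed (graph c) :=
  ProjectiveSpectrum.isClosed_zeroLocus _ _

theorem mem_of_mem_graph {c : Fin (n + 1) → A} {x : PPt n A} (hx : x ∈ graph c)
    {F : MvPolynomial (Fin (n + 1)) A} {m : ℕ} (hF : F.IsHomogeneous m) (h0 : eval c F = 0) :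
    F ∈ x.asHomogeneousIdeal.toIdeal :=
  hx ⟨m, hF, h0⟩

/-- The scaled evaluation `T_k ↦ c_k t`. -/
noncomputable def scaleEval (c : Fin (n + 1) → A) : MvPolynomial (Fin (n + 1)) A →+* Polynomial A :=
  eval₂Hom Polynomial.C fun k => Polynomial.C (c k) * Polynomial.X

theorem scaleEval_of_isHomogeneous (c : Fin (n + 1) → A) {F : MvPolynomial (Fin (n + 1)) A} {m : ℕ}
    (hF : F.IsHomogeneous m) : scaleEval c F = Polynomial.C (eval c F) * Polynomial.X ^ m := by
  rw [scaleEval, coe_eval₂Hom, eval₂_eq, eval_eq, map_sum, Finset.sum_mul]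
  refine Finset.sum_congr rfl fun d hd => ?_
  have hdeg : ∑ i ∈ d.support, d i = m := by
    have := hF (MvPolynomial.mem_support_iff.1 hd)
    rw [← this, Finsupp.weight_apply, Finsupp.sum]
    simp
  simp_rw [mul_pow, Finset.prod_mul_distrib, Finset.prod_pow_eq_pow_sum, hdeg, map_mul, map_prod, map_pow]
  ring

theorem scaleEval_apply_coeff (c : Fin (n + 1) → A) (F : MvPolynomial (Fin (n + 1)) A) (m : ℕ) :
    (scaleEval c F).coeff m = eval c (homogeneousComponent m F) := by
  classical
  conv_lhs => rw [← sum_homogeneousComponent F]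
  rw [map_sum, Polynomial.finsetSum_coeff]
  rw [Finset.sum_eq_single m]
  · rw [scaleEval_of_isHomogeneous c (homogeneousComponent_isHomogeneous m F), Polynomial.coeff_C_mul_X_pow,
      if_pos rfl]
  · intro i _ hi
    rw [scaleEval_of_isHomogeneous c (homogeneousComponent_isHomogeneous i F), Polynomial.coeff_C_mul_X_pow,
      if_neg (Ne.symm hi)]
  · intro hm
    have h : homogeneousComponent m F = 0 := homogeneousComponent_eq_zero _ _ (by
      simp only [Finset.mem_range] at hm; omega)
    rw [h, map_zero, Polynomial.coeff_zero]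

theorem mem_comap_scaleEval (c : Fin (n + 1) → A) (p : Ideal A) (F : MvPolynomial (Fin (n + 1)) A) :
    F ∈ (p.map Polynomial.C).comap (scaleEval c) ↔ ∀ m, eval c (homogeneousComponent m F) ∈ p := by
  rw [Ideal.mem_comap, Ideal.mem_map_C_iff]
  simp only [scaleEval_apply_coeff]

theorem homogeneousComponent_homogeneousComponent' (F : MvPolynomial (Fin (n + 1)) A) (i j : ℕ) :
    homogeneousComponent i (homogeneousComponent j F) = if i = j then homogeneousComponent j F else 0 := by
  split_ifs with h
  · subst h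
    exact homogeneousComponent_of_mem (homogeneousComponent_mem i F) |>.trans (if_pos rfl)
  · exact (homogeneousComponent_of_mem (homogeneousComponent_mem j F)).trans (if_neg h)

/-- The point `[c₀ : … : cₙ]` over a prime not containing all `c_k`. -/
noncomputable def graphPt (c : Fin (n + 1) → A) (p : PrimeSpectrum A) (hp : ∃ k, c k ∉ p.asIdeal) :
    PPt n A where
  asHomogeneousIdeal :=
    { toSubmodule := (p.asIdeal.map Polynomial.C).comap (scaleEval c)
      is_homogeneous' := fun i F hF => by
        have hF' : F ∈ (p.asIdeal.map Polynomial.C).comap (scaleEval c) := hF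
        rw [mem_comap_scaleEval] at hF'
        change ((DirectSum.decompose (CohB1.polyGrading n A) F i : MvPolynomial (Fin (n + 1)) A)) ∈
          (p.asIdeal.map Polynomial.C).comap (scaleEval c)
        rw [show (DirectSum.decompose (CohB1.polyGrading n A) F i : MvPolynomial (Fin (n + 1)) A) =
          homogeneousComponent i F from decomposition.decompose'_apply F i, mem_comap_scaleEval]
        intro m
        rw [homogeneousComponent_homogeneousComponent']
        split_ifs
        · exact hF' i
        · rw [map_zero]; exact zero_mem _ }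
  isPrime := by
    have : (p.asIdeal.map Polynomial.C).IsPrime := Ideal.isPrime_map_C_of_isPrime
    exact Ideal.comap_isPrime _ _
  not_irrelevant_le h := by
    obtain ⟨k, hk⟩ := hp
    have hX : (X k : MvPolynomial (Fin (n + 1)) A) ∈ HomogeneousIdeal.irrelevant (CohB1.polyGrading n A) := by
      show GradedRing.proj (CohB1.polyGrading n A) 0 (X k) = 0
      refine (decomposition.decompose'_apply (X k) 0).trans ?_
      exact (homogeneousComponent_of_mem (isHomogeneous_X A k)).trans (if_neg Nat.zero_ne_one)
    have h1 := (mem_comap_scaleEval c p.asIdeal (X k)).1 (h hX) 1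
    rw [homogeneousComponent_of_mem (isHomogeneous_X A k), if_pos rfl, eval_X] at h1
    exact hk h1

theorem mem_graphPt_iff (c : Fin (n + 1) → A) (p : PrimeSpectrum A) (hp : ∃ k, c k ∉ p.asIdeal)
    {F : MvPolynomial (Fin (n + 1)) A} {m : ℕ} (hF : F.IsHomogeneous m) :
    F ∈ (graphPt c p hp).asHomogeneousIdeal.toIdeal ↔ eval c F ∈ p.asIdeal := by
  show F ∈ (p.asIdeal.map Polynomial.C).comap (scaleEval c) ↔ _
  rw [mem_comap_scaleEval]
  constructor
  · intro h
    have := h m
    rwa [homogeneousComponent_of_mem hF, if_pos rfl] at this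
  · intro h i
    rw [homogeneousComponent_of_mem hF]
    split_ifs
    · exact h
    · rw [map_zero]; exact zero_mem _

theorem graphPt_mem_graph (c : Fin (n + 1) → A) (p : PrimeSpectrum A) (hp : ∃ k, c k ∉ p.asIdeal) :
    graphPt c p hp ∈ graph c := by
  rintro F ⟨m, hF, h0⟩
  exact (mem_graphPt_iff c p hp hF).2 (by rw [h0]; exact zero_mem _)

theorem basePt_graphPt (c : Fin (n + 1) → A) (p : PrimeSpectrum A) (hp : ∃ k, c k ∉ p.asIdeal) :
    basePt (graphPt c p hp) = p := by
  refine PrimeSpectrum.ext (Ideal.ext fun a => ?_)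
  rw [mem_basePt_iff, mem_graphPt_iff c p hp (isHomogeneous_C _ a), eval_C]

theorem continuous_graphPt (c : Fin (n + 1) → A) {U : Set (PrimeSpectrum A)}
    (hU : ∀ p ∈ U, ∃ k, c k ∉ p.asIdeal) :
    Continuous fun p : U => graphPt c p.1 (hU p.1 p.2) := by
  refine (ProjectiveSpectrum.isTopologicalBasis_basic_opens _).continuous_iff.2 ?_
  rintro _ ⟨F, rfl⟩
  have : (fun p : U => graphPt c p.1 (hU p.1 p.2)) ⁻¹'
      (ProjectiveSpectrum.basicOpen (CohB1.polyGrading n A) F : Set (PPt n A)) =
      ⋃ m : ℕ, Subtype.val ⁻¹' (PrimeSpectrum.basicOpen (eval c (homogeneousComponent m F)) : Set _) := by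
    ext p
    simp only [Set.mem_preimage, Set.mem_iUnion, SetLike.mem_coe, ProjectiveSpectrum.mem_basicOpen,
      PrimeSpectrum.mem_basicOpen]
    show F ∉ (p.1.asIdeal.map Polynomial.C).comap (scaleEval c) ↔ _
    rw [mem_comap_scaleEval]
    push Not
    rfl
  rw [this]
  exact isOpen_iUnion fun m => (PrimeSpectrum.basicOpen _).2.preimage continuous_subtype_val

variable {B : Type u} [CommRing B]

theorem homogeneousComponent_map' (f : A →+* B) (F : MvPolynomial (Fin (n + 1)) A) (i : ℕ) :
    homogeneousComponent i (MvPolynomial.map f F) = MvPolynomial.map f (homogeneousComponent i F) := by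
  ext d
  simp only [coeff_homogeneousComponent, coeff_map]
  split_ifs <;> simp

/-- Pulling back a homogeneous prime along a map of base rings. -/
noncomputable def projComap (f : A →+* B) (y : PPt n B) : PPt n A where
  asHomogeneousIdeal :=
    { toSubmodule := y.asHomogeneousIdeal.toIdeal.comap (MvPolynomial.map f)
      is_homogeneous' := fun i F hF => by
        change ((DirectSum.decompose (CohB1.polyGrading n A) F i : MvPolynomial (Fin (n + 1)) A)) ∈
          y.asHomogeneousIdeal.toIdeal.comap (MvPolynomial.map f)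
        rw [show (DirectSum.decompose (CohB1.polyGrading n A) F i : MvPolynomial (Fin (n + 1)) A) =
          homogeneousComponent i F from decomposition.decompose'_apply F i, Ideal.mem_comap,
          ← homogeneousComponent_map']
        exact homogeneousComponent_mem_of_mem y.asHomogeneousIdeal.isHomogeneous hF i }
  isPrime := by
    have := y.isPrime
    exact Ideal.comap_isPrime _ _
  not_irrelevant_le h := by
    obtain ⟨k, hk⟩ := exists_X_notMem y
    have hX : (X k : MvPolynomial (Fin (n + 1)) A) ∈ HomogeneousIdeal.irrelevant (CohB1.polyGrading n A) := by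
      show GradedRing.proj (CohB1.polyGrading n A) 0 (X k) = 0
      refine (decomposition.decompose'_apply (X k) 0).trans ?_
      exact (homogeneousComponent_of_mem (isHomogeneous_X A k)).trans (if_neg Nat.zero_ne_one)
    exact hk (by simpa using (show MvPolynomial.map f (X k) ∈ y.asHomogeneousIdeal.toIdeal from h hX))

theorem mem_projComap_iff (f : A →+* B) (y : PPt n B) (F : MvPolynomial (Fin (n + 1)) A) :
    F ∈ (projComap f y).asHomogeneousIdeal.toIdeal ↔ MvPolynomial.map f F ∈ y.asHomogeneousIdeal.toIdeal :=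
  Iff.rfl

theorem continuous_projComap (f : A →+* B) : Continuous (projComap (n := n) f) := by
  refine (ProjectiveSpectrum.isTopologicalBasis_basic_opens _).continuous_iff.2 ?_
  rintro _ ⟨F, rfl⟩
  exact (ProjectiveSpectrum.basicOpen (CohB1.polyGrading n B) (MvPolynomial.map f F)).2

theorem projComap_mem_graph (f : A →+* B) (c : Fin (n + 1) → A) {y : PPt n B} (hy : y ∈ graph (f ∘ c)) :
    projComap f y ∈ graph c := by
  rintro F ⟨m, hF, h0⟩
  refine hy ⟨m, hF.map f, ?_⟩
  rw [MvPolynomial.eval_map, ← eval₂_comp, h0, map_zero]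

theorem basePt_projComap (f : A →+* B) (y : PPt n B) :
    basePt (projComap f y) = PrimeSpectrum.comap f (basePt y) := by
  refine PrimeSpectrum.ext (Ideal.ext fun a => ?_)
  rw [mem_basePt_iff, mem_projComap_iff, map_C, PrimeSpectrum.comap_asIdeal, Ideal.mem_comap, mem_basePt_iff]

theorem projComap_graphPt (f : A →+* B) (c : Fin (n + 1) → A) (q : PrimeSpectrum B)
    (hq : ∃ k, (f ∘ c) k ∉ q.asIdeal) (hp : ∃ k, c k ∉ (PrimeSpectrum.comap f q).asIdeal) :
    projComap f (graphPt (f ∘ c) q hq) = graphPt c (PrimeSpectrum.comap f q) hp := by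
  refine ProjectiveSpectrum.ext (HomogeneousIdeal.ext (Ideal.ext fun F => ?_))
  show MvPolynomial.map f F ∈ (q.asIdeal.map Polynomial.C).comap (scaleEval (f ∘ c)) ↔
    F ∈ ((PrimeSpectrum.comap f q).asIdeal.map Polynomial.C).comap (scaleEval c)
  rw [mem_comap_scaleEval, mem_comap_scaleEval]
  refine forall_congr' fun m => ?_
  rw [homogeneousComponent_map', MvPolynomial.eval_map, ← eval₂_comp]
  rfl

theorem map_C_le_of_le_basePt {I : Ideal A} {x : PPt n A} (hx : (I : Set A) ⊆ (basePt x).asIdeal) :
    I.map (C : A →+* MvPolynomial (Fin (n + 1)) A) ≤ x.asHomogeneousIdeal.toIdeal :=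
  Ideal.map_le_iff_le_comap.2 fun a ha => (mem_basePt_iff x a).1 (hx ha)

/-- Elements of `I · (c)^m` are values of forms of degree `m` with coefficients in `I`. -/
theorem exists_form_of_mem (c : Fin (n + 1) → A) (I : Ideal A) (m : ℕ) {y : A}
    (hy : y ∈ I * Ideal.span (Set.range c) ^ m) :
    ∃ H : MvPolynomial (Fin (n + 1)) A, H.IsHomogeneous m ∧ H ∈ I.map (C : A →+* _) ∧ eval c H = y := by
  have hpow : ∀ m, ∀ z ∈ Ideal.span (Set.range c) ^ m, ∃ H : MvPolynomial (Fin (n + 1)) A,
      H.IsHomogeneous m ∧ eval c H = z := by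
    intro m
    induction m with
    | zero => exact fun z _ => ⟨C z, isHomogeneous_C _ z, eval_C z⟩
    | succ m ih =>
      intro z hz
      rw [pow_succ] at hz
      refine Submodule.mul_induction_on hz (fun a ha b hb => ?_) (fun a b ⟨H, hH, ha⟩ ⟨H', hH', hb⟩ =>
        ⟨H + H', hH.add hH', by rw [map_add, ha, hb]⟩)
      obtain ⟨H, hH, rfl⟩ := ih a ha
      induction hb using Submodule.span_induction with
      | mem b hb =>
        obtain ⟨k, rfl⟩ := hb
        exact ⟨H * X k, hH.mul (isHomogeneous_X A k), by rw [map_mul, eval_X]⟩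
      | zero => exact ⟨0, isHomogeneous_zero _ _ _, by rw [map_zero, mul_zero]⟩
      | add b b' _ _ hb hb' =>
        obtain ⟨G, hG, e⟩ := hb
        obtain ⟨G', hG', e'⟩ := hb'
        exact ⟨G + G', hG.add hG', by rw [map_add, e, e', mul_add]⟩
      | smul r b _ hb =>
        obtain ⟨G, hG, e⟩ := hb
        exact ⟨C r * G, hG.C_mul r, by rw [map_mul, eval_C, e, smul_eq_mul]; ring⟩
  refine Submodule.mul_induction_on hy (fun a ha b hb => ?_) (fun a b ⟨H, hH, hI, ha⟩ ⟨H', hH', hI', hb⟩ =>
    ⟨H + H', hH.add hH', add_mem hI hI', by rw [map_add, ha, hb]⟩)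
  obtain ⟨H, hH, rfl⟩ := hpow m b hb
  exact ⟨C a * H, hH.C_mul a, Ideal.mul_mem_right _ _ (Ideal.mem_map_of_mem _ ha), by rw [map_mul, eval_C]⟩

end Groth.HensPair
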