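import Groth.Agent.HensPair.Ops

/-!
# Henselian finitely presented algebras: quotients by finitely generated ideals
-/

namespace Groth.HensPair

universe u

open Hens2

variable {A : Type u} [CommRing A] {I : Ideal A}

/-- A quotient by a finitely generated ideal of the henselization of a finitely presented algebra is
again such a henselization. -/
theorem exists_presentation_of_surjective {R : Type u} [CommRing R] [Algebra A R]
    [Algebra.FinitePresentation A R] {P : Type u} [CommRing P] [Algebra R P] [Algebra A P]
    [IsScalarTower A R P] (hP : IsPairHenselization R (I.map (algebraMap A R)) P)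
    {B : Type u} [CommRing B] [Algebra A B] (φ : P →ₐ[A] B) (hφ : Function.Surjective φ)
    (hker : (RingHom.ker φ).FG) :
    ∃ (T : Type u) (_ : CommRing T) (_ : Algebra A T) (_ : Algebra T B) (_ : IsScalarTower A T B),
      Algebra.FinitePresentation A T ∧ IsPairHenselization T (I.map (algebraMap A T)) B := by
  obtain ⟨s, hs⟩ := hker
  obtain ⟨R', _, _, θ, t, hR', ht⟩ := exists_isNbhd_of_finite hP (fun k : s => (k : P))
  let _ := θ.toRingHom.toAlgebra
  have : IsScalarTower R R' P := IsScalarTower.of_algebraMap_eq fun a => (θ.commutes a).symm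
  have hP' := isPairHenselization_of_isNbhd hP hR'
  let _ : Algebra A R' := ((algebraMap R R').comp (algebraMap A R)).toAlgebra
  have : IsScalarTower A R R' := IsScalarTower.of_algebraMap_eq fun _ => rfl
  have : IsScalarTower A R' P := IsScalarTower.of_algebraMap_eq fun a => by
    show algebraMap A P a = θ (algebraMap R R' (algebraMap A R a))
    rw [θ.commutes, ← IsScalarTower.algebraMap_apply]
  have := hR'.etale
  have : Algebra.FinitePresentation A R' := .trans A R R'
  let K : Ideal R' := Ideal.span (Set.range t)
  have hKL : RingHom.ker φ = K.map (algebraMap R' P) := by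
    rw [Ideal.map_span, ← Set.range_comp, ← hs]
    refine congrArg Ideal.span (Set.ext fun x => ⟨fun hx => ⟨⟨x, hx⟩, ht ⟨x, hx⟩⟩, ?_⟩)
    rintro ⟨k, rfl⟩
    show θ (t k) ∈ (s : Set P)
    rw [ht k]; exact k.2
  have hle : K ≤ (RingHom.ker φ).comap (algebraMap R' P) := Ideal.map_le_iff_le_comap.1 hKL.ge
  let _ := (Ideal.quotientMap (RingHom.ker φ) (algebraMap R' P) hle).toAlgebra
  have hquot := isPairHenselization_quotient hP' K (RingHom.ker φ) hKL (RingHom.ext fun _ => rfl)
  let _ : Algebra (R' ⧸ K) B :=
    (Ideal.Quotient.lift K (φ.toRingHom.comp (algebraMap R' P))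
      fun x hx => RingHom.mem_ker.1 (hle hx)).toAlgebra
  have : IsScalarTower A (R' ⧸ K) B := IsScalarTower.of_algebraMap_eq fun a => by
    show _ = φ (algebraMap R' P (algebraMap A R' a))
    rw [← IsScalarTower.algebraMap_apply, φ.commutes]
  have : Algebra.FinitePresentation A (R' ⧸ K) :=
    Algebra.FinitePresentation.quotient (Submodule.fg_span (Set.finite_range t))
  refine ⟨R' ⧸ K, inferInstance, inferInstance, inferInstance, inferInstance, inferInstance, ?_⟩
  let e : (P ⧸ RingHom.ker φ) ≃ₐ[R' ⧸ K] B :=
    AlgEquiv.ofRingEquiv (f := (Ideal.quotientKerAlgEquivOfSurjective hφ).toRingEquiv) fun x => by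
      obtain ⟨x, rfl⟩ := Ideal.Quotient.mk_surjective x
      rfl
  have he := isPairHenselization_of_algEquiv e hquot
  rwa [Ideal.map_map, Ideal.map_map, RingHom.comp_assoc, ← IsScalarTower.algebraMap_eq A R R',
    ← Ideal.Quotient.algebraMap_eq, ← IsScalarTower.algebraMap_eq A R' (R' ⧸ K)] at he

end Groth.HensPair
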