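import Mathlib.AlgebraicGeometry.AffineScheme
import Mathlib.Geometry.RingedSpace.LocallyRingedSpace

/-! Idempotent global sections and clopen subsets of a locally ringed space. -/

set_option autoImplicit false
universe u

namespace Groth.HensPair.LRS

open AlgebraicGeometry CategoryTheory TopologicalSpace Opposite

variable {X : LocallyRingedSpace.{u}}

/-- The locus where a global function is invertible. -/
noncomputable def bo (a : (X.presheaf.obj (op (⊤ : Opens X)))) : Opens X := X.toRingedSpace.basicOpen a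

theorem mem_bo (a : (X.presheaf.obj (op (⊤ : Opens X)))) (x : X) (hx : x ∈ (⊤ : Opens X)) :
    x ∈ bo a ↔ IsUnit (X.presheaf.germ ⊤ x hx a) := X.toRingedSpace.mem_basicOpen a x hx

theorem germ_idem {a : (X.presheaf.obj (op (⊤ : Opens X)))} (ha : IsIdempotentElem a) (x : X) :
    X.presheaf.germ ⊤ x trivial a = 1 ∧ x ∈ bo a ∨
      X.presheaf.germ ⊤ x trivial a = 0 ∧ x ∉ bo a := by
  have hidem : IsIdempotentElem (X.presheaf.germ ⊤ x trivial a) := ha.map _
  rcases IsLocalRing.isUnit_or_isUnit_one_sub_self (X.presheaf.germ ⊤ x trivial a) with h | h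
  · exact .inl ⟨h.mul_left_cancel (by rw [hidem.eq, mul_one]), (mem_bo a x trivial).2 h⟩
  · have h0 : X.presheaf.germ ⊤ x trivial a = 0 := h.mul_left_cancel (by
      rw [sub_mul, one_mul, hidem.eq, sub_self, mul_zero])
    refine .inr ⟨h0, fun hx => ?_⟩
    have := (mem_bo a x trivial).1 hx
    rw [h0] at this
    exact not_isUnit_zero this

theorem isClopen_basicOpen {a : (X.presheaf.obj (op (⊤ : Opens X)))} (ha : IsIdempotentElem a) :
    IsClopen (bo a : Set X) := by
  refine ⟨⟨?_⟩, (bo a).2⟩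
  have h : (bo a : Set X)ᶜ = (bo (1 - a) : Set X) := by
    ext x
    rw [Set.mem_compl_iff, SetLike.mem_coe, SetLike.mem_coe, mem_bo (1 - a) x trivial, map_sub, map_one]
    rcases germ_idem ha x with ⟨h1, h2⟩ | ⟨h1, h2⟩
    · simp [h1, h2]
    · simp [h1, h2]
  rw [h]
  exact (bo (1 - a)).2

theorem eq_of_basicOpen_eq {a b : (X.presheaf.obj (op (⊤ : Opens X)))} (ha : IsIdempotentElem a) (hb : IsIdempotentElem b)
    (h : (bo a : Set X) = bo b) : a = b := by
  refine TopCat.Presheaf.section_ext X.sheaf ⊤ a b fun x hx => ?_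
  have h' : x ∈ bo a ↔ x ∈ bo b := Set.ext_iff.1 h x
  rcases germ_idem ha x with ⟨h1, h2⟩ | ⟨h1, h2⟩ <;> rcases germ_idem hb x with ⟨h3, h4⟩ | ⟨h3, h4⟩
  · exact h1.trans h3.symm
  · exact absurd (h'.1 h2) h4
  · exact absurd (h'.2 h4) h2
  · exact h1.trans h3.symm

theorem exists_idem_of_isClopen {U : Set X} (hU : IsClopen U) :
    ∃ a : (X.presheaf.obj (op (⊤ : Opens X))), IsIdempotentElem a ∧ (bo a : Set X) = U := by
  let W : Bool → Opens X := fun b => bif b then ⟨U, hU.2⟩ else ⟨Uᶜ, hU.1.isOpen_compl⟩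
  have hcov : ∀ x : X, ∃ b, x ∈ W b := fun x => by
    by_cases hx : x ∈ U
    · exact ⟨true, hx⟩
    · exact ⟨false, hx⟩
  obtain ⟨a, ha, -⟩ := X.sheaf.existsUnique_gluing' W ⊤ (fun b => homOfLE le_top)
    (fun x _ => Opens.mem_iSup.2 (hcov x)) (fun b => (bif b then 1 else 0 : (X.presheaf.obj (op (W b))))) (fun b c => by
      rcases b with _ | _ <;> rcases c with _ | _
      · exact (map_zero _).trans (map_zero _).symm
      · refine @Subsingleton.elim _ ?_ _ _
        rw [show W false ⊓ W true = ⊥ from SetLike.ext' (by simp [W])]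
        exact CommRingCat.subsingleton_of_isTerminal X.sheaf.isTerminalOfEmpty
      · refine @Subsingleton.elim _ ?_ _ _
        rw [show W true ⊓ W false = ⊥ from SetLike.ext' (by simp [W])]
        exact CommRingCat.subsingleton_of_isTerminal X.sheaf.isTerminalOfEmpty
      · exact (map_one _).trans (map_one _).symm)
  have hg : ∀ x b (hx : x ∈ W b), X.presheaf.germ ⊤ x trivial a =
      X.presheaf.germ (W b) x hx (bif b then 1 else 0) := fun x b hx => by
    rw [← ha b]
    exact (TopCat.Presheaf.germ_res_apply X.presheaf (homOfLE le_top) x hx a).symm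
  refine ⟨a, TopCat.Presheaf.section_ext X.sheaf ⊤ _ _ fun x hx => ?_, ?_⟩
  · show X.presheaf.germ ⊤ x trivial (a * a) = X.presheaf.germ ⊤ x trivial a
    obtain ⟨b, hb⟩ := hcov x
    refine (map_mul (X.presheaf.germ ⊤ x trivial).hom a a).trans ?_
    show X.presheaf.germ ⊤ x trivial a * X.presheaf.germ ⊤ x trivial a = X.presheaf.germ ⊤ x trivial a
    rw [hg x b hb]
    rcases b with _ | _ <;> simp
  · ext x
    rw [SetLike.mem_coe, mem_bo a x trivial]
    obtain ⟨b, hb⟩ := hcov x
    rw [hg x b hb]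
    rcases b with _ | _
    · exact iff_of_false (by simp) hb
    · exact iff_of_true (by simp) hb

end Groth.HensPair.LRS
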