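import Groth.Agent.HensPair.Basic
import Mathlib.RingTheory.Etale.StandardEtale
import Mathlib.RingTheory.Unramified.Finite
import Mathlib.RingTheory.TensorProduct.Maps

/-!
# Etale neighbourhoods of a pair

`IsNbhd A I A'`: `A'` is an etale `A`-algebra with `A ⧸ I → A' ⧸ I A'` bijective, recorded as an
`A`-algebra map `A' → A ⧸ I` together with surjectivity of `A → A' ⧸ I A'`.
We show that they are closed under tensor products, coequalizing and the basic Hensel extension.
-/

namespace Groth.HensPair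

universe u

open TensorProduct Polynomial

variable {A : Type u} [CommRing A] (I : Ideal A)

/-- An etale neighbourhood of the pair `(A, I)`. -/
structure IsNbhd (A' : Type u) [CommRing A'] [Algebra A A'] : Prop where
  etale : Algebra.Etale A A'
  exists_hom : Nonempty (A' →ₐ[A] A ⧸ I)
  surj : ∀ x : A', ∃ a : A, x - algebraMap A A' a ∈ I.map (algebraMap A A')

variable {I}
variable {A' : Type u} [CommRing A'] [Algebra A A']

theorem algHom_map_le {B : Type u} [CommRing B] [Algebra A B] (f : A' →ₐ[A] B) {x : A'}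
    (hx : x ∈ I.map (algebraMap A A')) : f x ∈ I.map (algebraMap A B) := by
  have := Ideal.mem_map_of_mem f.toRingHom hx
  rwa [Ideal.map_map, AlgHom.toRingHom_eq_coe, f.comp_algebraMap] at this

theorem algHom_quotient_eq_zero (σ : A' →ₐ[A] A ⧸ I) {x : A'}
    (hx : x ∈ I.map (algebraMap A A')) : σ x = 0 := by
  have := algHom_map_le σ hx
  rw [show algebraMap A (A ⧸ I) = Ideal.Quotient.mk I from rfl, Ideal.map_quotient_self] at this
  simpa using this

theorem IsNbhd.bijective (h : IsNbhd I A') : Function.Bijective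
    (Ideal.quotientMap (I.map (algebraMap A A')) (algebraMap A A') Ideal.le_comap_map) := by
  obtain ⟨σ⟩ := h.exists_hom
  constructor
  · rw [injective_iff_map_eq_zero]
    intro y hy
    obtain ⟨a, rfl⟩ := Ideal.Quotient.mk_surjective y
    rw [Ideal.quotientMap_mk, Ideal.Quotient.eq_zero_iff_mem] at hy
    have := algHom_quotient_eq_zero σ hy
    rwa [σ.commutes] at this
  · intro y
    obtain ⟨x, rfl⟩ := Ideal.Quotient.mk_surjective y
    obtain ⟨a, ha⟩ := h.surj x
    exact ⟨Ideal.Quotient.mk I a, by rw [Ideal.quotientMap_mk]; exact (Ideal.Quotient.eq.2 ha).symm⟩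

/-- An etale algebra with `A ⧸ I → A' ⧸ I A'` bijective is an etale neighbourhood. -/
theorem IsNbhd.of_bijective [Algebra.Etale A A'] (h : Function.Bijective
    (Ideal.quotientMap (I.map (algebraMap A A')) (algebraMap A A') Ideal.le_comap_map)) :
    IsNbhd I A' := by
  let e := RingEquiv.ofBijective _ h
  refine ⟨inferInstance, ⟨{ (e.symm : A' ⧸ I.map (algebraMap A A') →+* A ⧸ I).comp
    (Ideal.Quotient.mk _) with commutes' := fun a => ?_ }⟩, fun x => ?_⟩
  · show e.symm (Ideal.Quotient.mk _ (algebraMap A A' a)) = Ideal.Quotient.mk I a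
    rw [RingEquiv.symm_apply_eq]
    exact (Ideal.quotientMap_mk (H := Ideal.le_comap_map)).symm
  · obtain ⟨y, hy⟩ := h.2 (Ideal.Quotient.mk _ x)
    obtain ⟨a, rfl⟩ := Ideal.Quotient.mk_surjective y
    rw [Ideal.quotientMap_mk] at hy
    exact ⟨a, Ideal.Quotient.eq.1 hy.symm⟩

theorem isNbhd_self : IsNbhd I A :=
  ⟨inferInstance, ⟨Ideal.Quotient.mkₐ A I⟩, fun x => ⟨x, by simp⟩⟩

theorem IsNbhd.of_algEquiv (h : IsNbhd I A') {B : Type u} [CommRing B] [Algebra A B]
    (e : A' ≃ₐ[A] B) : IsNbhd I B := by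
  have := h.etale
  refine ⟨Algebra.Etale.of_equiv e, ⟨h.exists_hom.some.comp e.symm.toAlgHom⟩, fun x => ?_⟩
  obtain ⟨a, ha⟩ := h.surj (e.symm x)
  exact ⟨a, by simpa using algHom_map_le e.toAlgHom ha⟩

/-- Two etale neighbourhoods have a common refinement, their tensor product. -/
theorem IsNbhd.tensor (h : IsNbhd I A') {B : Type u} [CommRing B] [Algebra A B]
    (hB : IsNbhd I B) : IsNbhd I (A' ⊗[A] B) := by
  have := h.etale
  have := hB.etale
  refine ⟨Algebra.Etale.comp A A' (A' ⊗[A] B), ⟨Algebra.TensorProduct.lift h.exists_hom.some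
    hB.exists_hom.some fun _ _ => Commute.all _ _⟩, fun z => ?_⟩
  induction z with
  | zero => exact ⟨0, by simp⟩
  | add z₁ z₂ h₁ h₂ =>
    obtain ⟨a₁, h₁⟩ := h₁
    obtain ⟨a₂, h₂⟩ := h₂
    exact ⟨a₁ + a₂, by rw [map_add, add_sub_add_comm]; exact add_mem h₁ h₂⟩
  | tmul x y =>
    obtain ⟨a, ha⟩ := h.surj x
    obtain ⟨b, hb⟩ := hB.surj y
    refine ⟨a * b, ?_⟩
    have h₁ := algHom_map_le (Algebra.TensorProduct.includeLeft : A' →ₐ[A] A' ⊗[A] B) ha
    have h₂ := algHom_map_le (Algebra.TensorProduct.includeRight : B →ₐ[A] A' ⊗[A] B) hb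
    rw [map_sub, AlgHom.commutes] at h₁ h₂
    have : x ⊗ₜ[A] y - algebraMap A (A' ⊗[A] B) (a * b) =
        (x ⊗ₜ[A] 1 - algebraMap A _ a) * ((1 : A') ⊗ₜ[A] y) +
        algebraMap A _ a * ((1 : A') ⊗ₜ[A] y - algebraMap A _ b) := by
      rw [sub_mul, mul_sub, Algebra.TensorProduct.tmul_mul_tmul, one_mul, mul_one, map_mul]
      ring
    rw [this]
    exact add_mem (Ideal.mul_mem_right _ _ h₁) (Ideal.mul_mem_left _ _ h₂)

/-- Etale neighbourhoods compose. -/
theorem IsNbhd.trans (h : IsNbhd I A') {B : Type u} [CommRing B] [Algebra A' B] [Algebra A B]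
    [IsScalarTower A A' B] (hB : IsNbhd (I.map (algebraMap A A')) B) : IsNbhd I B := by
  have := h.etale
  have := hB.etale
  have hI : (I.map (algebraMap A A')).map (algebraMap A' B) = I.map (algebraMap A B) := by
    rw [Ideal.map_map, ← IsScalarTower.algebraMap_eq]
  refine ⟨Algebra.Etale.comp A A' B, ?_, fun x => ?_⟩
  · obtain ⟨σ⟩ := h.exists_hom
    obtain ⟨τ⟩ := hB.exists_hom
    exact ⟨(Ideal.Quotient.liftₐ _ σ fun a ha => algHom_quotient_eq_zero σ ha).comp
      (τ.restrictScalars A)⟩
  · obtain ⟨a', ha'⟩ := hB.surj x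
    obtain ⟨a, ha⟩ := h.surj a'
    refine ⟨a, ?_⟩
    rw [hI] at ha'
    have := algHom_map_le (IsScalarTower.toAlgHom A A' B) ha
    rw [map_sub, AlgHom.commutes] at this
    have h3 := add_mem ha' this
    rwa [IsScalarTower.coe_toAlgHom', sub_add_sub_cancel] at h3

/-- Inverting an element congruent to `1` gives an etale neighbourhood. -/
theorem isNbhd_away {e : A} (he : e - 1 ∈ I) (B : Type u) [CommRing B] [Algebra A B]
    [IsLocalization.Away e B] : IsNbhd I B :=
  have := Algebra.Etale.of_isLocalizationAway (R := A) (A := B) e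
  .of_bijective (quotientMap_away_bijective I he B)

/-- Two maps between etale neighbourhoods become equal after a further localization. -/
theorem IsNbhd.exists_coequalizer (h : IsNbhd I A') {B : Type u} [CommRing B] [Algebra A B]
    (hB : IsNbhd I B) (f g : A' →ₐ[A] B) :
    ∃ e : B, e - 1 ∈ I.map (algebraMap A B) ∧ IsNbhd I (Localization.Away e) ∧
      (IsScalarTower.toAlgHom A B (Localization.Away e)).comp f =
        (IsScalarTower.toAlgHom A B (Localization.Away e)).comp g := by
  have := h.etale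
  set L := Algebra.TensorProduct.lift f g fun _ _ => Commute.all _ _
  set e := L (Algebra.FormallyUnramified.elem A A')
  have hcong : ∀ x : A', Ideal.Quotient.mkₐ A (I.map (algebraMap A B)) (f x) =
      Ideal.Quotient.mkₐ A (I.map (algebraMap A B)) (g x) := by
    intro x
    obtain ⟨a, ha⟩ := h.surj x
    have h1 := algHom_map_le f ha
    have h2 := algHom_map_le g ha
    rw [map_sub, AlgHom.commutes] at h1 h2
    refine Ideal.Quotient.eq.2 ?_
    simpa using sub_mem h1 h2
  have he : e - 1 ∈ I.map (algebraMap A B) := by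
    have : (Ideal.Quotient.mkₐ A (I.map (algebraMap A B))).comp L =
        ((Ideal.Quotient.mkₐ A (I.map (algebraMap A B))).comp f).comp
          (Algebra.TensorProduct.lmul' A) := by
      refine Algebra.TensorProduct.ext (AlgHom.ext fun x => ?_) (AlgHom.ext fun x => ?_)
      · simp [L]
      · simpa [L] using (hcong x).symm
    have := DFunLike.congr_fun this (Algebra.FormallyUnramified.elem A A')
    simp only [AlgHom.comp_apply, Algebra.FormallyUnramified.lmul_elem, map_one] at this
    rwa [← map_one (Ideal.Quotient.mkₐ A (I.map (algebraMap A B))), Ideal.Quotient.mkₐ_eq_mk,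
      Ideal.Quotient.eq] at this
  refine ⟨e, he, hB.trans (isNbhd_away he _), AlgHom.ext fun x => ?_⟩
  have h0 : (g x - f x) * e = 0 := by
    have := congr(L $(Algebra.FormallyUnramified.one_tmul_sub_tmul_one_mul_elem (R := A) x))
    simpa [L, e] using this
  show algebraMap B (Localization.Away e) (f x) = algebraMap B (Localization.Away e) (g x)
  refine (IsLocalization.eq_iff_exists (Submonoid.powers e) _).2
    ⟨⟨e, Submonoid.mem_powers e⟩, ?_⟩
  show e * f x = e * g x
  linear_combination -h0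

/-- The basic Hensel extension: adjoin a root lifting a simple root modulo `I`. -/
theorem exists_isNbhd_isRoot {f : A[X]} (hf : f.Monic) {a₀ : A} (h₁ : f.eval a₀ ∈ I)
    (h₂ : IsUnit (Ideal.Quotient.mk I (f.derivative.eval a₀))) :
    ∃ P : StandardEtalePair A, IsNbhd I P.Ring ∧ aeval P.X f = 0 ∧
      P.X - algebraMap A P.Ring a₀ ∈ I.map (algebraMap A P.Ring) := by
  set q := f /ₘ (X - C a₀) with hq
  have hdiv : C (f.eval a₀) + (X - C a₀) * q = f := by
    rw [← modByMonic_X_sub_C_eq_C_eval]; exact modByMonic_add_div f (X - C a₀)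
  have hqa : f.derivative.eval a₀ = q.eval a₀ := by
    conv_lhs => rw [← hdiv]
    simp
  let P : StandardEtalePair A := ⟨f, hf, f.derivative * q, q, 0, 1, by ring⟩
  set J := I.map (algebraMap A P.Ring)
  have haev : ∀ (p : A[X]) (T : Type u) [CommRing T] [Algebra A T] (a : A),
      aeval (algebraMap A T a) p = algebraMap A T (p.eval a) :=
    fun p T _ _ a => aeval_algebraMap_apply_eq_algebraMap_eval a p
  have hmap : P.HasMap (Ideal.Quotient.mk I a₀) := by
    constructor
    · exact (haev f (A ⧸ I) a₀).trans (Ideal.Quotient.eq_zero_iff_mem.2 h₁)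
    · refine (haev _ (A ⧸ I) a₀).symm ▸ ?_
      show IsUnit (Ideal.Quotient.mk I ((f.derivative * q).eval a₀))
      rw [eval_mul, map_mul, ← hqa]; exact h₂.mul h₂
  have hX0 : aeval P.X f = 0 := P.hasMap_X.1
  have hqu : IsUnit (aeval P.X q) := by
    have : IsUnit (aeval P.X (f.derivative * q)) := P.hasMap_X.2
    rw [map_mul] at this
    exact isUnit_of_mul_isUnit_right this
  have hX : P.X - algebraMap A P.Ring a₀ ∈ J := by
    obtain ⟨u, hu⟩ := hqu
    have h := congr(aeval P.X $hdiv)
    rw [hX0, map_add, map_mul, map_sub, aeval_X, aeval_C, aeval_C, ← hu] at h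
    have hmem : (P.X - algebraMap A P.Ring a₀) * u ∈ J := by
      rw [eq_neg_of_add_eq_zero_right h]
      exact neg_mem (Ideal.mem_map_of_mem _ h₁)
    simpa using Ideal.mul_mem_right ((u⁻¹ : (P.Ring)ˣ) : P.Ring) J hmem
  refine ⟨P, ⟨inferInstance, ⟨P.lift _ hmap⟩, fun x => ?_⟩, hX0, hX⟩
  let S : Subalgebra A P.Ring :=
    { carrier := {x | ∃ a : A, x - algebraMap A P.Ring a ∈ J}
      mul_mem' := by
        rintro x y ⟨a, ha⟩ ⟨b, hb⟩
        refine ⟨a * b, ?_⟩
        have : x * y - algebraMap A P.Ring (a * b) =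
            (x - algebraMap A P.Ring a) * y + algebraMap A P.Ring a * (y - algebraMap A P.Ring b) := by
          rw [map_mul]; ring
        rw [this]
        exact add_mem (Ideal.mul_mem_right _ _ ha) (Ideal.mul_mem_left _ _ hb)
      add_mem' := by
        rintro x y ⟨a, ha⟩ ⟨b, hb⟩
        exact ⟨a + b, by rw [map_add, add_sub_add_comm]; exact add_mem ha hb⟩
      algebraMap_mem' := fun a => ⟨a, by simp⟩ }
  let x₀ : S := ⟨P.X, a₀, hX⟩
  have hgS : P.HasMap x₀ := by
    refine ⟨Subtype.ext ?_, ?_⟩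
    · rw [aeval_subalgebra_coe]; exact hX0
    · obtain ⟨w, hw⟩ := P.hasMap_X.2
      have hu2 : IsUnit (Ideal.Quotient.mk I (P.g.eval a₀)) := by
        rw [eval_mul, map_mul, ← hqa]; exact h₂.mul h₂
      obtain ⟨b, hb⟩ := isUnit_iff_exists_inv.1 hu2
      obtain ⟨b, rfl⟩ := Ideal.Quotient.mk_surjective b
      rw [← map_mul, ← map_one (Ideal.Quotient.mk I), Ideal.Quotient.eq] at hb
      have h1 : (w : P.Ring) - algebraMap A P.Ring (P.g.eval a₀) ∈ J := by
        rw [hw, ← haev P.g P.Ring a₀]
        simp only [aeval_def, ← eval_map]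
        exact Ideal.mem_of_dvd _ (Polynomial.sub_dvd_eval_sub _ _ _) hX
      have h2 : algebraMap A P.Ring (P.g.eval a₀) * algebraMap A P.Ring b - 1 ∈ J := by
        rw [← map_mul, ← map_one (algebraMap A P.Ring), ← map_sub]; exact Ideal.mem_map_of_mem _ hb
      have hinv : ((w⁻¹ : (P.Ring)ˣ) : P.Ring) - algebraMap A P.Ring b ∈ J := by
        have : ((w⁻¹ : (P.Ring)ˣ) : P.Ring) - algebraMap A P.Ring b =
            -(((w⁻¹ : (P.Ring)ˣ) : P.Ring) * ((w : P.Ring) - algebraMap A P.Ring (P.g.eval a₀)) *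
              algebraMap A P.Ring b) -
            ((w⁻¹ : (P.Ring)ˣ) : P.Ring) *
              (algebraMap A P.Ring (P.g.eval a₀) * algebraMap A P.Ring b - 1) := by
          linear_combination algebraMap A P.Ring b * w.inv_mul
        rw [this]
        exact sub_mem (neg_mem (Ideal.mul_mem_right _ _ (Ideal.mul_mem_left _ _ h1)))
          (Ideal.mul_mem_left _ _ h2)
      refine isUnit_iff_exists_inv.2 ⟨⟨_, b, hinv⟩, Subtype.ext ?_⟩
      push_cast
      rw [show ((x₀ : S) : P.Ring) = P.X from rfl, ← hw]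
      exact w.mul_inv
  have hid : S.val.comp (P.lift x₀ hgS) = AlgHom.id A P.Ring := by
    refine P.hom_ext ?_
    simp [x₀]
  have hx : ((P.lift x₀ hgS x : S) : P.Ring) = x := DFunLike.congr_fun hid x
  have hmem : ((P.lift x₀ hgS x : S) : P.Ring) ∈ S := (P.lift x₀ hgS x).2
  rw [hx] at hmem
  exact hmem

end Groth.HensPair
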