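import Mathlib.RingTheory.AdicCompletion.Basic
import Mathlib.Algebra.Polynomial.Identities
import Mathlib.RingTheory.Ideal.Quotient.Operations
import Mathlib.Algebra.Polynomial.Div
import Mathlib.Tactic

/-! Newton's lemma in a complete ring. -/

set_option autoImplicit false
universe u

namespace Groth.HensPair

open Polynomial

/-- If `g c = g'(c) ^ 2 * r` with `r ∈ I ^ j`, `j ≥ 1`, then `g` has a root congruent to `c` modulo `I ^ j`. -/
theorem exists_root_of_eq_sq_mul {C : Type u} [CommRing C] (I : Ideal C) [IsAdicComplete I C]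
    (g : C[X]) (c r : C) {j : ℕ} (hj : 1 ≤ j) (hr : r ∈ I ^ j) (hg : g.eval c = g.derivative.eval c ^ 2 * r) :
    ∃ L, g.eval L = 0 ∧ L - c ∈ I ^ j := by
  set a := g.derivative.eval c
  let P : ℕ → C → Prop := fun n x =>
    (∃ y ∈ I ^ j, x - c = a * y) ∧ ∃ s ∈ I ^ (j + n), g.eval x = a ^ 2 * s
  have step : ∀ n x, P n x → ∃ x', P (n + 1) x' ∧ x' - x ∈ I ^ (j + n) := by
    rintro n x ⟨⟨y, hy, hxy⟩, s, hs, hgx⟩
    obtain ⟨k, hk⟩ := g.binomExpansion x (-(a * s))
    obtain ⟨z, hz⟩ := sub_dvd_eval_sub x c g.derivative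
    refine ⟨x + -(a * s), ⟨⟨y - s, sub_mem hy (Ideal.pow_le_pow_right (by omega) hs), by linear_combination hxy⟩,
      s * (-(y * z)) + k * s ^ 2, ?_, ?_⟩, by simpa using (I ^ (j + n)).mul_mem_left a hs⟩
    · refine add_mem ?_ ?_
      · rw [show j + (n + 1) = (j + n) + 1 by omega, pow_succ]
        exact Ideal.mul_mem_mul hs (neg_mem (Ideal.mul_mem_right _ _ (Ideal.pow_le_self (by omega) hy)))
      · refine Ideal.mul_mem_left _ _ (Ideal.pow_le_pow_right (show j + (n + 1) ≤ (j + n) * 2 by omega) ?_)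
        rw [pow_mul]
        exact Ideal.pow_mem_pow hs 2
    · rw [hk, hgx, show g.derivative.eval x = a + (x - c) * z by linear_combination hz, hxy]
      ring
  choose next hnext hdiff using step
  let seq : (n : ℕ) → {x : C // P n x} := fun n =>
    n.rec ⟨c, ⟨0, zero_mem _, by simp⟩, r, by simpa using hr, hg⟩ fun n x => ⟨next n x.1 x.2, hnext n x.1 x.2⟩
  have hcauchy : ∀ {p q}, p ≤ q → (seq p).1 - (seq q).1 ∈ I ^ p := by
    intro p q hpq
    induction q, hpq using Nat.le_induction with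
    | base => simp
    | succ q hpq ih =>
      have h1 : (seq q).1 - (seq (q + 1)).1 ∈ I ^ p := by
        rw [← neg_sub]
        exact neg_mem (Ideal.pow_le_pow_right (by omega) (hdiff q _ (seq q).2))
      have h2 := add_mem ih h1
      rwa [sub_add_sub_cancel] at h2
  obtain ⟨L, hL⟩ := IsPrecomplete.prec (I := I) (M := C) inferInstance (f := fun n => (seq n).1)
    (fun {p q} hpq => by rw [SModEq.sub_mem, smul_eq_mul, Ideal.mul_top]; exact hcauchy hpq)
  have hL' : ∀ n, (seq n).1 - L ∈ I ^ n := fun n => by simpa [SModEq.sub_mem] using hL n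
  refine ⟨L, IsHausdorff.haus' (I := I) _ fun n => ?_, ?_⟩
  · rw [SModEq.zero, smul_eq_mul, Ideal.mul_top]
    obtain ⟨s, hs, hgs⟩ := (seq n).2.2
    rw [show g.eval L = g.eval (seq n).1 - (g.eval (seq n).1 - g.eval L) by ring]
    refine sub_mem (hgs ▸ Ideal.mul_mem_left _ _ (Ideal.pow_le_pow_right (by omega) hs)) ?_
    exact Ideal.mem_of_dvd _ (sub_dvd_eval_sub _ _ _) (hL' n)
  · obtain ⟨y, hy, hxy⟩ := (seq j).2.1
    rw [show L - c = ((seq j).1 - c) - ((seq j).1 - L) by ring, hxy]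
    exact sub_mem (Ideal.mul_mem_left _ _ hy) (hL' j)

end Groth.HensPair
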