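import Mathlib.FieldTheory.PurelyInseparable.Basic
import Mathlib.FieldTheory.Galois.Basic
import Mathlib.FieldTheory.IsSepClosed
import Mathlib.RingTheory.Ideal.GoingUp
import Mathlib.RingTheory.Spectrum.Maximal.Defs
import Mathlib.LinearAlgebra.FreeModule.Finite.Matrix

/-! Maximal ideals of an integral closure over a unibranch base: at most the separable degree. -/

set_option autoImplicit false
universe u

namespace Groth.HensPair

variable {O K : Type u} [CommRing O] [Field K] [Algebra O K]

/-- Galois conjugation is transitive on maximal ideals when the base integral closure is local. -/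
theorem exists_algEquiv_comap_eq {L : Type u} [Field L] [Algebra K L] [Algebra O L] [IsScalarTower O K L]
    [IsGalois K L] [FiniteDimensional K L] (hloc : IsLocalRing (integralClosure O K))
    (P₁ P₂ : Ideal (integralClosure O L)) (h₁ : P₁.IsMaximal) (h₂ : P₂.IsMaximal) :
    ∃ g : L ≃ₐ[K] L, ∀ x : integralClosure O L,
      x ∈ P₁ ↔ (⟨g x.1, x.2.map (g.restrictScalars O).toAlgHom⟩ : integralClosure O L) ∈ P₂ := by
  classical
  let D := integralClosure O L
  let c : (L ≃ₐ[K] L) → D →+* D := fun g =>
    ((g.restrictScalars O).toAlgHom.comp D.val).toRingHom.codRestrict D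
      fun x => x.2.map (g.restrictScalars O).toAlgHom
  let ι : integralClosure O K →+* D :=
    ((IsScalarTower.toAlgHom O K L).comp (integralClosure O K).val).toRingHom.codRestrict D
      fun x => x.2.map (IsScalarTower.toAlgHom O K L)
  have hι : ∀ P : Ideal D, P.IsMaximal → P.comap ι = IsLocalRing.maximalIdeal (integralClosure O K) := by
    intro P hP
    have : (P.comap ι).IsPrime := Ideal.IsPrime.comap ι
    refine IsLocalRing.eq_maximalIdeal (Ideal.isMaximal_of_isIntegral_of_isMaximal_comap (R := O) _ ?_)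
    have h : (P.comap ι).comap (algebraMap O (integralClosure O K)) = P.comap (algebraMap O D) := by
      rw [Ideal.comap_comap]
      congr 1
      exact RingHom.ext fun a => Subtype.ext (IsScalarTower.algebraMap_apply O K L a).symm
    rw [h]
    exact Ideal.isMaximal_comap_of_isIntegral_of_isMaximal P
  have hcov : (P₁ : Set D) ⊆ ⋃ g ∈ (↑(Finset.univ : Finset (L ≃ₐ[K] L)) : Set (L ≃ₐ[K] L)), P₂.comap (c g) := by
    intro x hx
    let N : L := ∏ g : L ≃ₐ[K] L, g x.1
    obtain ⟨z, hz⟩ := (IsGalois.mem_range_algebraMap_iff_fixed N).2 fun h => by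
      simp only [N, map_prod]
      exact Fintype.prod_equiv (Equiv.mulLeft h) _ _ fun g => rfl
    have hNmem : (∏ g : L ≃ₐ[K] L, c g x) ∈ P₁ := by
      refine Ideal.IsPrime.prod_mem_iff.2 ⟨1, Finset.mem_univ _, ?_⟩
      rwa [show c 1 x = x from Subtype.ext rfl]
    have hN : ((∏ g : L ≃ₐ[K] L, c g x : D) : L) = N :=
      (map_prod (D.val) (fun g => c g x) Finset.univ)
    have hzint : IsIntegral O z :=
      (isIntegral_algHom_iff (IsScalarTower.toAlgHom O K L) (algebraMap K L).injective).1
        (show IsIntegral O (algebraMap K L z) from hz.trans hN.symm ▸ (∏ g : L ≃ₐ[K] L, c g x).2)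
    have hzD : ι ⟨z, hzint⟩ = ∏ g : L ≃ₐ[K] L, c g x := Subtype.ext (hz.trans hN.symm)
    have h₂' : (∏ g : L ≃ₐ[K] L, c g x) ∈ P₂ := by
      rw [← hzD, ← Ideal.mem_comap, hι P₂ h₂, ← hι P₁ h₁, Ideal.mem_comap, hzD]
      exact hNmem
    obtain ⟨g, -, hg⟩ := Ideal.IsPrime.prod_mem_iff.1 h₂'
    exact Set.mem_iUnion₂.2 ⟨g, Finset.mem_coe.2 (Finset.mem_univ g), hg⟩
  obtain ⟨g, -, hg⟩ := (Ideal.subset_union_prime 1 1 fun g _ _ _ => Ideal.IsPrime.comap (c g)).1 hcov
  have : P₁ = P₂.comap (c g) := h₁.eq_of_le (Ideal.IsPrime.comap (c g)).ne_top hg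
  exact ⟨g, fun x => by rw [this]; rfl⟩

/-- The maximal ideals of the integral closure in an algebraic extension number at most its separable degree. -/
theorem natCard_maximalSpectrum_le_finSepDegree {M : Type u} [Field M] [Algebra K M] [Algebra O M]
    [IsScalarTower O K M] [Algebra.IsAlgebraic K M] (hloc : IsLocalRing (integralClosure O K))
    (hn : 0 < Field.finSepDegree K M) :
    Finite (MaximalSpectrum (integralClosure O M)) ∧
      Nat.card (MaximalSpectrum (integralClosure O M)) ≤ Field.finSepDegree K M := by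
  classical
  let F := separableClosure K M
  have hfr : Module.finrank K F = Field.finSepDegree K M := (Field.finSepDegree_eq K M).symm
  have : FiniteDimensional K F := Module.finite_of_finrank_pos (hfr ▸ hn)
  let σ₀ : F →ₐ[K] SeparableClosure K := IsSepClosed.lift
  let L := IntermediateField.normalClosure K F (SeparableClosure K)
  let σ : F →ₐ[K] L := σ₀.codRestrict L.toSubalgebra fun x => σ₀.fieldRange_le_normalClosure ⟨x, rfl⟩
  let D := integralClosure O L
  let C := integralClosure O M
  let CF := integralClosure O F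
  let j : (F →ₐ[K] L) → CF →+* D := fun τ =>
    ((τ.restrictScalars O).comp CF.val).toRingHom.codRestrict D fun x => x.2.map (τ.restrictScalars O)
  let inc : CF →+* C :=
    ((F.val.restrictScalars O).comp CF.val).toRingHom.codRestrict C fun x => x.2.map (F.val.restrictScalars O)
  have hσinj : Function.Injective (j σ) := fun x y h => Subtype.ext (σ.injective (congrArg Subtype.val h))
  have hjint : (j σ).IsIntegral := by
    refine RingHom.IsIntegral.tower_top (algebraMap O CF) (j σ) ?_
    have h : (j σ).comp (algebraMap O CF) = algebraMap O D :=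
      RingHom.ext fun a => Subtype.ext ((σ.restrictScalars O).commutes a)
    rw [h]
    exact fun x => Algebra.IsIntegral.isIntegral x
  have hlift : ∀ Q : Ideal C, Q.IsMaximal → ∃ P : Ideal D, P.IsMaximal ∧ P.comap (j σ) = Q.comap inc := by
    intro Q hQ
    let _ : Algebra CF D := (j σ).toAlgebra
    have : Algebra.IsIntegral CF D := ⟨hjint⟩
    have : (Q.comap inc).IsPrime := Ideal.IsPrime.comap inc
    have hm : (Q.comap inc).IsMaximal := by
      refine Ideal.isMaximal_of_isIntegral_of_isMaximal_comap (R := O) _ ?_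
      have h : (Q.comap inc).comap (algebraMap O CF) = Q.comap (algebraMap O C) := by
        rw [Ideal.comap_comap]; rfl
      rw [h]
      exact Ideal.isMaximal_comap_of_isIntegral_of_isMaximal Q
    exact Ideal.exists_ideal_over_maximal_of_isIntegral (Q.comap inc)
      (by rw [show RingHom.ker (algebraMap CF D) = ⊥ from (RingHom.injective_iff_ker_eq_bot (j σ)).1 hσinj]
          exact bot_le)
  obtain ⟨P₀, hP₀⟩ : ∃ P₀ : Ideal D, P₀.IsMaximal := Ideal.exists_maximal D
  have hrep : ∀ Q : MaximalSpectrum C, ∃ τ : F →ₐ[K] L, P₀.comap (j τ) = Q.asIdeal.comap inc := by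
    intro Q
    obtain ⟨P, hP, hPQ⟩ := hlift Q.asIdeal Q.isMaximal
    obtain ⟨g, hg⟩ := exists_algEquiv_comap_eq hloc P P₀ hP hP₀
    refine ⟨g.toAlgHom.comp σ, ?_⟩
    rw [← hPQ]
    ext x
    exact (hg (j σ x)).symm
  choose τ hτ using hrep
  obtain ⟨q, hq⟩ := ExpChar.exists F
  have hinj : Function.Injective τ := by
    intro Q₁ Q₂ h
    have he : Q₁.asIdeal.comap inc = Q₂.asIdeal.comap inc := by rw [← hτ, ← hτ, h]
    refine MaximalSpectrum.ext (Ideal.ext fun x => ?_)
    obtain ⟨e, y, hy⟩ := (isPurelyInseparable_iff_pow_mem F q).1 inferInstance x.1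
    have hqe : q ^ e ≠ 0 := (expChar_pow_pos F q e).ne'
    have hyint : IsIntegral O y := (isIntegral_algHom_iff (F.val.restrictScalars O) Subtype.val_injective).1
      (show IsIntegral O (algebraMap F M y) from hy.symm ▸ x.2.pow _)
    have hx : x ^ q ^ e = inc ⟨y, hyint⟩ := Subtype.ext hy.symm
    rw [← Q₁.isMaximal.isPrime.pow_mem_iff_mem (q ^ e) (Nat.pos_of_ne_zero hqe),
      ← Q₂.isMaximal.isPrime.pow_mem_iff_mem (q ^ e) (Nat.pos_of_ne_zero hqe), hx]
    exact SetLike.ext_iff.1 he _
  have : Finite (F →ₐ[K] L) := inferInstance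
  exact ⟨Finite.of_injective τ hinj,
    (Nat.card_le_card_of_injective τ hinj).trans ((card_algHom_le_finrank K F L).trans hfr.le)⟩

end Groth.HensPair
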