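import Groth.Agent.HensPair.ProperClopenCor

/-!
The proper part of a separated scheme of finite type over a henselian pair: a clopen of the closed
fibre proper over the base lifts to a clopen proper over the base, by Chow's lemma.
-/

set_option autoImplicit false
universe u

open CategoryTheory CategoryTheory.Limits AlgebraicGeometry TopologicalSpace

namespace Groth.HensPair

variable {A : Type u} [CommRing A]

theorem exists_proper_clopen (hPF : CohFin.ProjFinite.{u}) (I : Ideal A) [HenselianRing A I]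
    {X : Scheme.{u}} (f : X ⟶ Spec (CommRingCat.of A)) [IsSeparated f] [LocallyOfFiniteType f]
    [QuasiCompact f] {Z : Scheme.{u}} (q : Z ⟶ X) [IsClosedImmersion q]
    (hq : Set.range q.base = overV f I) (Y : Z.Opens) (hYp : IsProper (Y.ι ≫ q ≫ f)) :
    ∃ W : X.Opens, IsClosed (W : Set X) ∧ IsProper (W.ι ≫ f) ∧ q ⁻¹ᵁ W = Y := by
  classical
  have hjac : I ≤ Ideal.jacobson ⊥ := HenselianRing.jac
  have : CompactSpace X := QuasiCompact.compactSpace_of_compactSpace f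
  have : QuasiSeparatedSpace X := quasiSeparatedSpace_of_quasiSeparated f
  obtain ⟨N, X', π, j, hj, hjb, hπ, hπs⟩ := Chow.exists_chow_general f
  let PN : Scheme.{u} := CohB1.ProjSpaceOver N (Spec (CommRingCat.of A))
  let a : PN ⟶ Spec (CommRingCat.of A) := CohB1.ProjSpaceOver.toBase N (Spec (CommRingCat.of A))
  have : IsProper a := Groth.Variety2.isProper_projSpaceOver_toBase N (Spec (CommRingCat.of A))
  have hjinj : Function.Injective j := j.isEmbedding.injective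
  have hov : ∀ x, j x ∈ overV a I ↔ π x ∈ overV f I := fun x => by
    have h : a (j x) = f (π x) := congr($(hjb) x)
    show (I : Set A) ⊆ (a (j x)).asIdeal ↔ (I : Set A) ⊆ (f (π x)).asIdeal
    rw [h]
  let qY : Set X := q '' (Y : Set Z)
  let Y' : Set X' := π.base ⁻¹' qY
  have hqY : qY ⊆ overV f I := hq ▸ Set.image_subset_range _ _
  -- the image of the given clopen is closed in projective space
  have hY'c : IsClosed (j '' Y') := by
    let r : pullback π (Y.ι ≫ q) ⟶ PN := pullback.fst π (Y.ι ≫ q) ≫ j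
    have : IsProper (Y.ι ≫ q ≫ f) := hYp
    have : IsProper (r ≫ a) := by
      have h : r ≫ a = pullback.snd π (Y.ι ≫ q) ≫ Y.ι ≫ q ≫ f := by
        simp only [r, a, Category.assoc, hjb]
        rw [← Category.assoc, pullback.condition, Category.assoc, Category.assoc]
      rw [h]
      have : IsProper (pullback.snd π (Y.ι ≫ q)) := MorphismProperty.pullback_snd _ _ hπ
      infer_instance
    have : IsProper r := IsProper.of_comp r a
    have hr : Set.range r = j '' Y' := by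
      have h1 : Set.range (Y.ι ≫ q).base = qY := by
        show Set.range (q ∘ Y.ι) = q '' (Y : Set Z)
        rw [Set.range_comp, Scheme.Opens.range_ι]
      show Set.range (j ∘ pullback.fst π (Y.ι ≫ q)) = _
      rw [Set.range_comp, Scheme.Pullback.range_fst, h1]
    exact hr ▸ r.isClosedMap.isClosed_range
  -- an open of projective space cutting out the given clopen
  obtain ⟨O, hO, hOY⟩ := q.isClosedEmbedding.isEmbedding.isInducing.isOpen_iff.1 Y.2
  obtain ⟨O₂, hO₂, hO₂Y⟩ := j.isEmbedding.isInducing.isOpen_iff.1 (hO.preimage π.continuous)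
  let O₃ : Set PN := O₂ ∩ coborder (Set.range j)
  have hO₃ : IsOpen O₃ := hO₂.inter j.isLocallyClosed_range.isOpen_coborder
  let T : Closeds PN := ⟨closure (Set.range j), isClosed_closure⟩
  have hO₃Y : ∀ y ∈ (T : Set PN), y ∈ overV a I → (y ∈ O₃ ↔ y ∈ j '' Y') := by
    intro y hyT hyI
    constructor
    · rintro ⟨hy2, hyc⟩
      have hyr : y ∈ Set.range j := by
        by_contra h
        exact hyc ⟨hyT, h⟩
      obtain ⟨x, rfl⟩ := hyr
      obtain ⟨z, hz⟩ := hq.ge ((hov x).1 hyI)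
      have hxO : π x ∈ O := hO₂Y.le hy2
      exact ⟨x, ⟨z, hOY.le (by rw [Set.mem_preimage, hz]; exact hxO), hz⟩, rfl⟩
    · rintro ⟨x, ⟨z, hz, hzx⟩, rfl⟩
      refine ⟨hO₂Y.ge ?_, subset_coborder ⟨x, rfl⟩⟩
      show π x ∈ O
      rw [← hzx]
      exact hOY.ge hz
  let 𝓘 := Scheme.IdealSheafData.vanishingIdeal T
  let e : 𝓘.subscheme → PN := 𝓘.subschemeι
  have her : Set.range e = T := by
    show Set.range 𝓘.subschemeι = _
    rw [Scheme.IdealSheafData.range_subschemeι]; simp [𝓘]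
  have hecl : IsClosedMap e := 𝓘.subschemeι.isClosedEmbedding.isClosedMap
  obtain ⟨WT, hWT, hWTP⟩ := exists_clopen_of_proper hPF I (𝓘.subschemeι ≫ a)
    (overV (𝓘.subschemeι ≫ a) I ∩ e ⁻¹' (j '' Y')) (overV (𝓘.subschemeι ≫ a) I ∩ e ⁻¹' O₃ᶜ)
    ((isClosed_overV _ _).inter (hY'c.preimage 𝓘.subschemeι.continuous))
    ((isClosed_overV _ _).inter (hO₃.isClosed_compl.preimage 𝓘.subschemeι.continuous))
    (Set.eq_empty_iff_forall_notMem.2 fun z ⟨⟨hz, h1⟩, _, h2⟩ =>
      h2 ((hO₃Y _ (her.le ⟨z, rfl⟩) hz).2 h1))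
    (Set.Subset.antisymm (fun z hz => hz.elim (·.1) (·.1)) fun z hz => by
      by_cases h : e z ∈ O₃
      · exact Or.inl ⟨hz, (hO₃Y _ (her.le ⟨z, rfl⟩) hz).1 h⟩
      · exact Or.inr ⟨hz, h⟩)
  let W₁ : Set PN := e '' WT
  let W₂ : Set PN := e '' WTᶜ
  have hW₁ : IsClosed W₁ := hecl _ hWT.1
  have hW₂ : IsClosed W₂ := hecl _ hWT.compl.1
  have hW₁I : W₁ ∩ overV a I ⊆ j '' Y' := by
    rintro _ ⟨⟨z, hz, rfl⟩, hzI⟩
    exact (hWTP.le ⟨hz, hzI⟩).2
  have hW₂I : ∀ y ∈ W₂, y ∈ overV a I → y ∉ j '' Y' := by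
    rintro _ ⟨z, hz, rfl⟩ hzI h
    exact hz (hWTP.ge ⟨hzI, h⟩).1
  -- the part over the clopen does not reach the boundary
  have hW₁j : W₁ ⊆ Set.range j := fun y hy => by
    have hyc : y ∈ coborder (Set.range j) := by
      by_contra h
      refine Set.eq_empty_iff_forall_notMem.1 (eq_empty_of_inter_overV a hjac
        (hW₁.inter j.isLocallyClosed_range.isOpen_coborder.isClosed_compl) ?_) y ⟨hy, h⟩
      refine Set.eq_empty_iff_forall_notMem.2 fun w ⟨⟨hw, hwc⟩, hwI⟩ => hwc ?_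
      exact subset_coborder (Set.image_subset_range _ _ (hW₁I ⟨hw, hwI⟩))
    have hyT : y ∈ closure (Set.range j) := by
      obtain ⟨z, -, rfl⟩ := hy
      exact her.le ⟨z, rfl⟩
    by_contra h
    exact hyc ⟨hyT, h⟩
  let A₁ : Set X := π '' (j.base ⁻¹' W₁)
  let A₂ : Set X := π '' (j.base ⁻¹' W₂)
  have hA₁ : IsClosed A₁ := π.isClosedMap _ (hW₁.preimage j.continuous)
  have hA₂ : IsClosed A₂ := π.isClosedMap _ (hW₂.preimage j.continuous)
  have hsep : ∀ x, j x ∈ W₁ → π x ∉ A₂ := by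
    obtain ⟨C, hC, hCA⟩ := j.isEmbedding.isInducing.isClosed_iff.1 (hA₂.preimage π.continuous)
    intro x hx hxA
    refine Set.eq_empty_iff_forall_notMem.1 (eq_empty_of_inter_overV a hjac (hW₁.inter hC) ?_) (j x)
      ⟨hx, hCA.ge hxA⟩
    refine Set.eq_empty_iff_forall_notMem.2 fun y ⟨⟨hy, hyC⟩, hyI⟩ => ?_
    obtain ⟨x₁, hx₁, rfl⟩ := hW₁I ⟨hy, hyI⟩
    obtain ⟨x₂, hx₂, he⟩ := hCA.le hyC
    refine hW₂I _ hx₂ ((hov x₂).2 ?_) ⟨x₂, ?_, rfl⟩
    · rw [he]; exact (hov x₁).1 hyI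
    · show π x₂ ∈ qY
      rw [he]; exact hx₁
  have hcompl : A₁ = A₂ᶜ := by
    refine Set.Subset.antisymm ?_ fun p hp => ?_
    · rintro _ ⟨x, hx, rfl⟩
      exact hsep x hx
    · obtain ⟨x, rfl⟩ := π.surjective p
      obtain ⟨z, hz⟩ := her.ge (subset_closure ⟨x, rfl⟩ : j x ∈ (T : Set PN))
      by_cases hzW : z ∈ WT
      · exact ⟨x, (⟨z, hzW, hz⟩ : _ ∈ e '' _), rfl⟩
      · exact absurd ⟨x, (⟨z, hzW, hz⟩ : _ ∈ e '' _), rfl⟩ hp
  have hpre : ∀ x, π x ∈ A₁ ↔ j x ∈ W₁ := fun x => by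
    refine ⟨fun h => ?_, fun h => ⟨x, h, rfl⟩⟩
    by_contra hn
    obtain ⟨z, hz⟩ := her.ge (subset_closure ⟨x, rfl⟩ : j x ∈ (T : Set PN))
    have hzW : z ∉ WT := fun hzW => hn ((⟨z, hzW, hz⟩ : _ ∈ e '' _))
    exact (hcompl.le h) ⟨x, (⟨z, hzW, hz⟩ : _ ∈ e '' _), rfl⟩
  let W : X.Opens := ⟨A₁, hcompl ▸ hA₂.isOpen_compl⟩
  refine ⟨W, hA₁, ?_, ?_⟩
  · have : IsClosedImmersion W.ι := .of_isPreimmersion _ (by rw [Scheme.Opens.range_ι]; exact hA₁)
    let r : pullback π W.ι ⟶ PN := pullback.fst π W.ι ≫ j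
    have hr : Set.range r = W₁ := by
      show Set.range (j ∘ pullback.fst π W.ι) = _
      rw [Set.range_comp, Scheme.Pullback.range_fst, Scheme.Opens.range_ι]
      ext y
      constructor
      · rintro ⟨x, hx, rfl⟩
        exact (hpre x).1 hx
      · intro hy
        obtain ⟨x, rfl⟩ := hW₁j hy
        exact ⟨x, (hpre x).2 hy, rfl⟩
    have : IsClosedImmersion r := .of_isPreimmersion _ (hr ▸ hW₁)
    have : IsProper (pullback.snd π W.ι ≫ W.ι ≫ f) := by
      have h : pullback.snd π W.ι ≫ W.ι ≫ f = r ≫ a := by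
        simp only [r, a, Category.assoc, hjb]
        rw [← Category.assoc, ← pullback.condition, Category.assoc]
      rw [h]
      infer_instance
    have : Surjective (pullback.snd π W.ι) := MorphismProperty.pullback_snd _ _ hπs
    have : UniversallyClosed (W.ι ≫ f) := .of_comp_surjective (pullback.snd π W.ι) (W.ι ≫ f)
    exact {}
  · refine Opens.ext (Set.ext fun z => ?_)
    have hzI : q z ∈ overV f I := hq.le ⟨z, rfl⟩
    obtain ⟨x, hx⟩ := π.surjective (q z)
    show q z ∈ A₁ ↔ z ∈ (Y : Set Z)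
    rw [← hx, hpre]
    constructor
    · intro h
      obtain ⟨x', hx', he⟩ := hW₁I ⟨h, (hov x).2 (hx ▸ hzI)⟩
      rw [hjinj he] at hx'
      have h2 : q z ∈ qY := hx ▸ hx'
      exact q.isClosedEmbedding.injective.mem_set_image.1 h2
    · intro hz
      by_contra hn
      obtain ⟨w, hw⟩ := her.ge (subset_closure ⟨x, rfl⟩ : j x ∈ (T : Set PN))
      have hwW : w ∉ WT := fun hwW => hn ((⟨w, hwW, hw⟩ : _ ∈ e '' _))
      exact hW₂I (j x) ((⟨w, hwW, hw⟩ : _ ∈ e '' _)) ((hov x).2 (hx ▸ hzI))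
        ⟨x, (hx ▸ ⟨z, hz, rfl⟩ : π x ∈ qY), rfl⟩

/-- A closed subscheme proper over the base lies in the proper part. -/
theorem range_subset_of_proper (I : Ideal A) (hI : I ≤ Ideal.jacobson ⊥) {X P : Scheme.{u}}
    (f : X ⟶ Spec (CommRingCat.of A)) (i : P ⟶ X) [IsProper (i ≫ f)] (U : X.Opens)
    (hU : overV f I ⊆ (U : Set X)) : Set.range i.base ⊆ (U : Set X) := by
  rintro _ ⟨p, rfl⟩
  by_contra h
  refine Set.eq_empty_iff_forall_notMem.1 (eq_empty_of_inter_overV (i ≫ f) hI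
    (U.2.isClosed_compl.preimage i.continuous) ?_) p h
  exact Set.eq_empty_iff_forall_notMem.2 fun p ⟨hp, hpI⟩ => hp (hU hpI)

end Groth.HensPair
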