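import Mathlib.RingTheory.QuasiFinite.Basic
import Mathlib.RingTheory.Spectrum.Maximal.Localization
import Mathlib.RingTheory.Artinian.Ring
import Mathlib.RingTheory.Idempotents
import Mathlib.RingTheory.Ideal.Quotient.Operations

set_option autoImplicit false
universe u v

namespace Groth.HensPair

/-- Every maximal ideal is separated from the others by an idempotent. -/
def MaxSep (B : Type u) [CommRing B] : Prop :=
  ∀ n : MaximalSpectrum B, ∃ e : B, IsIdempotentElem e ∧ e ∉ n.asIdeal ∧
    ∀ n' : MaximalSpectrum B, n' ≠ n → e ∈ n'.asIdeal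

variable {B : Type u} [CommRing B]

lemma idem_eq_zero_of_forall_mem {e : B} (he : IsIdempotentElem e)
    (h : ∀ n : MaximalSpectrum B, e ∈ n.asIdeal) : e = 0 := by
  have hu : IsUnit (1 - e) := by
    by_contra hn
    obtain ⟨M, hM, heM⟩ := exists_max_ideal_of_mem_nonunits hn
    apply hM.ne_top
    rw [Ideal.eq_top_iff_one, show (1 : B) = 1 - e + e by ring]
    exact add_mem heM (h ⟨M, hM⟩)
  exact hu.mul_right_eq_zero.1 (show (1 - e) * e = 0 by rw [sub_mul, one_mul, he.eq, sub_self])

theorem maxSep_of_bijective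
    (h : Function.Bijective (RingHom.pi fun n : MaximalSpectrum B =>
      algebraMap B (Localization.AtPrime n.asIdeal))) : MaxSep B := by
  classical
  intro n
  obtain ⟨e, he⟩ := h.2 (Pi.single n 1)
  have hen : ∀ n', algebraMap B (Localization.AtPrime n'.asIdeal) e =
      (Pi.single n 1 : ∀ m : MaximalSpectrum B, Localization.AtPrime m.asIdeal) n' :=
    fun n' => congrFun he n'
  refine ⟨e, h.1 (funext fun n' => ?_), fun hm => ?_, fun n' hn' => ?_⟩
  · show algebraMap B _ (e * e) = algebraMap B _ e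
    rw [map_mul, hen]
    rcases eq_or_ne n' n with rfl | hne <;> simp [*]
  · have := (IsLocalization.AtPrime.to_map_mem_maximal_iff (Localization.AtPrime n.asIdeal) n.asIdeal e).2 hm
    rw [hen, Pi.single_eq_same] at this
    exact (IsLocalRing.maximalIdeal.isMaximal _).ne_top ((Ideal.eq_top_iff_one _).2 this)
  · refine (IsLocalization.AtPrime.to_map_mem_maximal_iff (Localization.AtPrime n'.asIdeal) n'.asIdeal e).1 ?_
    rw [hen, Pi.single_eq_of_ne hn']
    exact zero_mem _

theorem maxSep_of_equiv_pi {ι : Type v} [Fintype ι] (C : ι → Type v) [∀ j, CommRing (C j)]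
    [∀ j, IsLocalRing (C j)] (e : B ≃+* ∀ j, C j) : MaxSep B := by
  classical
  let ε : ι → B := fun j => e.symm (Pi.single j 1)
  have hidem : ∀ j, IsIdempotentElem (ε j) := fun j => by
    rw [IsIdempotentElem, ← map_mul, ← Pi.single_mul, one_mul]
  have hsum : ∑ j, ε j = 1 := by
    rw [← map_sum, show ∑ j, Pi.single j (1 : C j) = (1 : ∀ j, C j) from Finset.univ_sum_single _, map_one]
  -- a maximal ideal avoiding `ε j` is the pullback of the maximal ideal of the `j`th factor
  have key : ∀ (j : ι) (n : MaximalSpectrum B), ε j ∉ n.asIdeal → n.asIdeal =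
      (IsLocalRing.maximalIdeal (C j)).comap ((Pi.evalRingHom C j).comp e.toRingHom) := by
    intro j n hj
    refine n.isMaximal.eq_of_le (Ideal.comap_ne_top _ (IsLocalRing.maximalIdeal.isMaximal _).ne_top) fun x hx => ?_
    rw [Ideal.mem_comap, IsLocalRing.mem_maximalIdeal]
    rintro ⟨w, hw⟩
    apply hj
    have : ε j = e.symm (Pi.single j ↑w⁻¹) * x := e.injective (by
      rw [map_mul, e.apply_symm_apply, e.apply_symm_apply, ← Pi.single_mul_left]
      exact congrArg _ ((Units.inv_mul w).symm.trans (by rw [hw]; rfl)))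
    rw [this]
    exact n.asIdeal.mul_mem_left _ hx
  intro n
  obtain ⟨j, hj⟩ : ∃ j, ε j ∉ n.asIdeal := by
    by_contra h
    push Not at h
    exact n.isMaximal.ne_top ((Ideal.eq_top_iff_one _).2 (hsum ▸ sum_mem fun j _ => h j))
  refine ⟨ε j, hidem j, hj, fun n' hn' => ?_⟩
  by_contra h
  exact hn' (MaximalSpectrum.ext ((key j n' h).trans (key j n hj).symm))

theorem bijective_of_maxSep [Finite (MaximalSpectrum B)] (h : MaxSep B) :
    Function.Bijective (RingHom.pi fun n : MaximalSpectrum B =>
      algebraMap B (Localization.AtPrime n.asIdeal)) := by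
  classical
  have := Fintype.ofFinite (MaximalSpectrum B)
  refine ⟨MaximalSpectrum.toPiLocalization_injective B, fun x => ?_⟩
  choose e he hne hoe using h
  choose b s hx using fun n => IsLocalization.exists_mk'_eq n.asIdeal.primeCompl (x n)
  have hu : ∀ n : MaximalSpectrum B, IsUnit ((s n : B) * e n + (1 - e n)) := fun n => by
    by_contra hu
    obtain ⟨M, hM, hmem⟩ := exists_max_ideal_of_mem_nonunits hu
    rcases eq_or_ne (⟨M, hM⟩ : MaximalSpectrum B) n with rfl | hne'
    · have h1 : 1 - e ⟨M, hM⟩ ∈ M := (hM.isPrime.mem_or_mem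
        (show e ⟨M, hM⟩ * (1 - e ⟨M, hM⟩) ∈ M by rw [mul_sub, mul_one, (he _).eq, sub_self]; exact zero_mem _)).resolve_left (hne ⟨M, hM⟩)
      exact (hM.isPrime.mem_or_mem ((Ideal.add_mem_iff_left _ h1).1 hmem)).elim (s ⟨M, hM⟩).2 (hne ⟨M, hM⟩)
    · have h1 : e n ∈ M := hoe n _ hne'
      have := (Ideal.add_mem_iff_right _ (M.mul_mem_left (s n : B) h1)).1 hmem
      exact hM.ne_top ((Ideal.eq_top_iff_one _).2 (by simpa using add_mem this h1))
  suffices key : ∀ n : MaximalSpectrum B, algebraMap B (Localization.AtPrime n.asIdeal)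
      (∑ n, e n * b n * ↑(hu n).unit⁻¹) = x n from ⟨_, funext key⟩
  intro n
  have h1 : algebraMap B (Localization.AtPrime n.asIdeal) (e n) = 1 :=
    (IsLocalization.map_units _ (⟨e n, hne n⟩ : n.asIdeal.primeCompl)).mul_eq_left.1
      (by rw [← map_mul, (he n).eq])
  rw [map_sum, Finset.sum_eq_single_of_mem n (Finset.mem_univ n) fun m _ hm => ?_]
  · rw [← hx n, eq_comm, IsLocalization.mk'_eq_iff_eq_mul, map_mul, map_mul, h1, one_mul]
    have h2 : algebraMap B (Localization.AtPrime n.asIdeal) ↑(hu n).unit⁻¹ *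
        algebraMap B _ (s n : B) = 1 := by
      have := congrArg (algebraMap B (Localization.AtPrime n.asIdeal)) (hu n).val_inv_mul
      rw [map_mul, map_add, map_mul, map_sub, h1, map_one, mul_one, sub_self, add_zero] at this
      exact this
    rw [mul_assoc, h2, mul_one]
  · have hm' : e m ∈ n.asIdeal := hoe m n (Ne.symm hm)
    have : algebraMap B (Localization.AtPrime n.asIdeal) (e m) = 0 := by
      rw [IsLocalization.map_eq_zero_iff n.asIdeal.primeCompl]
      refine ⟨⟨1 - e m, fun h => n.isMaximal.ne_top ((Ideal.eq_top_iff_one _).2 ?_)⟩, ?_⟩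
      · simpa using add_mem h hm'
      · show (1 - e m) * e m = 0
        rw [sub_mul, one_mul, (he m).eq, sub_self]
    rw [map_mul, map_mul, this, zero_mul, zero_mul]

variable {A : Type u} [CommRing A] [IsLocalRing A] [Algebra A B] [Module.Finite A B]

lemma map_maximalIdeal_le (n : MaximalSpectrum B) :
    (IsLocalRing.maximalIdeal A).map (algebraMap A B) ≤ n.asIdeal := by
  rw [Ideal.map_le_iff_le_comap]
  exact (IsLocalRing.eq_maximalIdeal (Ideal.isMaximal_comap_of_isIntegral_of_isMaximal n.asIdeal)).ge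

theorem finite_maximalSpectrum (A : Type u) [CommRing A] [IsLocalRing A] [Algebra A B] [Module.Finite A B] :
    Finite (MaximalSpectrum B) := by
  have := (Algebra.QuasiFinite.finite_primesOver (S := B) (IsLocalRing.maximalIdeal A)).to_subtype
  refine Finite.of_injective (β := (IsLocalRing.maximalIdeal A).primesOver B)
    (fun n => ⟨n.asIdeal, n.isMaximal.isPrime, ⟨(IsLocalRing.eq_maximalIdeal
      (Ideal.isMaximal_comap_of_isIntegral_of_isMaximal n.asIdeal)).symm⟩⟩) fun n n' h => ?_
  exact MaximalSpectrum.ext (congrArg Subtype.val h)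

theorem exists_pi_of_maxSep [Finite (MaximalSpectrum B)] (h : MaxSep B) :
    ∃ (ι : Type u) (_ : Fintype ι) (C : ι → Type u) (_ : ∀ j, CommRing (C j)),
      (∀ j, IsLocalRing (C j)) ∧ Nonempty (B ≃+* (∀ j, C j)) :=
  ⟨MaximalSpectrum B, Fintype.ofFinite _, fun n => Localization.AtPrime n.asIdeal, inferInstance,
    fun _ => inferInstance, ⟨RingEquiv.ofBijective _ (bijective_of_maxSep h)⟩⟩

theorem isArtinianRing_quotient :
    IsArtinianRing (B ⧸ (IsLocalRing.maximalIdeal A).map (algebraMap A B)) := by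
  let := Ideal.Quotient.field (IsLocalRing.maximalIdeal A)
  let : Algebra (A ⧸ IsLocalRing.maximalIdeal A) (B ⧸ (IsLocalRing.maximalIdeal A).map (algebraMap A B)) :=
    Ideal.Quotient.algebraQuotientOfLEComap Ideal.le_comap_map
  have : IsScalarTower A (A ⧸ IsLocalRing.maximalIdeal A)
      (B ⧸ (IsLocalRing.maximalIdeal A).map (algebraMap A B)) := IsScalarTower.of_algebraMap_eq fun _ => rfl
  have := Module.Finite.of_restrictScalars_finite A (A ⧸ IsLocalRing.maximalIdeal A)
    (B ⧸ (IsLocalRing.maximalIdeal A).map (algebraMap A B))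
  exact IsArtinianRing.of_finite (A ⧸ IsLocalRing.maximalIdeal A) _

theorem maxSep_iff_surjOn : MaxSep B ↔
    Set.SurjOn (Ideal.Quotient.mk (Ideal.map (algebraMap A B) (IsLocalRing.maximalIdeal A)))
      {e : B | IsIdempotentElem e} {e | IsIdempotentElem e} := by
  classical
  have := finite_maximalSpectrum (B := B) A
  have := Fintype.ofFinite (MaximalSpectrum B)
  set J := Ideal.map (algebraMap A B) (IsLocalRing.maximalIdeal A)
  have : IsArtinianRing (IsLocalRing.ResidueField A) := inferInstance
  have hmax : ∀ {M : Ideal (B ⧸ J)}, M.IsMaximal → (M.comap (Ideal.Quotient.mk J)).IsMaximal := fun h =>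
    haveI := h; Ideal.comap_isMaximal_of_surjective _ Ideal.Quotient.mk_surjective
  have hjac : ∀ x : B, (∀ n : MaximalSpectrum B, x ∈ n.asIdeal) →
      Ideal.Quotient.mk J x ∈ Ideal.jacobson (⊥ : Ideal (B ⧸ J)) := fun x hx =>
    Submodule.mem_sInf.2 fun M ⟨_, hM⟩ => hx ⟨_, hmax hM⟩
  have := isArtinianRing_quotient (A := A) (B := B)
  have hnil : ∀ x ∈ Ideal.jacobson (⊥ : Ideal (B ⧸ J)), IsNilpotent x := fun x hx => by
    obtain ⟨k, hk⟩ := IsArtinianRing.isNilpotent_jacobson_bot (R := B ⧸ J)
    refine ⟨k, ?_⟩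
    have := Ideal.pow_mem_pow hx k
    rw [hk] at this
    exact this
  constructor
  · intro h
    choose e he hne hoe using h
    intro f hf
    obtain ⟨b, rfl⟩ := Ideal.Quotient.mk_surjective f
    have hb : ∀ n : MaximalSpectrum B, b ∈ n.asIdeal ∨ b - 1 ∈ n.asIdeal := fun n =>
      n.isMaximal.isPrime.mem_or_mem (by
        refine map_maximalIdeal_le (A := A) n ?_
        rw [← Ideal.Quotient.eq_zero_iff_mem, map_mul, map_sub, map_one, mul_sub, mul_one, hf.eq, sub_self])
    have hortho : ∀ n n', n ≠ n' → e n * e n' = 0 := fun n n' hnn =>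
      idem_eq_zero_of_forall_mem ((he n).mul (he n')) fun m => by
        rcases eq_or_ne m n with rfl | hm
        · exact m.asIdeal.mul_mem_left _ (hoe n' m hnn)
        · exact m.asIdeal.mul_mem_right _ (hoe n m hm)
    let S : Finset (MaximalSpectrum B) := Finset.univ.filter fun n => b ∉ n.asIdeal
    refine ⟨∑ n ∈ S, e n, ?_, sub_eq_zero.1 ?_⟩
    · show (∑ n ∈ S, e n) * (∑ n ∈ S, e n) = ∑ n ∈ S, e n
      rw [Finset.sum_mul_sum]
      refine Finset.sum_congr rfl fun n hn => ?_
      rw [Finset.sum_eq_single_of_mem n hn fun m _ hm => hortho n m (Ne.symm hm), (he n).eq]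
    · have hi : IsIdempotentElem (Ideal.Quotient.mk J (∑ n ∈ S, e n)) := by
        show _ * _ = _
        rw [← map_mul, Finset.sum_mul_sum]
        congr 1
        refine Finset.sum_congr rfl fun n hn => ?_
        rw [Finset.sum_eq_single_of_mem n hn fun m _ hm => hortho n m (Ne.symm hm), (he n).eq]
      rw [sub_eq_zero]
      have hd := hjac ((∑ n ∈ S, e n) - b) fun n => by
        by_cases hn : b ∈ n.asIdeal
        · refine sub_mem (sum_mem fun m hm => hoe m n ?_) hn
          rintro rfl
          exact (Finset.mem_filter.1 hm).2 hn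
        · have h1 : e n - 1 ∈ n.asIdeal := (n.isMaximal.isPrime.mem_or_mem
            (show e n * (e n - 1) ∈ n.asIdeal by rw [mul_sub, mul_one, (he n).eq, sub_self]; exact zero_mem _)).resolve_left (hne n)
          rw [← Finset.add_sum_erase S e (Finset.mem_filter.2 ⟨Finset.mem_univ n, hn⟩),
            show ∀ z, e n + z - b = (e n - 1) - (b - 1) + z by intro z; ring]
          exact add_mem (sub_mem h1 ((hb n).resolve_left hn))
            (sum_mem fun m hm => hoe m n (Ne.symm (Finset.mem_erase.1 hm).1))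
      rw [map_sub] at hd
      exact eq_of_isNilpotent_sub_of_isIdempotentElem hi hf (by
        exact hnil _ hd)
  · intro h n
    have hco : Pairwise fun i j : MaximalSpectrum B => IsCoprime i.asIdeal j.asIdeal := fun i j hij =>
      Ideal.isCoprime_iff_sup_eq.2 (i.isMaximal.coprime_of_ne j.isMaximal fun hh => hij (MaximalSpectrum.ext hh))
    obtain ⟨b, hb⟩ := Ideal.exists_forall_sub_mem_ideal hco fun m => if m = n then (1 : B) else 0
    have hidem : IsIdempotentElem (Ideal.Quotient.mk (Ideal.jacobson (⊥ : Ideal (B ⧸ J))) (Ideal.Quotient.mk J b)) := by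
      show _ * _ = _
      rw [← map_mul, Ideal.Quotient.eq, ← map_mul, ← map_sub]
      refine hjac _ fun m => ?_
      have := hb m
      split_ifs at this
      · rw [show b * b - b = b * (b - 1) by ring]; exact m.asIdeal.mul_mem_left _ this
      · rw [sub_zero] at this; exact sub_mem (m.asIdeal.mul_mem_left _ this) this
    obtain ⟨f, hf, hfb⟩ := exists_isIdempotentElem_eq_of_ker_isNilpotent _
      (fun x hx => hnil x (by rwa [Ideal.mk_ker] at hx))
      _ ⟨_, rfl⟩ hidem
    obtain ⟨e, he, rfl⟩ := h hf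
    have heb : ∀ m : MaximalSpectrum B, e - b ∈ m.asIdeal := fun m => by
      have hJm : J ≤ m.asIdeal := map_maximalIdeal_le (A := A) m
      have : (m.asIdeal.map (Ideal.Quotient.mk J)).IsMaximal :=
        Ideal.IsMaximal.map_of_surjective_of_ker_le Ideal.Quotient.mk_surjective (by rwa [Ideal.mk_ker])
      have h1 : Ideal.Quotient.mk J (e - b) ∈ m.asIdeal.map (Ideal.Quotient.mk J) := by
        rw [map_sub]
        exact (sInf_le ⟨bot_le, this⟩ : Ideal.jacobson ⊥ ≤ _) (Ideal.Quotient.eq.1 hfb)
      rwa [← Ideal.mem_comap, Ideal.comap_map_mk hJm] at h1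
    refine ⟨e, he, fun hen => ?_, fun m hm => ?_⟩
    · have := hb n
      rw [if_pos rfl] at this
      refine n.isMaximal.ne_top ((Ideal.eq_top_iff_one _).2 ?_)
      have h2 := sub_mem hen (add_mem (heb n) this)
      simpa using h2
    · have := hb m
      rw [if_neg hm, sub_zero] at this
      simpa using add_mem (heb m) this

end Groth.HensPair
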