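import Groth.Agent.SpectralTopology.Spectral
import Mathlib.Topology.Sheaves.Functors
import Mathlib.Topology.Sheaves.SheafOfFunctions
import Mathlib.Topology.Sheaves.Stalks
import Mathlib.Topology.Sheaves.SheafCondition.UniqueGluing

/-!
Sections of sheaves of sets on a spectral space and on a closed subset meeting every nonempty closed
subset and every irreducible closed subset in a connected set.
-/

set_option autoImplicit false
universe u

open CategoryTheory TopologicalSpace Opposite Topology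

namespace Groth.HensPair

variable {Z X : TopCat.{u}} (i : Z ⟶ X) (F : TopCat.Sheaf (Type u) X)

/-- The unit `F ⟶ i_* i^* F` on an open. -/
noncomputable def etaApp (U : Opens X) (s : F.1.obj (op U)) :
    ((TopCat.Sheaf.pullback (Type u) i).obj F).1.obj (op ((Opens.map i).obj U)) :=
  ((TopCat.Sheaf.pullbackPushforwardAdjunction (Type u) i).unit.app F).hom.app (op U) s

theorem map_etaApp {U V : Opens X} (h : V ≤ U) (s : F.1.obj (op U)) :
    ((TopCat.Sheaf.pullback (Type u) i).obj F).1.map ((Opens.map i).map (homOfLE h)).op (etaApp i F U s) =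
      etaApp i F V (F.1.map (homOfLE h).op s) :=
  (congr($(((TopCat.Sheaf.pullbackPushforwardAdjunction (Type u) i).unit.app F).hom.naturality (homOfLE h).op) s)).symm

/-- Sections with equal images near a point have equal germs there. -/
theorem germ_eq_of_etaApp_eq {U U' : Opens X} (s : F.1.obj (op U)) (s' : F.1.obj (op U')) (z : Z)
    (hz : i z ∈ U) (hz' : i z ∈ U')
    (h : TopCat.Presheaf.germ ((TopCat.Sheaf.pullback (Type u) i).obj F).presheaf ((Opens.map i).obj U) z hz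
        (etaApp i F U s) =
      TopCat.Presheaf.germ ((TopCat.Sheaf.pullback (Type u) i).obj F).presheaf ((Opens.map i).obj U') z hz'
        (etaApp i F U' s')) :
    F.presheaf.germ U (i z) hz s = F.presheaf.germ U' (i z) hz' s' := by
  let G : TopCat.Sheaf (Type u) Z := TopCat.sheafToTypes Z fun z => F.presheaf.stalk (i z)
  let φ : F ⟶ (TopCat.Sheaf.pushforward (Type u) i).obj G :=
    ⟨{ app := fun V => TypeCat.ofHom fun s z => F.presheaf.germ V.unop (i z.1) z.2 s
       naturality := fun V W f => by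
        ext s
        funext z
        exact TopCat.Presheaf.germ_res_apply F.presheaf f.unop (i z.1) z.2 s }⟩
  let adj := TopCat.Sheaf.pullbackPushforwardAdjunction (Type u) i
  let φ' := (adj.homEquiv F G).symm φ
  have hφ : adj.unit.app F ≫ (TopCat.Sheaf.pushforward (Type u) i).map φ' = φ := by
    exact (adj.homEquiv_unit (f := φ')).symm.trans ((adj.homEquiv F G).apply_symm_apply φ)
  have key : ∀ (V : Opens X) (t : F.1.obj (op V)),
      φ'.hom.app (op ((Opens.map i).obj V)) (etaApp i F V t) =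
        fun z : ((Opens.map i).obj V) => F.presheaf.germ V (i z.1) z.2 t :=
    fun V t => congr(($hφ).hom.app (op V) t)
  obtain ⟨W, hzW, iU, iV, e⟩ := TopCat.Presheaf.germ_eq _ z hz hz' _ _ h
  have n1 := congr($(φ'.hom.naturality iU.op) (etaApp i F U s))
  have n2 := congr($(φ'.hom.naturality iV.op) (etaApp i F U' s'))
  have e' := congrArg (φ'.hom.app (op W)) e
  have e'' := (n1.symm.trans e').trans n2
  have := congrFun e'' ⟨z, hzW⟩
  change φ'.hom.app (op ((Opens.map i).obj U)) (etaApp i F U s) ⟨z, hz⟩ =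
    φ'.hom.app (op ((Opens.map i).obj U')) (etaApp i F U' s') ⟨z, hz'⟩ at this
  rwa [key, key] at this

/-- Every section of `i^* F` comes locally from `F`. -/
theorem exists_germ_etaApp (W : Opens Z) (σ : ((TopCat.Sheaf.pullback (Type u) i).obj F).1.obj (op W))
    (z : Z) (hz : z ∈ W) :
    ∃ (U : Opens X) (hU : i z ∈ U) (s : F.1.obj (op U)),
      TopCat.Presheaf.germ ((TopCat.Sheaf.pullback (Type u) i).obj F).presheaf ((Opens.map i).obj U) z hU
          (etaApp i F U s) =
        TopCat.Presheaf.germ ((TopCat.Sheaf.pullback (Type u) i).obj F).presheaf W z hz σ := by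
  let P := ((TopCat.Sheaf.pullback (Type u) i).obj F).presheaf
  let T : TopCat.Sheaf (Type u) Z := TopCat.sheafToTypes Z fun _ => ULift.{u} Prop
  let Good : ∀ z : Z, P.stalk z → Prop := fun z τ =>
    ∃ (U : Opens X) (hU : i z ∈ U) (s : F.1.obj (op U)),
      P.germ ((Opens.map i).obj U) z hU (etaApp i F U s) = τ
  let χ : (TopCat.Sheaf.pullback (Type u) i).obj F ⟶ T :=
    ⟨{ app := fun V => TypeCat.ofHom fun τ z => ULift.up (Good z.1 (P.germ V.unop z.1 z.2 τ))
       naturality := fun V V' f => by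
        ext τ
        funext z
        exact congrArg (fun a => ULift.up (Good z.1 a)) (TopCat.Presheaf.germ_res_apply P f.unop z.1 z.2 τ) }⟩
  let χ₀ : (TopCat.Sheaf.pullback (Type u) i).obj F ⟶ T :=
    ⟨{ app := fun V => TypeCat.ofHom fun _ _ => ULift.up True
       naturality := fun V V' f => rfl }⟩
  let adj := TopCat.Sheaf.pullbackPushforwardAdjunction (Type u) i
  have hχ : χ = χ₀ := by
    refine (adj.homEquiv F T).injective ?_
    rw [Adjunction.homEquiv_unit, Adjunction.homEquiv_unit]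
    refine CategoryTheory.Sheaf.hom_ext (NatTrans.ext (funext fun V => ?_))
    ext s
    funext z
    exact congrArg ULift.up (eq_true ⟨V.unop, z.2, s, rfl⟩)
  have h2 : (χ.hom.app (op W) σ ⟨z, hz⟩).down = (χ₀.hom.app (op W) σ ⟨z, hz⟩).down := by rw [hχ]
  exact h2.symm.mp trivial

/-- **Sections on a closed subset.** -/
theorem bijective_etaApp_top [SpectralSpace X] (hi : Topology.IsEmbedding i)
    (hcl : IsClosed (Set.range i))
    (hmeet : ∀ T : Set X, IsClosed T → T.Nonempty → (T ∩ Set.range i).Nonempty)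
    (hconn : ∀ x : X, _root_.IsPreconnected (closure ({x} : Set X) ∩ Set.range i)) :
    Function.Bijective (etaApp i F ⊤) := by
  classical
  constructor
  · intro s t hst
    refine TopCat.Presheaf.section_ext F ⊤ s t fun x _ => ?_
    by_contra hne
    let T : Set X := {y | F.presheaf.germ ⊤ y trivial s ≠ F.presheaf.germ ⊤ y trivial t}
    have hT : IsClosed T := by
      refine ⟨isOpen_iff_mem_nhds.2 fun y hy => ?_⟩
      obtain ⟨W, hyW, i₁, i₂, e⟩ := F.presheaf.germ_eq (U := ⊤) (V := ⊤) y trivial trivial s t (not_not.1 (show ¬¬ F.presheaf.germ ⊤ y trivial s = F.presheaf.germ ⊤ y trivial t from hy))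
      refine Filter.mem_of_superset (W.isOpen.mem_nhds hyW) fun w hw => not_not.2 ?_
      exact ((TopCat.Presheaf.germ_res_apply F.presheaf i₁ w hw s).symm.trans (congrArg _ e)).trans
        (TopCat.Presheaf.germ_res_apply F.presheaf i₂ w hw t)
    obtain ⟨_, hzT, ⟨z, rfl⟩⟩ := hmeet T hT ⟨x, hne⟩
    exact hzT (germ_eq_of_etaApp_eq i F s t z trivial trivial (congrArg _ hst))
  intro σ
  let P := ((TopCat.Sheaf.pullback (Type u) i).obj F).presheaf
  have hloc : ∀ z : Z, ∃ (U : Opens X) (_ : i z ∈ U) (_ : IsCompact (U : Set X)) (s : F.1.obj (op U)),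
      ∀ (z' : Z) (h : i z' ∈ U), P.germ ((Opens.map i).obj U) z' h (etaApp i F U s) =
        P.germ ⊤ z' trivial σ := by
    intro z
    obtain ⟨U, hU, s, hs⟩ := exists_germ_etaApp i F ⊤ σ z trivial
    obtain ⟨W, hzW, iU, iT, e⟩ := TopCat.Presheaf.germ_eq P (U := (Opens.map i).obj U) (V := ⊤) z hU trivial _ _ hs
    obtain ⟨O, hO, hOW⟩ := (hi.isInducing.isOpen_iff).1 W.isOpen
    obtain ⟨O', ⟨hO'o, hO'c⟩, hzO', hO'le⟩ := PrespectralSpace.isTopologicalBasis.exists_subset_of_mem_open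
      (show i z ∈ O ∩ U from ⟨(Set.ext_iff.1 hOW z).2 hzW, hU⟩) (hO.inter U.isOpen)
    let U' : Opens X := ⟨O', hO'o⟩
    have hle : U' ≤ U := fun y hy => (hO'le hy).2
    refine ⟨U', hzO', hO'c, F.1.map (homOfLE hle).op s, fun z' h => ?_⟩
    have hz' : z' ∈ W := by
      have : z' ∈ i ⁻¹' O := (hO'le h).1
      rwa [hOW] at this
    rw [← map_etaApp i F hle s]
    refine (TopCat.Presheaf.germ_res_apply P ((Opens.map i).map (homOfLE hle)) z' h _).trans ?_
    exact ((TopCat.Presheaf.germ_res_apply P iU z' hz' _).symm.trans (congrArg _ e)).trans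
      (TopCat.Presheaf.germ_res_apply P iT z' hz' σ)
  choose U hzU hUc s hs using hloc
  have hrc : IsCompact (Set.range i) := hcl.isCompact
  obtain ⟨t, ht⟩ := hrc.elim_finite_subcover (fun z => (U z : Set X)) (fun z => (U z).isOpen)
    (by rintro _ ⟨z, rfl⟩; exact Set.mem_iUnion.2 ⟨z, hzU z⟩)
  -- agreement loci
  let A : t → t → Set X := fun j k => {y | ∃ (hj : y ∈ U j) (hk : y ∈ U k),
    F.presheaf.germ (U j) y hj (s j) = F.presheaf.germ (U k) y hk (s k)}
  have hA : ∀ j k, IsOpen (A j k) := fun j k => isOpen_iff_mem_nhds.2 fun y ⟨hj, hk, h⟩ => by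
    obtain ⟨W, hyW, i₁, i₂, e⟩ := F.presheaf.germ_eq y hj hk _ _ h
    refine Filter.mem_of_superset (W.isOpen.mem_nhds hyW) fun w hw => ⟨i₁.le hw, i₂.le hw, ?_⟩
    exact ((TopCat.Presheaf.germ_res_apply F.presheaf i₁ w hw _).symm.trans (congrArg _ e)).trans
      (TopCat.Presheaf.germ_res_apply F.presheaf i₂ w hw _)
  have hAZ : ∀ (j k : t) (z : Z), i z ∈ U j → i z ∈ U k → i z ∈ A j k := fun j k z hj hk =>
    ⟨hj, hk, germ_eq_of_etaApp_eq i F _ _ z hj hk ((hs j z hj).trans (hs k z hk).symm)⟩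
  -- the points whose closure meets `Z` inside `U j`
  let Y : t → Set X := fun j => {y | ∃ z : Z, i z ∈ U j ∧ y ⤳ i z}
  have hYU : ∀ j y, y ∈ Y j → y ∈ U j := fun j y ⟨z, hz, hyz⟩ => hyz.mem_open (U j).isOpen hz
  have hmeet' : ∀ x : X, ∃ z : Z, x ⤳ i z := fun x => by
    obtain ⟨_, hxz, ⟨z, rfl⟩⟩ := hmeet (closure ({x} : Set X)) isClosed_closure ⟨x, subset_closure rfl⟩
    exact ⟨z, specializes_iff_mem_closure.2 hxz⟩
  have hYcov : ∀ x : X, ∃ j, x ∈ Y j := fun x => by
    obtain ⟨z, hz⟩ := hmeet' x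
    obtain ⟨j, hj, hzj⟩ := Set.mem_iUnion₂.1 (ht ⟨z, rfl⟩)
    exact ⟨⟨j, hj⟩, z, hzj, hz⟩
  have hYA : ∀ j k x, x ∈ Y j → x ∈ Y k → x ∈ A j k := by
    intro j k x hj hk
    obtain ⟨z, hzj, hxz⟩ := hj
    obtain ⟨z', hzk, hxz'⟩ := hk
    have hxj := hxz.mem_open (U j).isOpen hzj
    have hxk := hxz'.mem_open (U k).isOpen hzk
    refine ⟨hxj, hxk, ?_⟩
    let C : Set X := closure ({x} : Set X) ∩ Set.range i
    let g : t → Option (F.presheaf.stalk x) := fun m =>
      if h : x ∈ U m then some (F.presheaf.germ (U m) x h (s m)) else none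
    let O : Set X := ⋃ (m : t) (_ : g m = g j), (U m : Set X)
    let O' : Set X := ⋃ (m : t) (_ : g m ≠ g j), (U m : Set X)
    have hdisj : C ∩ (O ∩ O') = ∅ := by
      refine Set.eq_empty_iff_forall_notMem.2 ?_
      rintro _ ⟨⟨hc, z₀, rfl⟩, h1, h2⟩
      obtain ⟨m, hm, hzm⟩ := Set.mem_iUnion₂.1 h1
      obtain ⟨n, hn, hzn⟩ := Set.mem_iUnion₂.1 h2
      obtain ⟨hm', hn', e⟩ := (specializes_iff_mem_closure.2 hc).mem_open (hA m n) (hAZ m n z₀ hzm hzn)
      refine hn ?_
      rw [← hm]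
      simp only [g, dif_pos hm', dif_pos hn', e]
    have hCsub : C ⊆ O := by
      have hcov : C ⊆ O ∪ O' := by
        rintro _ ⟨-, z₀, rfl⟩
        obtain ⟨m, hm, hzm⟩ := Set.mem_iUnion₂.1 (ht ⟨z₀, rfl⟩)
        by_cases h : g ⟨m, hm⟩ = g j
        · exact Or.inl (Set.mem_iUnion₂.2 ⟨⟨m, hm⟩, h, hzm⟩)
        · exact Or.inr (Set.mem_iUnion₂.2 ⟨⟨m, hm⟩, h, hzm⟩)
      intro y hy
      by_contra hyO
      obtain ⟨w, hw⟩ := hconn x O O' (isOpen_biUnion fun m _ => (U m).isOpen)
        (isOpen_biUnion fun m _ => (U m).isOpen) hcov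
        ⟨i z, ⟨specializes_iff_mem_closure.1 hxz, z, rfl⟩, Set.mem_iUnion₂.2 ⟨j, rfl, hzj⟩⟩
        ⟨y, hy, (hcov hy).resolve_left hyO⟩
      exact Set.eq_empty_iff_forall_notMem.1 hdisj w hw
    obtain ⟨m, hm, hzm⟩ := Set.mem_iUnion₂.1 (hCsub ⟨specializes_iff_mem_closure.1 hxz', z', rfl⟩)
    obtain ⟨hm', hk', e⟩ := hxz'.mem_open (hA m k) (hAZ m k z' hzm hzk)
    have hg : some (F.presheaf.germ (U m) x hm' (s m)) = some (F.presheaf.germ (U j) x hxj (s j)) := by
      have e1 : g m = some (F.presheaf.germ (U m) x hm' (s m)) := dif_pos hm'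
      have e2 : g j = some (F.presheaf.germ (U j) x hxj (s j)) := dif_pos hxj
      exact e1.symm.trans (hm.trans e2)
    exact (Option.some.inj hg).symm.trans e
  -- constructibly closed
  have hYct : ∀ j, IsClosed[constructibleTopology X] (Y j) := by
    intro j
    have hK : IsCompact (Set.range i ∩ (U j : Set X)) := (hUc j).inter_left hcl
    have : Y j = ⋂ (O : Set X) (_ : IsOpen O ∧ IsCompact O ∧ Set.range i ∩ (U j : Set X) ⊆ O), O := by
      refine Set.Subset.antisymm (fun y ⟨z, hz, hyz⟩ => Set.mem_iInter₂.2 fun O hO =>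
        hyz.mem_open hO.1 (hO.2.2 ⟨⟨z, rfl⟩, hz⟩)) fun y hy => ?_
      by_contra hne
      obtain ⟨O, hOc, hOo, h1, h2⟩ := PrespectralSpace.exists_isCompact_and_isOpen_between hK
        (isClosed_closure (s := ({y} : Set X))).isOpen_compl (by
          rintro _ ⟨⟨z, rfl⟩, hz⟩ hzy
          exact hne ⟨z, hz, specializes_iff_mem_closure.2 hzy⟩)
      exact h2 (Set.mem_iInter₂.1 hy O ⟨hOo, hOc, h1⟩) (subset_closure rfl)
    rw [this]
    exact @isClosed_iInter X _ (constructibleTopology X) _ fun O =>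
      @isClosed_iInter X _ (constructibleTopology X) _ fun hO => SpectralTopology.isClosed_ct hO.1 hO.2.1
  let B : t → Set X := fun j => ⋃ k : t, ((U j : Set X) ∩ Y k) ∩ (A j k)ᶜ
  have hBct : ∀ j, IsClosed[constructibleTopology X] (B j) := fun j =>
    @isClosed_iUnion_of_finite X _ (constructibleTopology X) _ _ fun k =>
      @IsClosed.inter X _ _ (constructibleTopology X)
        (@IsClosed.inter X _ _ (constructibleTopology X)
          (SpectralTopology.isClosed_ct (U j).isOpen (hUc j)) (hYct k))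
        (SpectralTopology.isClosed_ct_of_isClosed (hA j k).isClosed_compl)
  let D : t → Opens X := fun j => ⟨(U j : Set X) ∩ (closure (B j))ᶜ, (U j).isOpen.inter isClosed_closure.isOpen_compl⟩
  have hD : ∀ j x, x ∈ D j → ∀ k, x ∈ Y k → x ∈ A j k := fun j x hx k hk => by
    by_contra h
    exact hx.2 (subset_closure (Set.mem_iUnion.2 ⟨k, ⟨hx.1, hk⟩, h⟩))
  have hYD : ∀ j x, x ∈ Y j → x ∈ D j := fun j x hx => by
    refine ⟨hYU j x hx, fun hcl' => ?_⟩
    obtain ⟨e, he, hex⟩ := SpectralTopology.exists_specializes_of_mem_closure (hBct j) hcl'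
    obtain ⟨k, ⟨-, hek⟩, hne⟩ := Set.mem_iUnion.1 he
    obtain ⟨z, hz, hxz⟩ := hx
    exact hne (hYA j k e ⟨z, hz, hex.trans hxz⟩ hek)
  have hDcov : (⊤ : Opens X) ≤ iSup D := fun x _ => by
    obtain ⟨j, hj⟩ := hYcov x
    exact Opens.mem_iSup.2 ⟨j, hYD j x hj⟩
  have hle : ∀ j, D j ≤ U j := fun j x hx => hx.1
  obtain ⟨S, hS, -⟩ := TopCat.Sheaf.existsUnique_gluing' F D ⊤ (fun j => homOfLE le_top) hDcov
    (fun j => F.1.map (homOfLE (hle j)).op (s j)) (fun j k => by
      refine TopCat.Presheaf.section_ext F _ _ _ fun x hx => ?_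
      obtain ⟨hxj, hxk⟩ := hx
      obtain ⟨m, hm⟩ := hYcov x
      obtain ⟨h1, h2, e1⟩ := hD j x hxj m hm
      obtain ⟨h3, h4, e2⟩ := hD k x hxk m hm
      refine (TopCat.Presheaf.germ_res_apply F.presheaf _ x _ _).trans ((TopCat.Presheaf.germ_res_apply F.presheaf _ x _ _).trans ?_)
      refine (e1.trans e2.symm).trans ?_
      exact ((TopCat.Presheaf.germ_res_apply F.presheaf _ x _ _).trans (TopCat.Presheaf.germ_res_apply F.presheaf _ x _ _)).symm)
  refine ⟨S, TopCat.Presheaf.section_ext ((TopCat.Sheaf.pullback (Type u) i).obj F) _ _ _ fun z _ => ?_⟩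
  obtain ⟨j, hj, hzj⟩ := Set.mem_iUnion₂.1 (ht ⟨z, rfl⟩)
  have hzD : i z ∈ D ⟨j, hj⟩ := hYD _ _ ⟨z, hzj, specializes_rfl⟩
  have h1 := congrArg (P.germ ((Opens.map i).obj (D ⟨j, hj⟩)) z hzD) (map_etaApp i F (le_top : D ⟨j, hj⟩ ≤ ⊤) S)
  have h2 := congrArg (P.germ ((Opens.map i).obj (D ⟨j, hj⟩)) z hzD) (map_etaApp i F (hle ⟨j, hj⟩) (s j))
  refine ((TopCat.Presheaf.germ_res_apply P _ z hzD _).symm.trans h1).trans ?_
  refine (congrArg (fun a => P.germ ((Opens.map i).obj (D ⟨j, hj⟩)) z hzD (etaApp i F (D ⟨j, hj⟩) a)) (hS ⟨j, hj⟩)).trans ?_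
  exact (h2.symm.trans (TopCat.Presheaf.germ_res_apply P _ z hzD _)).trans (hs j z hzj)

end Groth.HensPair
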