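import Mathlib.AlgebraicGeometry.Morphisms.Etale
import Mathlib.AlgebraicGeometry.Morphisms.Flat

/-! Passing between properties of a stalk map and of the morphism near a point. -/

set_option autoImplicit false
universe u

namespace Groth.HensPair

open AlgebraicGeometry CategoryTheory

variable {X Y : Scheme.{u}} (f : X ⟶ Y)

theorem stalkMap_of_opens {Q : ∀ {R S : Type u} [CommRing R] [CommRing S], (R →+* S) → Prop}
    (hQ : RingHom.RespectsIso Q) (U : X.Opens) (z : (U : Scheme.{u}))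
    (h : Q ((U.ι ≫ f).stalkMap z).hom) : Q (f.stalkMap (U.ι z)).hom := by
  exact (hQ.cancel_right_isIso (f.stalkMap (U.ι z)) (U.ι.stalkMap z)).1
    (cast (congrArg (fun φ : Y.presheaf.stalk ((U.ι ≫ f) z) ⟶ _ => Q φ.hom)
      (Scheme.Hom.stalkMap_comp U.ι f z)) h)

theorem residueFieldMap_toAlgebra (x : X) [Algebra (Y.presheaf.stalk (f x)) (X.presheaf.stalk x)]
    [IsLocalHom (algebraMap (Y.presheaf.stalk (f x)) (X.presheaf.stalk x))]
    (h : algebraMap (Y.presheaf.stalk (f x)) (X.presheaf.stalk x) = (f.stalkMap x).hom) :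
    ((f.residueFieldMap x).hom.toAlgebra : Algebra (Y.residueField (f x)) (X.residueField x)) =
      (inferInstance : Algebra (IsLocalRing.ResidueField (Y.presheaf.stalk (f x)))
        (IsLocalRing.ResidueField (X.presheaf.stalk x))) := by
  refine Algebra.algebra_ext _ _ fun z => ?_
  obtain ⟨z, rfl⟩ := IsLocalRing.residue_surjective z
  show (f.residueFieldMap x).hom (IsLocalRing.residue _ z) = IsLocalRing.residue _ (algebraMap _ _ z)
  rw [h]
  rfl

theorem exists_opens_of_stalk [IsLocallyNoetherian Y] [LocallyOfFiniteType f] (x : X)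
    {P : MorphismProperty Scheme.{u}} {Q : ∀ {R S : Type u} [CommRing R] [CommRing S], (R →+* S) → Prop}
    [HasRingHomProperty P Q] {R' : ∀ {R S : Type u} [CommRing R] [CommRing S], (R →+* S) → Prop}
    (hQ : ∀ (A B S : Type u) [CommRing A] [CommRing B] [CommRing S] [Algebra A B] [Algebra B S]
      [Algebra A S] [IsScalarTower A B S] [IsNoetherianRing A] [Algebra.FiniteType A B]
      (q : Ideal B) [q.IsPrime] [IsLocalization.AtPrime S q], R' (algebraMap A S) →
      ∃ g ∉ q, Q (algebraMap A (Localization.Away g)))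
    (hR : ∀ (V : Y.Opens) (_ : IsAffineOpen V) (hy : f x ∈ V),
      R' (Y.presheaf.germ V (f x) hy ≫ f.stalkMap x).hom) :
    ∃ (V : Y.Opens) (W : X.Opens) (e : W ≤ f ⁻¹ᵁ V), x ∈ W ∧ P (f.resLE V W e) := by
  obtain ⟨_, ⟨V : Y.Opens, hV, rfl⟩, hxV, -⟩ :=
    Y.isBasis_affineOpens.exists_subset_of_mem_open (Set.mem_univ (f x)) isOpen_univ
  obtain ⟨_, ⟨U : X.Opens, hU, rfl⟩, hxU, hle⟩ :=
    X.isBasis_affineOpens.exists_subset_of_mem_open (show x ∈ f ⁻¹ᵁ V from hxV) (f ⁻¹ᵁ V).2
  have e : U ≤ f ⁻¹ᵁ V := hle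
  have : IsNoetherianRing Γ(Y, V) := IsLocallyNoetherian.component_noetherian ⟨V, hV⟩
  let := (f.appLE V U e).hom.toAlgebra
  have : Algebra.FiniteType Γ(Y, V) Γ(X, U) := f.finiteType_appLE hV hU e
  let q := (hU.primeIdealOf ⟨x, hxU⟩).asIdeal
  let := X.presheaf.algebra_section_stalk (⟨x, hxU⟩ : U)
  have : IsLocalization.AtPrime (X.presheaf.stalk x) q := hU.isLocalization_stalk ⟨x, hxU⟩
  let : Algebra Γ(Y, V) (X.presheaf.stalk x) := (Y.presheaf.germ V (f x) hxV ≫ f.stalkMap x).hom.toAlgebra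
  have : IsScalarTower Γ(Y, V) Γ(X, U) (X.presheaf.stalk x) := .of_algebraMap_eq' (by
    show (Y.presheaf.germ V (f x) hxV ≫ f.stalkMap x).hom = (f.appLE V U e ≫ X.presheaf.germ U x hxU).hom
    rw [Scheme.Hom.germ_stalkMap, Scheme.Hom.appLE, Category.assoc, TopCat.Presheaf.germ_res])
  obtain ⟨g, hg, hQg⟩ := hQ Γ(Y, V) Γ(X, U) (X.presheaf.stalk x) q (hR V hV hxV)
  have hxg : x ∈ X.basicOpen g := by
    have h3 : hU.primeIdealOf ⟨x, hxU⟩ ∈ PrimeSpectrum.basicOpen g := hg
    rw [← hU.fromSpec_preimage_basicOpen g] at h3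
    change hU.fromSpec (hU.primeIdealOf ⟨x, hxU⟩) ∈ X.basicOpen g at h3
    rwa [hU.fromSpec_primeIdealOf] at h3
  have eg : X.basicOpen g ≤ f ⁻¹ᵁ V := (X.basicOpen_le g).trans e
  have := hU.isLocalization_basicOpen g
  have hres : RingHom.RespectsIso Q := (HasRingHomProperty.isLocal_ringHomProperty P).respectsIso
  have hQW : Q (f.appLE V (X.basicOpen g) eg).hom := by
    let e₁ := IsLocalization.algEquiv (.powers g) (Localization.Away g) Γ(X, X.basicOpen g)
    have h1 := hres.1 (algebraMap Γ(Y, V) (Localization.Away g)) e₁.toRingEquiv hQg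
    convert h1
    rw [IsScalarTower.algebraMap_eq Γ(Y, V) Γ(X, U) (Localization.Away g), ← RingHom.comp_assoc]
    rw [show e₁.toRingEquiv.toRingHom.comp
      (algebraMap Γ(X, U) (Localization.Away g)) = algebraMap Γ(X, U) Γ(X, X.basicOpen g) from
      RingHom.ext e₁.commutes]
    exact (congrArg CommRingCat.Hom.hom (f.appLE_map e (homOfLE (X.basicOpen_le g)).op)).symm
  refine ⟨V, X.basicOpen g, eg, hxg, ?_⟩
  have : IsAffine V := hV
  have : IsAffine (X.basicOpen g) := hU.basicOpen g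
  rw [HasRingHomProperty.iff_of_isAffine (P := P),
    show (f.resLE V (X.basicOpen g) eg).appTop = V.topIso.hom ≫ f.appLE V (X.basicOpen g) eg ≫
      (X.basicOpen g).topIso.inv from Scheme.Hom.resLE_app_top f eg,
    CommRingCat.hom_comp, hres.cancel_left_isIso, CommRingCat.hom_comp, hres.cancel_right_isIso]
  exact hQW

end Groth.HensPair
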