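import Groth.Agent.HensPair.FibreIdem
import Groth.Agent.VarietyBC.Components
import Groth.Agent.VarietyBC.GlobalField
import Mathlib.AlgebraicGeometry.Morphisms.Proper
import Mathlib.RingTheory.AdjoinRoot

/-! Proper morphisms with trivial direct image of the structure sheaf have geometrically connected fibres. -/

set_option autoImplicit false
universe u

open CategoryTheory CategoryTheory.Limits AlgebraicGeometry TopologicalSpace Polynomial

namespace Groth.HensPair

/-- The closed fibre over a local ring is connected. -/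
theorem connectedSpace_closedFibre (hPF : CohFin.ProjFinite.{u}) {R : Type u} [CommRing R] [IsLocalRing R]
    {X P : Scheme.{u}} (f : X ⟶ Spec (CommRingCat.of R)) [IsProper f] (hΓ : Function.Bijective (toΓ f))
    {k : Type u} [Field k] (φ : R →+* k) (hφ : Function.Surjective φ) (a : P ⟶ X)
    (b : P ⟶ Spec (CommRingCat.of k)) (hP : IsPullback a b f (Spec.map (CommRingCat.ofHom φ))) :
    ConnectedSpace P := by
  classical
  have hker : RingHom.ker φ = IsLocalRing.maximalIdeal R :=
    IsLocalRing.eq_maximalIdeal (RingHom.ker_isMaximal_of_surjective φ hφ)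
  let ψ : IsLocalRing.ResidueField R →+* k :=
    Ideal.Quotient.lift (IsLocalRing.maximalIdeal R) φ fun x hx => hker.ge hx
  have hψ : Function.Bijective ψ :=
    ⟨ψ.injective, fun y => (hφ y).elim fun r hr => ⟨IsLocalRing.residue R r, hr⟩⟩
  let e := RingEquiv.ofBijective ψ hψ
  let ε : Spec (CommRingCat.of k) ≅ Spec (CommRingCat.of (IsLocalRing.ResidueField R)) :=
    Scheme.Spec.mapIso e.toCommRingCatIso.op
  have hε : ε.hom = Spec.map (CommRingCat.ofHom ψ) := rfl
  have hP' : IsPullback a (b ≫ ε.hom) f
      (Spec.map (CommRingCat.ofHom ((IsLocalRing.residue R).comp (algebraMap R R)))) := by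
    refine hP.of_iso (Iso.refl _) (Iso.refl _) ε (Iso.refl _) (by simp) (by simp) (by simp) ?_
    rw [Iso.refl_hom, Category.comp_id, hε, ← Spec.map_comp, ← CommRingCat.ofHom_comp]
    congr 2
  have hne : Nonempty P := by
    by_contra hne
    have : IsEmpty P := not_nonempty_iff.1 hne
    have hr : overV f (IsLocalRing.maximalIdeal R) = ∅ := by
      refine Set.eq_empty_iff_forall_notMem.2 fun x hx => ?_
      have : f x ∈ Set.range (Spec.map (CommRingCat.ofHom φ)).base := by
        refine (range_comap_of_surjective _ φ hφ).ge ?_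
        rw [hker]; exact hx
      obtain ⟨z, hz⟩ := this
      obtain ⟨p, -⟩ := Scheme.exists_preimage_of_isPullback hP x z hz.symm
      exact IsEmpty.false p
    have hX : (Set.univ : Set X) = ∅ := eq_empty_of_inter_overV f
      (le_of_eq (IsLocalRing.jacobson_eq_maximalIdeal (⊥ : Ideal R) bot_ne_top).symm) isClosed_univ
      (by rw [Set.univ_inter, hr])
    have : IsEmpty X := ⟨fun x => Set.eq_empty_iff_forall_notMem.1 hX x trivial⟩
    exact not_subsingleton R (hΓ.1.subsingleton (β := Γ(X, ⊤)))
  have hpre : PreconnectedSpace P := by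
    rw [preconnectedSpace_iff_clopen]
    intro U hU
    obtain ⟨u, hu, rfl⟩ := exists_idem_of_isClopen hU
    obtain ⟨g, t, hg, ht⟩ := exists_mul_mem_range_fibre hPF (A := R) (R := R)
      (fun r => ⟨r, 1, by simp, by simp⟩) f a _ hP' u hu
    obtain ⟨x, rfl⟩ := hΓ.2 t
    have key : ∀ r, a.appTop (toΓ f r) = toΓ b (φ r) := fun r => by
      show (f.appTop ≫ a.appTop) ((Scheme.ΓSpecIso (CommRingCat.of R)).inv r) = _
      rw [← Scheme.Hom.comp_appTop, hP.w, Scheme.Hom.comp_appTop]
      show b.appTop (((Scheme.ΓSpecIso (CommRingCat.of R)).inv ≫ (Spec.map (CommRingCat.ofHom φ)).appTop) r) = _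
      rw [← Scheme.ΓSpecIso_inv_naturality]
      rfl
    rw [key, key] at ht
    have hgu : IsUnit (φ g) := IsUnit.map φ (by simpa using hg)
    have hu' : u = toΓ b ((φ g)⁻¹ * φ x) := by
      rw [map_mul, ht, ← mul_assoc, ← map_mul, inv_mul_cancel₀ hgu.ne_zero, map_one, one_mul]
    by_cases htriv : Subsingleton Γ(P, ⊤)
    · left
      rw [Subsingleton.elim u 0, Scheme.basicOpen_zero]; rfl
    · have : Nontrivial Γ(P, ⊤) := not_subsingleton_iff_nontrivial.1 htriv
      have hc : IsIdempotentElem ((φ g)⁻¹ * φ x) := (toΓ b).injective (by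
        rw [map_mul, ← hu']; exact hu.eq)
      rcases IsIdempotentElem.iff_eq_zero_or_one.1 hc with h | h
      · left; rw [hu', h, map_zero, Scheme.basicOpen_zero]; rfl
      · right; rw [hu', h, map_one, Scheme.basicOpen_of_isUnit _ isUnit_one]; rfl
  exact { toNonempty := hne }

/-- A simple finite extension of the residue field lifts to a flat local extension with the same property. -/
theorem connectedSpace_closedFibre_adjoinRoot (hPF : CohFin.ProjFinite.{u}) {R : Type u} [CommRing R]
    [IsLocalRing R] {X : Scheme.{u}} (f : X ⟶ Spec (CommRingCat.of R)) [IsProper f]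
    (hΓ : Function.Bijective (toΓ f)) {K : Type u} [Field K] [Algebra (IsLocalRing.ResidueField R) K]
    (α : K) (hα : IsIntegral (IsLocalRing.ResidueField R) α)
    (hgen : ∀ x : K, ∃ p : (IsLocalRing.ResidueField R)[X], Polynomial.aeval α p = x) :
    ConnectedSpace ↥(pullback f (Spec.map (CommRingCat.ofHom
      ((algebraMap (IsLocalRing.ResidueField R) K).comp (IsLocalRing.residue R))))) := by
  classical
  let k := IsLocalRing.ResidueField R
  have hlift : minpoly k α ∈ Polynomial.lifts (IsLocalRing.residue R) := by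
    rw [Polynomial.lifts_iff_coeff_lifts]
    exact fun n => IsLocalRing.residue_surjective _
  obtain ⟨F, hF, hdeg, hFm⟩ := Polynomial.lifts_and_degree_eq_and_monic hlift (minpoly.monic hα)
  let B := AdjoinRoot F
  have : Module.Free R B := .of_basis (AdjoinRoot.powerBasis' hFm).basis
  have : Module.Finite R B := (AdjoinRoot.powerBasis' hFm).finite
  let ψ : B →+* K := AdjoinRoot.lift ((algebraMap k K).comp (IsLocalRing.residue R)) α (by
    rw [← Polynomial.eval₂_map, hF]
    exact minpoly.aeval k α)
  have hψ : Function.Surjective ψ := fun x => by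
    obtain ⟨p, rfl⟩ := hgen x
    obtain ⟨q, rfl⟩ : ∃ q : R[X], q.map (IsLocalRing.residue R) = p := Polynomial.map_surjective _ IsLocalRing.residue_surjective p
    refine ⟨AdjoinRoot.mk F q, ?_⟩
    rw [AdjoinRoot.lift_mk, ← Polynomial.eval₂_map]
    rfl
  have hker : RingHom.ker ψ ≤ (IsLocalRing.maximalIdeal R).map (algebraMap R B) := by
    intro y hy
    obtain ⟨q, rfl⟩ := AdjoinRoot.mk_surjective y
    rw [RingHom.mem_ker, AdjoinRoot.lift_mk, ← Polynomial.eval₂_map] at hy
    obtain ⟨c, hc⟩ := minpoly.dvd k α hy
    obtain ⟨c', rfl⟩ : ∃ c' : R[X], c'.map (IsLocalRing.residue R) = c :=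
      Polynomial.map_surjective _ IsLocalRing.residue_surjective c
    have hd : q - F * c' ∈ (IsLocalRing.maximalIdeal R).map (Polynomial.C) := by
      rw [Ideal.mem_map_C_iff]
      intro n
      rw [← IsLocalRing.residue_eq_zero_iff, ← Polynomial.coeff_map, Polynomial.map_sub,
        Polynomial.map_mul, hF, hc, sub_self, Polynomial.coeff_zero]
    have := Ideal.mem_map_of_mem (AdjoinRoot.mk F) hd
    rw [map_sub, map_mul, AdjoinRoot.mk_self, zero_mul, sub_zero, Ideal.map_map] at this
    exact this
  have : Algebra.IsIntegral R B := Algebra.IsIntegral.of_finite R B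
  have : IsLocalRing B := by
    refine IsLocalRing.of_unique_max_ideal ⟨RingHom.ker ψ, RingHom.ker_isMaximal_of_surjective ψ hψ,
      fun M hM => ?_⟩
    have hle : (IsLocalRing.maximalIdeal R).map (algebraMap R B) ≤ M :=
      Ideal.map_le_iff_le_comap.2 (le_of_eq (IsLocalRing.eq_maximalIdeal
        (Ideal.isMaximal_comap_of_isIntegral_of_isMaximal (R := R) M)).symm)
    exact ((RingHom.ker_isMaximal_of_surjective ψ hψ).eq_of_le hM.ne_top (hker.trans hle)).symm
  let σ := Spec.map (CommRingCat.ofHom (algebraMap R B))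
  let fB := pullback.snd f σ
  have : IsProper fB := MorphismProperty.pullback_snd _ _ ‹_›
  have : CompactSpace X := QuasiCompact.compactSpace_of_compactSpace f
  have : QuasiSeparatedSpace X := quasiSeparatedSpace_of_quasiSeparated f
  have : IsIso ((Scheme.ΓSpecIso (CommRingCat.of R)).inv ≫ f.appTop) :=
    (ConcreteCategory.isIso_iff_bijective _).2 hΓ
  have : IsIso f.appTop := IsIso.of_isIso_comp_left (Scheme.ΓSpecIso (CommRingCat.of R)).inv _
  have hΓB : Function.Bijective (toΓ fB) := appTop_bijective_of_isIso (B := R) (C := B) (IsPullback.of_hasPullback f σ)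
  have hcomp : ψ.comp (algebraMap R B) = (algebraMap k K).comp (IsLocalRing.residue R) :=
    RingHom.ext fun r => by
      show ψ (AdjoinRoot.of F r) = _
      exact AdjoinRoot.lift_of _
  let τ := Spec.map (CommRingCat.ofHom ψ)
  have hτ : τ ≫ σ = Spec.map (CommRingCat.ofHom ((algebraMap k K).comp (IsLocalRing.residue R))) := by
    rw [← Spec.map_comp, ← CommRingCat.ofHom_comp, hcomp]
  let c : pullback f (τ ≫ σ) ⟶ pullback f σ :=
    pullback.lift (pullback.fst _ _) (pullback.snd _ _ ≫ τ) (by rw [Category.assoc]; exact pullback.condition)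
  have hc : IsPullback c (pullback.snd f (τ ≫ σ)) fB τ := by
    refine IsPullback.of_right ?_ (pullback.lift_snd _ _ _) (IsPullback.of_hasPullback f σ)
    rw [pullback.lift_fst]
    exact IsPullback.of_hasPullback _ _
  exact hτ ▸ connectedSpace_closedFibre hPF fB hΓB ψ hψ c _ hc

/-- The closed fibre over a local ring is geometrically connected. -/
theorem geometricallyConnected_closedFibre (hPF : CohFin.ProjFinite.{u}) {R : Type u} [CommRing R]
    [IsLocalRing R] {X : Scheme.{u}} (f : X ⟶ Spec (CommRingCat.of R)) [IsProper f]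
    (hΓ : Function.Bijective (toΓ f)) :
    GeometricallyConnected (pullback.snd f (Spec.map (CommRingCat.ofHom (IsLocalRing.residue R)))) := by
  classical
  let k := IsLocalRing.ResidueField R
  let π := Spec.map (CommRingCat.ofHom (IsLocalRing.residue R))
  let P := pullback f π
  let str : P ⟶ Spec (CommRingCat.of k) := pullback.snd f π
  let _ : P.Over (Spec (CommRingCat.of k)) := ⟨str⟩
  let S := SeparableClosure k
  have hfin : ∀ E : VarietyBC.FinExt k S, ConnectedSpace (Curv2.bc k P E.1) := fun E => by
    have := E.2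
    obtain ⟨α, hα⟩ := Field.exists_primitive_element k E.1
    have hint : IsIntegral k α := Algebra.IsIntegral.isIntegral α
    have hgen : ∀ x : E.1, ∃ p : k[X], Polynomial.aeval α p = x := fun x => by
      have hx : x ∈ (IntermediateField.adjoin k {α}).toSubalgebra := by rw [hα]; trivial
      rw [IntermediateField.adjoin_simple_toSubalgebra_of_isAlgebraic hint.isAlgebraic,
        Algebra.adjoin_singleton_eq_range_aeval] at hx
      exact hx
    have h := connectedSpace_closedFibre_adjoinRoot hPF f hΓ α hint hgen
    let χ := Spec.map (CommRingCat.ofHom (algebraMap k E.1))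
    have he : χ ≫ π = Spec.map (CommRingCat.ofHom ((algebraMap k E.1).comp (IsLocalRing.residue R))) :=
      (Spec.map_comp _ _).symm
    let iso : Curv2.bc k P E.1 ≅ pullback f (χ ≫ π) := pullbackLeftPullbackSndIso f π χ
    rw [← he] at h
    exact iso.hom.homeomorph.connectedSpace_iff.2 h
  let E₀ : VarietyBC.FinExt k S := Classical.arbitrary _
  have : CompactSpace X := QuasiCompact.compactSpace_of_compactSpace f
  have : IsProper str := MorphismProperty.pullback_snd _ _ ‹_›
  have : CompactSpace P := QuasiCompact.compactSpace_of_compactSpace str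
  have hconn : ConnectedSpace (Curv2.bc k P S) := by
    have hne : Nonempty (Curv2.bc k P S) := by
      obtain ⟨z⟩ := (hfin E₀).toNonempty
      have := VarietyBC.surjective_bcMap (X := P) E₀.1.val
      exact ⟨((VarietyBC.bcMap E₀.1.val).surjective z).choose⟩
    have hpre : PreconnectedSpace (Curv2.bc k P S) := by
      rw [preconnectedSpace_iff_clopen]
      intro W hW
      by_contra hne'
      push Not at hne'
      obtain ⟨y, hy⟩ := hne'.1
      obtain ⟨y', hy'⟩ := Set.ne_univ_iff_exists_notMem _ |>.1 hne'.2
      have hopen : ∀ x : P, ∃ U : P.Opens, IsAffineOpen U ∧ x ∈ U := fun x => by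
        obtain ⟨_, ⟨U, hU, rfl⟩, hxU, -⟩ :=
          P.isBasis_affineOpens.exists_subset_of_mem_open (Set.mem_univ x) isOpen_univ
        exact ⟨U, hU, hxU⟩
      choose U hU hxU using hopen
      obtain ⟨t, ht⟩ := CompactSpace.isCompact_univ.elim_finite_subcover (fun x => ((U x : P.Opens) : Set P))
        (fun x => (U x).2) fun x _ => Set.mem_iUnion.2 ⟨x, hxU x⟩
      choose E hE using fun x => VarietyBC.exists_finExt_sep S (hU x) W Wᶜ hW.1 hW.compl.1 disjoint_compl_right
      obtain ⟨M, hM⟩ := Finset.exists_le (t.image E)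
      have hsep : ∀ w ∈ W, ∀ w' ∉ W, VarietyBC.bcMap M.1.val w ≠ VarietyBC.bcMap M.1.val w' := by
        intro w hw w' hw' he
        obtain ⟨x, hx, hwx⟩ := Set.mem_iUnion₂.1 (ht (Set.mem_univ (Curv2.bcFst k P S w)))
        refine hE x w hw w' hw' ?_ hwx
        have hle : (E x).1 ≤ M.1 := hM _ (Finset.mem_image_of_mem _ hx)
        have h := congrArg (VarietyBC.bcMap (X := P) (IntermediateField.inclusion hle)) he
        rw [VarietyBC.bcMap_comp_apply, VarietyBC.bcMap_comp_apply] at h
        exact h
      let q := VarietyBC.bcMap (X := P) M.1.val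
      have := VarietyBC.isIntegralHom_bcMap (X := P) M.1.val
      have := VarietyBC.surjective_bcMap (X := P) M.1.val
      have := hfin M
      have hcl : IsClopen (q '' W) := by
        refine ⟨q.isClosedMap _ hW.1, ?_⟩
        have he : q '' W = (q '' Wᶜ)ᶜ := by
          ext z
          constructor
          · rintro ⟨w, hw, rfl⟩ ⟨w', hw', he⟩
            exact hsep w hw w' hw' he.symm
          · intro hz
            obtain ⟨w, rfl⟩ := q.surjective z
            by_contra hw
            exact hz ⟨w, fun h => hw ⟨w, h, rfl⟩, rfl⟩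
        rw [he]
        exact (q.isClosedMap _ hW.compl.1).isOpen_compl
      rcases isClopen_iff.1 hcl with h | h
      · exact Set.eq_empty_iff_forall_notMem.1 h (q y) ⟨y, hy, rfl⟩
      · obtain ⟨w, hw, he⟩ := h.ge (Set.mem_univ (q y'))
        exact hsep w hw y' hy' he
    exact { toNonempty := hne }
  exact VarietyBC.geometricallyConnected_of_connectedSpace_bc (k := k) (X := P) S

end Groth.HensPair
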