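import Groth.Agent.HensPair.SteinEtaleNoeth
import Groth.Agent.HensPair.SteinNormalization
import Groth.Agent.Misc3Stein.Factor
import Groth.Agent.S0435

/-! The Stein factorisation of a proper flat morphism with geometrically reduced fibres is finite étale
and commutes with base change. -/

set_option autoImplicit false
set_option linter.style.haveILetI false
universe u

open CategoryTheory CategoryTheory.Limits AlgebraicGeometry

namespace Groth.HensPair.SteinEtale

theorem geometricallyReduced_openImmersion_comp {W X S : Scheme.{u}} (j : W ⟶ X) [IsOpenImmersion j]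
    (f : X ⟶ S) [GeometricallyReduced f] : GeometricallyReduced (j ≫ f) := by
  refine ⟨fun K _ s Z fst snd h => ?_⟩
  let l : Z ⟶ pullback f s := pullback.lift (fst ≫ j) snd (by rw [Category.assoc]; exact h.w)
  have h2 : IsPullback fst l j (pullback.fst f s) :=
    IsPullback.of_bot (by rwa [pullback.lift_snd]) (pullback.lift_fst _ _ _).symm
      (IsPullback.of_hasPullback f s)
  have : IsOpenImmersion l := MorphismProperty.of_isPullback h2 inferInstance
  have : IsReduced (pullback f s) :=
    GeometricallyReduced.geometrically_isReduced _ _ _ (.of_hasPullback _ _)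
  exact isReduced_of_isOpenImmersion l

/-- Finite étale algebras of functions give a finite étale normalization. -/
theorem finite_etale_fromNormalization_of_app {X S : Scheme.{u}} (f : X ⟶ S) [QuasiCompact f]
    [QuasiSeparated f] (h : ∀ U : S.Opens, IsAffineOpen U → (f.app U).hom.Finite ∧ (f.app U).hom.Etale) :
    IsFinite f.fromNormalization ∧ Etale f.fromNormalization := by
  have key : ∀ U : S.Opens, IsAffineOpen U →
      (f.fromNormalization.app U).hom.Finite ∧ (f.fromNormalization.app U).hom.Etale := by
    intro U hU
    letI := (f.app U).hom.toAlgebra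
    have htop : integralClosure Γ(S, U) Γ(X, f ⁻¹ᵁ U) = ⊤ := by
      rw [integralClosure_eq_top_iff, ← algebraMap_isIntegral_iff]
      exact RingHom.Finite.to_isIntegral (h U hU).1
    let ε := ((Subalgebra.equivOfEq _ _ htop).trans Subalgebra.topEquiv).toRingEquiv.trans
      (RingEquiv.refl Γ(X, f ⁻¹ᵁ U))
    let δ := ε.symm.trans (f.normalizationObjIso hU).commRingCatIsoToRingEquiv.symm
    have e : (f.fromNormalization.app U).hom = δ.toRingHom.comp (f.app U).hom := by
      rw [f.fromNormalization_app hU]
      ext x
      show (f.normalizationObjIso hU).inv (algebraMap Γ(S, U) (integralClosure Γ(S, U) Γ(X, f ⁻¹ᵁ U)) x) =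
        (f.normalizationObjIso hU).inv (ε.symm (f.app U x))
      congr 1
    rw [e]
    exact ⟨RingHom.Finite.comp δ.finite (h U hU).1, RingHom.Etale.respectsIso.1 _ δ (h U hU).2⟩
  refine ⟨{ finite_app := fun U hU => (key U hU).1 }, ?_⟩
  refine (IsZariskiLocalAtTarget.iff_of_openCover (P := @Etale) S.affineCover).2 fun i => ?_
  change Etale (pullback.snd f.fromNormalization (S.affineCover.f i))
  let j := S.affineCover.f i
  let V := j.opensRange
  have hV : IsAffineOpen V := isAffineOpen_opensRange j
  refine (MorphismProperty.arrow_mk_iso_iff (P := @Etale) (morphismRestrictOpensRange _ j)).1 ?_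
  have hW : IsAffineOpen (f.fromNormalization ⁻¹ᵁ V) := hV.preimage _
  have : IsAffine V.toScheme := hV
  have : IsAffine (f.fromNormalization ⁻¹ᵁ V).toScheme := hW
  rw [HasRingHomProperty.iff_of_isAffine (P := @Etale), morphismRestrict_appTop]
  erw [CommRingCat.hom_comp]
  have h0 : ∀ W : S.Opens, W = V → (f.fromNormalization.app W).hom.Etale := by
    rintro W rfl; exact (key _ hV).2
  exact RingHom.Etale.respectsIso.1 _
    (asIso (f.normalization.presheaf.map (eqToHom (image_morphismRestrict_preimage f.fromNormalization V ⊤)).op)).commRingCatIsoToRingEquiv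
    (h0 _ (Scheme.Opens.ι_image_top V))

/-- `toNormalization` inherits all properties of `f` when the normalization is étale. -/
theorem toNormalization_props {X S : Scheme.{u}} (f : X ⟶ S) [IsProper f] [Flat f]
    [LocallyOfFinitePresentation f] [GeometricallyReduced f] [Etale f.fromNormalization] :
    IsProper f.toNormalization ∧ Flat f.toNormalization ∧ LocallyOfFinitePresentation f.toNormalization ∧
      GeometricallyReduced f.toNormalization ∧ GeometricallyConnected f.toNormalization := by
  let φ := f.toNormalization
  let q := f.fromNormalization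
  have hφq : φ ≫ q = f := f.toNormalization_fromNormalization
  let l : X ⟶ pullback f q := pullback.lift (𝟙 X) φ (by rw [Category.id_comp, hφq])
  have hl : l ≫ pullback.snd f q = φ := pullback.lift_snd _ _ _
  have : Etale (l ≫ pullback.fst f q) := by rw [pullback.lift_fst]; infer_instance
  have : Etale l := Etale.of_comp l (pullback.fst f q)
  have : Mono l := mono_of_mono_fac (pullback.lift_fst (𝟙 X) φ _)
  have hlo : IsOpenImmersion l := IsOpenImmersion.of_flat_of_mono l
  have : GeometricallyReduced φ := hl ▸ geometricallyReduced_openImmersion_comp l (pullback.snd f q)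
  have : Flat φ := by rw [← hl]; infer_instance
  have : LocallyOfFinitePresentation φ := by rw [← hl]; infer_instance
  have : IsProper (φ ≫ q) := by rw [hφq]; infer_instance
  exact ⟨IsProper.of_comp φ q, ‹_›, ‹_›, ‹_›, Misc3Stein.geometricallyConnected_toNormalization f⟩

theorem etale_fromNormalization_noeth {X S : Scheme.{u}} [IsLocallyNoetherian S] (f : X ⟶ S) [IsProper f]
    [Flat f] [GeometricallyReduced f] : IsFinite f.fromNormalization ∧ Etale f.fromNormalization := by
  refine finite_etale_fromNormalization_of_app f fun U hU => ?_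
  have : IsNoetherianRing Γ(S, U) := IsLocallyNoetherian.component_noetherian ⟨U, hU⟩
  have := isProper_overAffine f hU
  have : Flat (overAffine f hU) := inferInstance
  have : GeometricallyReduced (overAffine f hU) := by
    have : IsPullback (𝟙 _) (f ∣_ U) (overAffine f hU) hU.isoSpec.hom :=
      IsPullback.of_horiz_isIso ⟨by simp⟩
    exact geometricallyReduced_of_isPullback
      (IsPullback.of_vert_isIso (fst := overAffine f hU) (snd := 𝟙 _) (f := hU.isoSpec.inv) (g := f ∣_ U) ⟨by simp⟩).flip
  obtain ⟨h1, h2⟩ := finite_etale_toΓ (overAffine f hU)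
  have e : (f.app U).hom = (f ⁻¹ᵁ U).topIso.commRingCatIsoToRingEquiv.toRingHom.comp (toΓ (overAffine f hU)) := by
    exact (congrArg CommRingCat.Hom.hom (by rw [toΓ_overAffine, Category.assoc, Iso.inv_hom_id, Category.comp_id] :
      CommRingCat.ofHom (toΓ (overAffine f hU)) ≫ (f ⁻¹ᵁ U).topIso.hom = f.app U)).symm
  rw [e]
  exact ⟨RingHom.Finite.comp (RingEquiv.finite _) h1, RingHom.Etale.respectsIso.1 _ _ h2⟩

/-- The affine general case. -/
theorem finite_etale_toΓ_general {A : CommRingCat.{u}} {X : Scheme.{u}} (f : X ⟶ Spec A) [IsProper f]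
    [Flat f] [LocallyOfFinitePresentation f] [GeometricallyReduced f] :
    f.appTop.hom.Finite ∧ f.appTop.hom.Etale := by
  obtain ⟨S₀, X₀, hS₀, q, f₀, p, hp, hp₀, hfl₀, -⟩ :=
    Groth.GrpschAbsch.H0General.exists_model f 0
  have : LocallyOfFinitePresentation f₀ := inferInstance
  let V : S₀.Opens := ⟨{y | GeometricallyReduced (f₀.fiberToSpecResidueField y)}, Groth.Agent.S0435.result f₀⟩
  have hq : Set.range q ⊆ Set.range V.ι := by
    rw [Scheme.Opens.range_ι]
    rintro _ ⟨t, rfl⟩
    have h1 : GeometricallyReduced (f.fiberToSpecResidueField t) := inferInstance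
    show GeometricallyReduced _
    rw [GeometricallyReduced.eq_geometrically] at h1 ⊢
    exact (Flatmor4.fibre_iff_of_isPullback (fun q => Flatmor4.isReduced_of_flat_of_surjective q)
      f₀ q f p hp t).1 h1
  let q₁ := IsOpenImmersion.lift V.ι q hq
  let f₁ := f₀ ∣_ V
  have hq₁ : q₁ ≫ V.ι = q := IsOpenImmersion.lift_fac _ _ _
  have sV := (isPullback_morphismRestrict f₀ V).flip
  let p₁ : X ⟶ (f₀ ⁻¹ᵁ V).toScheme := sV.lift p (f ≫ q₁) (by rw [Category.assoc, hq₁, hp.w])
  have sq₁ : IsPullback p₁ f f₁ q₁ := IsPullback.of_right
    (by rw [sV.lift_fst, hq₁]; exact hp) (sV.lift_snd _ _ _) sV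
  have : IsProper f₁ := IsZariskiLocalAtTarget.restrict hp₀ V
  have : Flat f₁ := inferInstance
  have : GeometricallyReduced f₁ := by
    rw [GeometricallyReduced.eq_geometrically, geometrically_iff_forall_fiberToSpecResidueField]
    intro y
    rw [Flatmor4.fibre_iff_of_isPullback (fun q => Flatmor4.isReduced_of_flat_of_surjective q) f₀ V.ι
      f₁ (f₀ ⁻¹ᵁ V).ι sV y]
    have : GeometricallyReduced (f₀.fiberToSpecResidueField (V.ι y)) := y.2
    rwa [GeometricallyReduced.eq_geometrically] at this
  have : IsLocallyNoetherian V.toScheme := isLocallyNoetherian_of_isOpenImmersion V.ι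
  obtain ⟨hfin, het⟩ := etale_fromNormalization_noeth f₁
  obtain ⟨hφ1, hφ2, hφ3, hφ4, hφ5⟩ := toNormalization_props f₁
  let E := pullback f₁.fromNormalization q₁
  let a : X ⟶ E := pullback.lift (p₁ ≫ f₁.toNormalization) f
    (by rw [Category.assoc, f₁.toNormalization_fromNormalization, sq₁.w])
  have ha2 : a ≫ pullback.snd _ _ = f := pullback.lift_snd _ _ _
  have sqa : IsPullback p₁ a f₁.toNormalization (pullback.fst f₁.fromNormalization q₁) := by
    refine IsPullback.of_bot ?_ (pullback.lift_fst _ _ _).symm
      (IsPullback.of_hasPullback f₁.fromNormalization q₁)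
    rw [ha2, f₁.toNormalization_fromNormalization]
    exact sq₁
  have : IsProper a := MorphismProperty.of_isPullback sqa hφ1
  have : Flat a := MorphismProperty.of_isPullback sqa hφ2
  have : LocallyOfFinitePresentation a := MorphismProperty.of_isPullback sqa hφ3
  have : GeometricallyReduced a := MorphismProperty.of_isPullback sqa hφ4
  have : GeometricallyConnected a := MorphismProperty.of_isPullback sqa hφ5
  have hb := GrpschAbsch.H0General.appTop_bijective a
  let e := pullback.snd f₁.fromNormalization q₁
  have : IsFinite e := inferInstance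
  have : Etale e := inferInstance
  have : IsAffine E := isAffine_of_isAffineHom e
  have he1 : e.appTop.hom.Finite := IsFinite.finite_app (f := e) ⊤ (isAffineOpen_top _)
  have he2 : e.appTop.hom.Etale := HasRingHomProperty.appTop (P := @Etale) e inferInstance
  rw [← ha2, Scheme.Hom.comp_appTop, CommRingCat.hom_comp]
  exact ⟨RingHom.Finite.comp (RingHom.Finite.of_surjective _ hb.2) he1,
    RingHom.Etale.respectsIso.1 _ (RingEquiv.ofBijective _ hb) he2⟩

/-- The Stein factor is finite étale. -/
theorem etale_fromNormalization {X S : Scheme.{u}} (f : X ⟶ S) [IsProper f]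
    [Flat f] [LocallyOfFinitePresentation f] [GeometricallyReduced f] :
    IsFinite f.fromNormalization ∧ Etale f.fromNormalization := by
  refine finite_etale_fromNormalization_of_app f fun U hU => ?_
  have := isProper_overAffine f hU
  have : GeometricallyReduced (overAffine f hU) := by
    exact geometricallyReduced_of_isPullback
      (IsPullback.of_vert_isIso (fst := overAffine f hU) (snd := 𝟙 _) (f := hU.isoSpec.inv) (g := f ∣_ U) ⟨by simp⟩).flip
  obtain ⟨h1, h2⟩ := finite_etale_toΓ_general (overAffine f hU)
  have h3 : f.app U = (Scheme.ΓSpecIso (CommRingCat.of Γ(S, U))).inv ≫ (overAffine f hU).appTop ≫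
      (f ⁻¹ᵁ U).topIso.hom := by
    rw [← Category.assoc]
    show _ = CommRingCat.ofHom (toΓ (overAffine f hU)) ≫ _
    rw [toΓ_overAffine, Category.assoc, Iso.inv_hom_id, Category.comp_id]
  rw [h3, CommRingCat.hom_comp, CommRingCat.hom_comp]
  exact ⟨RingHom.Finite.comp (RingHom.Finite.comp (RingEquiv.finite (f ⁻¹ᵁ U).topIso.commRingCatIsoToRingEquiv) h1)
      (RingEquiv.finite (Scheme.ΓSpecIso (CommRingCat.of Γ(S, U))).symm.commRingCatIsoToRingEquiv),
    RingHom.Etale.respectsIso.2 _ (Scheme.ΓSpecIso (CommRingCat.of Γ(S, U))).symm.commRingCatIsoToRingEquiv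
      (RingHom.Etale.respectsIso.1 _ (f ⁻¹ᵁ U).topIso.commRingCatIsoToRingEquiv h2)⟩

/-- Stein factorisation commutes with base change. -/
theorem isIso_normalizationPullback {X S T : Scheme.{u}} (f : X ⟶ S) [IsProper f] [Flat f]
    [LocallyOfFinitePresentation f] [GeometricallyReduced f] (g : T ⟶ S) :
    IsIso (f.normalizationPullback g) := by
  obtain ⟨-, het⟩ := etale_fromNormalization f
  obtain ⟨hφ1, hφ2, hφ3, hφ4, hφ5⟩ := toNormalization_props f
  let c := f.normalizationPullback g
  let a := (pullback.snd f g).toNormalization ≫ c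
  have sqa : IsPullback (pullback.fst f g) a f.toNormalization (pullback.fst f.fromNormalization g) := by
    refine IsPullback.of_bot ?_ ?_ (IsPullback.of_hasPullback f.fromNormalization g)
    · rw [Category.assoc, f.normalizationPullback_snd, Scheme.Hom.toNormalization_fromNormalization,
        Scheme.Hom.toNormalization_fromNormalization]
      exact IsPullback.of_hasPullback f g
    · rw [Category.assoc, f.toNormalization_normalizationPullback_fst]
  have : IsProper a := MorphismProperty.of_isPullback sqa hφ1
  have : Flat a := MorphismProperty.of_isPullback sqa hφ2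
  have : LocallyOfFinitePresentation a := MorphismProperty.of_isPullback sqa hφ3
  have : GeometricallyReduced a := MorphismProperty.of_isPullback sqa hφ4
  have : GeometricallyConnected a := MorphismProperty.of_isPullback sqa hφ5
  refine (IsZariskiLocalAtTarget.iff_of_openCover (P := MorphismProperty.isomorphisms Scheme)
    (pullback f.fromNormalization g).affineCover).2 fun i => ?_
  let j := (pullback f.fromNormalization g).affineCover.f i
  refine (MorphismProperty.arrow_mk_iso_iff (P := MorphismProperty.isomorphisms Scheme) (morphismRestrictOpensRange _ j)).1 ?_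
  show IsIso (c ∣_ j.opensRange)
  have hW : IsAffineOpen j.opensRange := isAffineOpen_opensRange j
  have : IsAffineHom c := inferInstance
  refine (isIso_morphismRestrict_iff_isIso_app c hW).2 ?_
  have h1 : IsIso (a.app j.opensRange) :=
    (ConcreteCategory.isIso_iff_bijective _).2 (GrpschAbsch.H0General.app_bijective a j.opensRange)
  rw [show a.app j.opensRange = c.app j.opensRange ≫
    (pullback.snd f g).toNormalization.app (c ⁻¹ᵁ j.opensRange) from Scheme.Hom.comp_app _ _ _] at h1
  have := isIso_toNormalization_app (pullback.snd f g) (c ⁻¹ᵁ j.opensRange)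
  exact @IsIso.of_isIso_comp_right _ _ _ _ _ _ _ this h1

end Groth.HensPair.SteinEtale
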