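import Groth.Agent.HensPair.SteinNormalization
import Groth.Prelude.Def_ega3
import Mathlib.AlgebraicGeometry.Morphisms.UniversallyInjective
import Mathlib.AlgebraicGeometry.FunctionField

/-! When the Stein factor is radicial. -/

set_option autoImplicit false
universe u

open CategoryTheory CategoryTheory.Limits AlgebraicGeometry TopologicalSpace Opposite

namespace Groth.HensPair

variable {X N Y : Scheme.{u}}

/-- Composing with a radicial surjection keeps geometric connectedness. -/
theorem geometricallyConnected_comp (ν : X ⟶ N) (g : N ⟶ Y) [GeometricallyConnected ν]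
    [UniversallyInjective g] [Surjective g] : GeometricallyConnected (ν ≫ g) := by
  refine ⟨fun K _ σ Z fst snd h => ?_⟩
  let Q := pullback g σ
  have : Subsingleton Q := by
    have : UniversallyInjective (pullback.snd g σ) := MorphismProperty.pullback_snd _ _ ‹_›
    exact (pullback.snd g σ).injective.subsingleton
  have : Nonempty Q := by
    have : Surjective (pullback.snd g σ) := MorphismProperty.pullback_snd _ _ ‹_›
    obtain ⟨q, -⟩ := (pullback.snd g σ).surjective (Classical.arbitrary _)
    exact ⟨q⟩
  let l : Z ⟶ Q := pullback.lift (fst ≫ ν) snd (by rw [Category.assoc, h.w])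
  have hl : IsPullback fst l ν (pullback.fst g σ) := by
    refine IsPullback.of_bot ?_ (pullback.lift_fst _ _ _).symm (IsPullback.of_hasPullback g σ).flip.flip
    rw [pullback.lift_snd]
    exact h
  have : GeometricallyConnected l := MorphismProperty.of_isPullback hl ‹_›
  exact GeometricallyConnected.connectedSpace_of_subsingleton l

theorem eq_of_appLE_eq {T : Scheme.{u}} {V : N.Opens} (hV : IsAffineOpen V) (a b : T ⟶ N)
    (ha : (⊤ : T.Opens) ≤ a ⁻¹ᵁ V) (hb : (⊤ : T.Opens) ≤ b ⁻¹ᵁ V)
    (h : a.appLE V ⊤ ha = b.appLE V ⊤ hb) : a = b := by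
  have : IsAffine V.toScheme := hV
  have key : ∀ (c : T ⟶ N) (hc : (⊤ : T.Opens) ≤ c ⁻¹ᵁ V), ∃ c' : T ⟶ V.toScheme,
      c' ≫ V.ι = c ∧ c'.appTop = V.topIso.hom ≫ c.appLE V ⊤ hc := by
    intro c hc
    have hr : Set.range c ⊆ Set.range V.ι := by
      rw [Scheme.Opens.range_ι]; rintro _ ⟨t, rfl⟩; exact hc (Set.mem_univ t)
    refine ⟨IsOpenImmersion.lift V.ι c hr, IsOpenImmersion.lift_fac _ _ _, ?_⟩
    generalize hl : IsOpenImmersion.lift V.ι c hr = l
    have hfac : l ≫ V.ι = c := by rw [← hl]; exact IsOpenImmersion.lift_fac _ _ _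
    subst hfac
    rw [← Scheme.Hom.appLE_comp_appLE l V.ι V ⊤ ⊤ (by simp) (by simp)]
    have h1 : V.ι.appLE V ⊤ (by simp) = V.topIso.inv := by
      rw [Scheme.Opens.ι_appLE, Scheme.Opens.topIso_inv]
      rfl
    rw [h1, Iso.hom_inv_id_assoc]
    simp [Scheme.Hom.appLE, Scheme.Hom.appTop]
  obtain ⟨a', ha', hat⟩ := key a ha
  obtain ⟨b', hb', hbt⟩ := key b hb
  have : a' = b' := ext_of_isAffine (by rw [hat, hbt, h])
  rw [← ha', ← hb', this]

/-- The generic point of an irreducible space goes to that of the target along a dominant map. -/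
theorem apply_genericPoint [IrreducibleSpace N] [IrreducibleSpace X] (ν : X ⟶ N) [IsDominant ν] :
    ν (genericPoint X) = genericPoint N := by
  have h : IsGenericPoint (ν (genericPoint X)) (Set.univ : Set N) := by
    have h1 := (genericPoint_spec X).image ν.continuous
    rwa [Set.image_univ, ν.denseRange.closure_range] at h1
  exact h.eq (genericPoint_spec N)

/-- The only point of an irreducible scheme finite over the base above the generic point. -/
theorem eq_genericPoint_of_apply_eq [IrreducibleSpace N] [IrreducibleSpace Y] (g : N ⟶ Y) [IsFinite g]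
    [IsDominant g] {n : N} (hn : g n = genericPoint Y) : n = genericPoint N := by
  let η : ↥(g.base ⁻¹' {genericPoint Y}) := ⟨genericPoint N, apply_genericPoint g⟩
  let m : ↥(g.base ⁻¹' {genericPoint Y}) := ⟨n, hn⟩
  have hs : η ⤳ m := (subtype_specializes_iff η m).2 ((genericPoint_spec N).specializes (Set.mem_univ n))
  have : DiscreteTopology ↥(g.base ⁻¹' {genericPoint Y}) :=
    (g.fiberHomeo (genericPoint Y)).symm.isEmbedding.discreteTopology
  exact (congrArg Subtype.val hs.eq).symm

/-- Every point of `N ×_Y N` lies on the diagonal if `X ×_Y N` has no component missing the generic point. -/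
theorem surjective_diagonal_of_dense (ν : X ⟶ N) [Surjective ν] (g : N ⟶ Y) [IsFinite g] [IsDominant g]
    [IrreducibleSpace N] [IrreducibleSpace Y]
    (hcomp : ∀ Z ∈ irreducibleComponents ↥(pullback (ν ≫ g) g), Dense ((pullback.snd (ν ≫ g) g).base '' Z))
    (hgen : ∀ (K : Type u) [Field K] (a b : Spec (CommRingCat.of K) ⟶ N), a ≫ g = b ≫ g →
      (∀ z, a z = genericPoint N) → (∀ z, b z = genericPoint N) → a = b) :
    Surjective (pullback.diagonal g) := by
  constructor
  intro w
  let m : pullback (ν ≫ g) g ⟶ pullback g g :=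
    pullback.map (ν ≫ g) g g g ν (𝟙 N) (𝟙 Y) (by simp) (by simp)
  have hm : IsPullback (pullback.fst (ν ≫ g) g) m ν (pullback.fst g g) := by
    refine IsPullback.of_bot ?_ (pullback.lift_fst _ _ _).symm (IsPullback.of_hasPullback g g)
    rw [pullback.lift_snd, Category.comp_id]
    exact IsPullback.of_hasPullback _ _
  have : Surjective m := MorphismProperty.of_isPullback hm ‹_›
  obtain ⟨z, rfl⟩ := m.surjective w
  have hΔ : IsClosed (Set.range (pullback.diagonal g)) := (pullback.diagonal g).isClosedMap.isClosed_range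
  -- the generic point of a component through `z`
  let Z := irreducibleComponent z
  have hZi : IsIrreducible Z := isIrreducible_irreducibleComponent
  have hζ := hZi.isGenericPoint_genericPoint isClosed_irreducibleComponent
  let ζ := hZi.genericPoint
  have hsnd : pullback.snd (ν ≫ g) g ζ = genericPoint N := by
    have h1 := hcomp Z (irreducibleComponent_mem_irreducibleComponents z)
    have h2 : IsGenericPoint (pullback.snd (ν ≫ g) g ζ) (Set.univ : Set N) := by
      have := hζ.image (pullback.snd (ν ≫ g) g).continuous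
      rwa [h1.closure_eq] at this
    exact h2.eq (genericPoint_spec N)
  suffices hmζ : m ζ ∈ Set.range (pullback.diagonal g) from
    ((hζ.specializes mem_irreducibleComponent).map m.continuous).mem_closed hΔ hmζ
  let w₀ := m ζ
  have h2 : pullback.snd g g w₀ = genericPoint N := by
    show (m ≫ pullback.snd g g) ζ = _
    rw [pullback.lift_snd, Category.comp_id]
    exact hsnd
  have h1 : pullback.fst g g w₀ = genericPoint N := by
    refine eq_genericPoint_of_apply_eq g ?_
    show (pullback.fst g g ≫ g) w₀ = _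
    rw [pullback.condition, Scheme.Hom.comp_apply, h2]
    exact apply_genericPoint g
  let s := (pullback g g).fromSpecResidueField w₀
  have hab := hgen ((pullback g g).residueField w₀) (s ≫ pullback.fst g g) (s ≫ pullback.snd g g)
    (by rw [Category.assoc, Category.assoc, pullback.condition])
    (fun t => by rw [Scheme.Hom.comp_apply]; exact (congrArg _ (Scheme.fromSpecResidueField_apply w₀ t)).trans h1)
    (fun t => by rw [Scheme.Hom.comp_apply]; exact (congrArg _ (Scheme.fromSpecResidueField_apply w₀ t)).trans h2)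
  have hs : (s ≫ pullback.fst g g) ≫ pullback.diagonal g = s := by
    refine pullback.hom_ext ?_ ?_
    · rw [Category.assoc, pullback.diagonal_fst, Category.comp_id]
    · rw [Category.assoc, pullback.diagonal_snd, Category.comp_id]
      exact hab
  let t : Spec ((pullback g g).residueField w₀) := IsLocalRing.closedPoint _
  exact ⟨(s ≫ pullback.fst g g) t, (congr($(hs) t)).trans (Scheme.fromSpecResidueField_apply w₀ t)⟩

variable [IsIntegral X] [IsIntegral Y]

/-- Functions on the Stein factor are purely inseparable over those of the base. -/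
theorem exists_pow_mul_eq (f : X ⟶ Y) [IsProper f] (hdom : f.base (genericPoint X) ⤳ genericPoint Y)
    (hrad : ∀ x : X.functionField,
      (∃ q : Polynomial Y.functionField, q ≠ 0 ∧
        Polynomial.eval₂ (CohIII.stalkToFunctionField f (genericPoint Y) hdom) x q = 0) →
      ∃ e : ℕ, x ^ (ringExpChar X.functionField ^ e) ∈
        Set.range (CohIII.stalkToFunctionField f (genericPoint Y) hdom))
    {U : Y.Opens} (hU : IsAffineOpen U) (hη : genericPoint Y ∈ U) :
    ExpChar Γ(Y, U) (ringExpChar X.functionField) ∧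
      ∀ b : Γ(f.normalization, f.fromNormalization ⁻¹ᵁ U), ∃ (e : ℕ) (c d : Γ(Y, U)), d ≠ 0 ∧
        b ^ (ringExpChar X.functionField ^ e) * f.fromNormalization.app U d = f.fromNormalization.app U c := by
  have hξ : genericPoint X ∈ f ⁻¹ᵁ U := hdom.mem_open U.2 hη
  have : Nonempty U := ⟨⟨_, hη⟩⟩
  have : Nonempty (f ⁻¹ᵁ U) := ⟨⟨_, hξ⟩⟩
  let ν := f.toNormalization
  let g := f.fromNormalization
  let σ := CohIII.stalkToFunctionField f (genericPoint Y) hdom
  have he : f ⁻¹ᵁ U = ν ⁻¹ᵁ g ⁻¹ᵁ U := by
    rw [← Scheme.Hom.comp_preimage, Scheme.Hom.toNormalization_fromNormalization]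
  let ι := ν.appLE (g ⁻¹ᵁ U) (f ⁻¹ᵁ U) he.le
  have : IsIso ι := by
    have := isIso_toNormalization_app_preimage f hU
    have h : ι = ν.app (g ⁻¹ᵁ U) ≫ X.presheaf.map (eqToHom he).op := by
      rw [Scheme.Hom.app_eq_appLE, Scheme.Hom.appLE_map]
    rw [h]
    infer_instance
  let ψ : Γ(f.normalization, g ⁻¹ᵁ U) →+* X.functionField :=
    (X.germToFunctionField (f ⁻¹ᵁ U)).hom.comp ι.hom
  have hψ : Function.Injective ψ :=
    (X.germToFunctionField_injective _).comp (ConcreteCategory.bijective_of_isIso ι).1
  have hσ : ∀ a, ψ (g.app U a) = σ (Y.germToFunctionField U a) := fun a => by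
    have h1 : g.app U ≫ ι = f.app U := by
      simp only [ι, g, ν, Scheme.Hom.app_eq_appLE, Scheme.Hom.appLE_comp_appLE,
        Scheme.Hom.toNormalization_fromNormalization]
    show X.germToFunctionField (f ⁻¹ᵁ U) ((g.app U ≫ ι) a) = f.stalkMap (genericPoint X)
      (Y.presheaf.stalkSpecializes hdom (Y.presheaf.germ U (genericPoint Y) hη a))
    rw [h1, TopCat.Presheaf.germ_stalkSpecializes_apply, Scheme.Hom.germ_stalkMap_apply]
  have hexp : ExpChar Γ(Y, U) (ringExpChar X.functionField) :=
    ((σ.comp (Y.germToFunctionField U).hom).expChar_iff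
      (σ.injective.comp (Y.germToFunctionField_injective U)) _).2 inferInstance
  refine ⟨hexp, fun b => ?_⟩
  obtain ⟨P, hP, hP0⟩ : (g.app U).hom.IsIntegralElem b := by
    exact IsIntegralHom.isIntegral_app g U hU b
  obtain ⟨e, r, hr⟩ := hrad (ψ b) ⟨P.map (Y.germToFunctionField U).hom,
    (hP.map _).ne_zero, by
      rw [Polynomial.eval₂_map]
      have h2 := Polynomial.hom_eval₂ P (g.app U).hom ψ b
      rw [hP0, map_zero] at h2
      rw [show σ.comp (Y.germToFunctionField U).hom = ψ.comp (g.app U).hom from
        RingHom.ext fun a => (hσ a).symm]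
      exact h2.symm⟩
  have := functionField_isFractionRing_of_isAffineOpen Y U hU
  obtain ⟨⟨c, d⟩, hcd⟩ := IsLocalization.surj (nonZeroDivisors Γ(Y, U)) (S := Y.functionField) r
  refine ⟨e, c, d, nonZeroDivisors.ne_zero d.2, hψ ?_⟩
  rw [map_mul, map_pow, hσ, hσ, ← hr, ← map_mul]
  exact congrArg σ hcd

theorem eq_of_apply_eq_genericPoint (f : X ⟶ Y) [IsProper f] [IsLocallyNoetherian Y] (hPF : CohFin.ProjFinite.{u})
    (hdom : f.base (genericPoint X) ⤳ genericPoint Y)
    (hrad : ∀ x : X.functionField,
      (∃ q : Polynomial Y.functionField, q ≠ 0 ∧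
        Polynomial.eval₂ (CohIII.stalkToFunctionField f (genericPoint Y) hdom) x q = 0) →
      ∃ e : ℕ, x ^ (ringExpChar X.functionField ^ e) ∈
        Set.range (CohIII.stalkToFunctionField f (genericPoint Y) hdom))
    (K : Type u) [Field K] (a b : Spec (CommRingCat.of K) ⟶ f.normalization)
    (hab : a ≫ f.fromNormalization = b ≫ f.fromNormalization)
    (ha : ∀ z, a z = genericPoint f.normalization) (hb : ∀ z, b z = genericPoint f.normalization) : a = b := by
  let g := f.fromNormalization
  obtain ⟨_, ⟨U, hU, rfl⟩, hη, -⟩ :=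
    Y.isBasis_affineOpens.exists_subset_of_mem_open (Set.mem_univ (genericPoint Y)) isOpen_univ
  replace hU : IsAffineOpen U := hU
  have hξ : f (genericPoint X) = genericPoint Y :=
    (hdom.antisymm ((genericPoint_spec Y).specializes (Set.mem_univ _))).eq
  have hgη : g (genericPoint f.normalization) = genericPoint Y := by
    rw [← apply_genericPoint f.toNormalization, ← Scheme.Hom.comp_apply,
      Scheme.Hom.toNormalization_fromNormalization, hξ]
  have : Nonempty U := ⟨⟨_, hη⟩⟩
  have haV : (⊤ : (Spec (CommRingCat.of K)).Opens) ≤ a ⁻¹ᵁ g ⁻¹ᵁ U := fun z _ => by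
    show g (a z) ∈ U
    rw [ha, hgη]; exact hη
  have hbV : (⊤ : (Spec (CommRingCat.of K)).Opens) ≤ b ⁻¹ᵁ g ⁻¹ᵁ U := fun z _ => by
    show g (b z) ∈ U
    rw [hb, hgη]; exact hη
  refine eq_of_appLE_eq (hU.preimage g) a b haV hbV (CommRingCat.hom_ext (RingHom.ext fun x => ?_))
  obtain ⟨hexp, hins⟩ := exists_pow_mul_eq f hdom hrad hU hη
  obtain ⟨e, c, d, hd, he⟩ := hins x
  let e₀ : Γ(Spec (CommRingCat.of K), ⊤) →+* K := (Scheme.ΓSpecIso (CommRingCat.of K)).hom.hom
  let φa : Γ(f.normalization, g ⁻¹ᵁ U) →+* K := e₀.comp (a.appLE (g ⁻¹ᵁ U) ⊤ haV).hom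
  let φb : Γ(f.normalization, g ⁻¹ᵁ U) →+* K := e₀.comp (b.appLE (g ⁻¹ᵁ U) ⊤ hbV).hom
  refine (ConcreteCategory.bijective_of_isIso (Scheme.ΓSpecIso (CommRingCat.of K)).hom).1 ?_
  show φa x = φb x
  have heq : ∀ y, φa (g.app U y) = φb (g.app U y) := fun y => by
    show e₀ ((g.app U ≫ a.appLE _ _ haV) y) = e₀ ((g.app U ≫ b.appLE _ _ hbV) y)
    simp only [Scheme.Hom.app_eq_appLE, Scheme.Hom.appLE_comp_appLE]
    congr 3
    simp only [g, hab]
  have hne : ∀ y : Γ(Y, U), y ≠ 0 → φa (g.app U y) ≠ 0 := fun y hy h0 => by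
    have hgen : genericPoint Y ∈ Y.basicOpen y := by
      rw [Y.mem_basicOpen y _ hη]
      exact isUnit_iff_ne_zero.2 fun h => hy (Y.germToFunctionField_injective U (by rw [map_zero]; exact h))
    have hu : ⊤ ≤ (Spec (CommRingCat.of K)).basicOpen (a.appLE (g ⁻¹ᵁ U) ⊤ haV (g.app U y)) := fun z _ => by
      rw [Scheme.Hom.appLE, ConcreteCategory.comp_apply, Scheme.basicOpen_res, ← Scheme.preimage_basicOpen,
        ← Scheme.preimage_basicOpen]
      refine ⟨trivial, ?_⟩
      show g (a z) ∈ Y.basicOpen y
      rw [ha, hgη]; exact hgen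
    have h1 : a.appLE (g ⁻¹ᵁ U) ⊤ haV (g.app U y) = 0 :=
      (ConcreteCategory.bijective_of_isIso (Scheme.ΓSpecIso (CommRingCat.of K)).hom).1 (h0.trans (map_zero _).symm)
    rw [h1, Scheme.basicOpen_zero] at hu
    exact hu (Set.mem_univ (Classical.arbitrary _))
  have : ExpChar K (ringExpChar X.functionField) := by
    have hinj : Function.Injective (φa.comp (g.app U).hom) :=
      (injective_iff_map_eq_zero _).2 fun y hy => by_contra fun h => hne y h hy
    exact expChar_of_injective_ringHom hinj _
  have h1 := congrArg φa he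
  have h2 := congrArg φb he
  rw [map_mul, map_pow] at h1 h2
  rw [← heq, ← heq] at h2
  have h3 := mul_right_cancel₀ (hne d hd) (h1.trans h2.symm)
  rw [← sub_eq_zero, ← sub_pow_expChar_pow] at h3
  exact sub_eq_zero.1 (pow_eq_zero_iff'.1 h3).1

/-- The universally open case of Zariski connectedness. -/
theorem geometricallyConnected_of_univOpen (f : X ⟶ Y) [IsProper f] [IsLocallyNoetherian Y]
    (hPF : CohFin.ProjFinite.{u}) (hdom : f.base (genericPoint X) ⤳ genericPoint Y)
    (hopen : ∀ (Y' : Scheme.{u}) (g : Y' ⟶ Y), IrreducibleSpace ↥Y' → IsLocallyNoetherian Y' →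
      IsDominant g → ∀ Z ∈ irreducibleComponents ↥(pullback f g), Dense ((pullback.snd f g).base '' Z))
    (hrad : ∀ x : X.functionField,
      (∃ q : Polynomial Y.functionField, q ≠ 0 ∧
        Polynomial.eval₂ (CohIII.stalkToFunctionField f (genericPoint Y) hdom) x q = 0) →
      ∃ e : ℕ, x ^ (ringExpChar X.functionField ^ e) ∈
        Set.range (CohIII.stalkToFunctionField f (genericPoint Y) hdom)) :
    GeometricallyConnected f := by
  have := isFinite_fromNormalization f hPF
  have := geometricallyConnected_toNormalization f hPF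
  let g := f.fromNormalization
  have hfd : IsDominant f := by
    have hξ : f (genericPoint X) = genericPoint Y :=
      (hdom.antisymm ((genericPoint_spec Y).specializes (Set.mem_univ _))).eq
    exact ⟨fun y => closure_mono (Set.singleton_subset_iff.2 (show genericPoint Y ∈ Set.range f from ⟨_, hξ⟩)) ((genericPoint_spec Y).specializes (Set.mem_univ y)).mem_closure⟩
  have : IsDominant g := by
    have : IsDominant (f.toNormalization ≫ g) := by
      rw [Scheme.Hom.toNormalization_fromNormalization]; exact hfd
    exact IsDominant.of_comp f.toNormalization g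
  have hνg := f.toNormalization_fromNormalization
  have : IsLocallyNoetherian f.normalization := LocallyOfFiniteType.isLocallyNoetherian g
  have hd : Surjective (pullback.diagonal g) := by
    refine surjective_diagonal_of_dense f.toNormalization g ?_
      fun K _ a b => eq_of_apply_eq_genericPoint f hPF hdom hrad K a b
    have h := hopen f.normalization g inferInstance inferInstance inferInstance
    convert h using 4 <;> rw [hνg]
  have : UniversallyInjective g := (UniversallyInjective.iff_diagonal g).2 hd
  have : Surjective g := by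
    refine ⟨fun y => ?_⟩
    have : y ∈ closure (Set.range g) := g.denseRange y
    rwa [g.isClosedMap.isClosed_range.closure_eq] at this
  exact hνg ▸ geometricallyConnected_comp f.toNormalization g

end Groth.HensPair
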