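import Groth.Agent.HensPair.UnibranchGenericFibre
import Mathlib.AlgebraicGeometry.Noetherian
import Mathlib.AlgebraicGeometry.Morphisms.Flat
import Mathlib.Topology.Sober

/-! Connectedness of complements for flat morphisms with geometrically reduced fibres over a
geometrically unibranch scheme. -/

set_option autoImplicit false
universe u

open CategoryTheory CategoryTheory.Limits AlgebraicGeometry TopologicalSpace Topology IsLocalRing

namespace Groth.HensPair.UnibranchIdem

theorem exists_specializes_of_mem_closure_open {α : Type*} [TopologicalSpace α] [NoetherianSpace α]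
    [QuasiSober α] [T0Space α] {U : Set α} (hU : IsOpen U) {x : α} (hx : x ∈ closure U) :
    ∃ g ∈ U, g ⤳ x := by
  have : QuasiSober U := hU.isOpenEmbedding_subtypeVal.quasiSober
  have : NoetherianSpace U := inferInstance
  have hfin : (genericPoints (↥U)).Finite :=
    genericPoints.finite NoetherianSpace.finite_irreducibleComponents
  have hsub : U ⊆ closure (Subtype.val '' genericPoints (↥U)) := fun u hu =>
    image_closure_subset_closure_image continuous_subtype_val
      ⟨⟨u, hu⟩, by rw [genericPoints.closure]; trivial, rfl⟩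
  have hx' := closure_minimal hsub isClosed_closure hx
  rw [← Set.biUnion_of_singleton (Subtype.val '' genericPoints (↥U)),
    (hfin.image _).closure_biUnion] at hx'
  simp only [Set.mem_iUnion] at hx'
  obtain ⟨_, ⟨g, -, rfl⟩, hg⟩ := hx'
  exact ⟨g.1, g.2, specializes_iff_mem_closure.2 hg⟩

theorem interior_nonempty_of_mem_maximal {α : Type*} [TopologicalSpace α] [NoetherianSpace α]
    [QuasiSober α] [T0Space α] {η : α} (hmax : ∀ z, z ⤳ η → z = η) {V : Set α} (hV : IsClosed V)
    (hη : η ∈ V) : (interior V).Nonempty := by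
  obtain ⟨o, ho, hne, hoZ⟩ := NoetherianSpace.exists_isOpen_nonempty_subset_irreducibleComponent
    (irreducibleComponent η) (irreducibleComponent_mem_irreducibleComponents η)
  have hg := IsIrreducible.isGenericPoint_genericPoint (isIrreducible_irreducibleComponent (x := η))
    isClosed_irreducibleComponent
  have := hmax _ (hg.specializes mem_irreducibleComponent)
  refine hne.mono (interior_maximal (hoZ.trans ?_) ho)
  rw [← hg.def, this]
  exact closure_minimal (Set.singleton_subset_iff.2 hη) hV

theorem exists_noetherian_nbhd {X : Scheme.{u}} [IsLocallyNoetherian X] (x : X) :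
    ∃ W : X.Opens, x ∈ W ∧ NoetherianSpace W := by
  obtain ⟨_, ⟨W, hW, rfl⟩, hxW, -⟩ := X.isBasis_affineOpens.exists_subset_of_mem_open
    (Set.mem_univ x) isOpen_univ
  have : IsNoetherianRing Γ(X, W) := IsLocallyNoetherian.component_noetherian ⟨W, hW⟩
  exact ⟨W, hxW, noetherianSpace_of_isAffineOpen W hW⟩

theorem exists_specializes_of_mem_closure {X : Scheme.{u}} [IsLocallyNoetherian X] {U : Set X}
    (hU : IsOpen U) {x : X} (hx : x ∈ closure U) : ∃ g ∈ U, g ⤳ x := by
  obtain ⟨W, hxW, _⟩ := exists_noetherian_nbhd x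
  have : QuasiSober (W : Set X) := W.isOpen.isOpenEmbedding_subtypeVal.quasiSober
  have : NoetherianSpace (W : Set X) := ‹NoetherianSpace W›
  have hx' : (⟨x, hxW⟩ : (W : Set X)) ∈ closure (Subtype.val ⁻¹' U) := by
    rw [W.isOpen.isOpenEmbedding_subtypeVal.isOpenMap.preimage_closure_eq_closure_preimage
      continuous_subtype_val U |>.symm]
    exact hx
  obtain ⟨g, hg, hgx⟩ := exists_specializes_of_mem_closure_open
    (hU.preimage continuous_subtype_val) hx'
  exact ⟨g.1, hg, hgx.map continuous_subtype_val⟩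

theorem notMem_of_interior_eq_empty {Y : Scheme.{u}} [IsLocallyNoetherian Y] {η : Y}
    (hmax : ∀ z, z ⤳ η → z = η) {V : Set Y} (hV : IsClosed V) (hV' : interior V = ∅) : η ∉ V := by
  intro hη
  obtain ⟨W, hxW, _⟩ := exists_noetherian_nbhd η
  have : QuasiSober (W : Set Y) := W.isOpen.isOpenEmbedding_subtypeVal.quasiSober
  have : NoetherianSpace (W : Set Y) := ‹NoetherianSpace W›
  obtain ⟨z, hz⟩ := interior_nonempty_of_mem_maximal (α := (W : Set Y)) (η := ⟨η, hxW⟩)
    (fun z hz => Subtype.ext (hmax _ (hz.map continuous_subtype_val)))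
    (hV.preimage continuous_subtype_val) hη
  rw [← W.isOpen.isOpenEmbedding_subtypeVal.isOpenMap.preimage_interior_eq_interior_preimage
    continuous_subtype_val, hV'] at hz
  exact hz

/-- Base changes of flat preimmersions to reduced schemes are reduced. -/
theorem isReduced_of_flat_isPreimmersion {X Y : Scheme.{u}} (j : X ⟶ Y) [Flat j] [IsPreimmersion j]
    [IsReduced Y] : IsReduced X := by
  have (x : X) : _root_.IsReduced (X.presheaf.stalk x) := by
    have hfl : (j.stalkMap x).hom.Flat := Flat.stalkMap j x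
    have hb : Function.Bijective (j.stalkMap x).hom := by
      refine ⟨?_, j.stalkMap_surjective x⟩
      algebraize [(j.stalkMap x).hom]
      have : IsLocalHom (algebraMap (Y.presheaf.stalk (j x)) (X.presheaf.stalk x)) :=
        inferInstanceAs (IsLocalHom (j.stalkMap x).hom)
      have := Module.FaithfullyFlat.of_flat_of_isLocalHom (A := Y.presheaf.stalk (j x))
        (B := X.presheaf.stalk x)
      exact FaithfulSMul.algebraMap_injective (Y.presheaf.stalk (j x)) (X.presheaf.stalk x)
    exact isReduced_of_injective (RingEquiv.ofBijective _ hb).symm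
      (RingEquiv.ofBijective _ hb).symm.injective
  exact isReduced_of_isReduced_stalk X

instance flat_fromSpecStalk {X : Scheme.{u}} (x : X) : Flat (X.fromSpecStalk x) := by
  obtain ⟨_, ⟨W, hW, rfl⟩, hxW, -⟩ := X.isBasis_affineOpens.exists_subset_of_mem_open
    (Set.mem_univ x) isOpen_univ
  rw [← hW.fromSpecStalk_eq_fromSpecStalk hxW, IsAffineOpen.fromSpecStalk]
  have : Flat (Spec.map (X.presheaf.germ W x hxW)) := by
    rw [Flat.SpecMap_iff]
    letI := TopCat.Presheaf.algebra_section_stalk X.presheaf ⟨x, hxW⟩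
    have := hW.isLocalization_stalk ⟨x, hxW⟩
    exact RingHom.flat_algebraMap_iff.2
      (IsLocalization.flat (R := Γ(X, W)) (X.presheaf.stalk x)
        (hW.primeIdealOf ⟨x, hxW⟩).asIdeal.primeCompl)
  infer_instance

theorem geometricallyReduced_stalkMap {X Y : Scheme.{u}} (f : X ⟶ Y) [GeometricallyReduced f] (x : X) :
    GeometricallyReduced (Spec.map (f.stalkMap x)) := by
  refine ⟨fun K _ s Z fst snd h => ?_⟩
  let b : Spec (Y.presheaf.stalk (f x)) ⟶ Y := Y.fromSpecStalk (f x)
  let l : Z ⟶ pullback f (s ≫ b) := pullback.lift (fst ≫ X.fromSpecStalk x) snd (by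
    rw [Category.assoc, ← Scheme.SpecMap_stalkMap_fromSpecStalk f, reassoc_of% h.w])
  have h1 : IsPullback fst snd (X.fromSpecStalk x ≫ f) (s ≫ b) := by
    rw [← Scheme.SpecMap_stalkMap_fromSpecStalk f]
    exact IsPullback.of_isLimit (PullbackCone.isLimitOfCompMono _ _ b h.cone h.isLimit)
  have h2 : IsPullback fst l (X.fromSpecStalk x) (pullback.fst f (s ≫ b)) :=
    IsPullback.of_bot (by rwa [pullback.lift_snd]) (pullback.lift_fst _ _ _).symm
      (IsPullback.of_hasPullback f (s ≫ b))
  have : IsPreimmersion l := MorphismProperty.of_isPullback h2 inferInstance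
  have : Flat l := MorphismProperty.of_isPullback h2 inferInstance
  have : IsReduced (pullback f (s ≫ b)) :=
    GeometricallyReduced.geometrically_isReduced _ _ _ (.of_hasPullback _ _)
  exact isReduced_of_flat_isPreimmersion l

/-- For a flat morphism with geometrically reduced fibres to a geometrically unibranch locally
Noetherian scheme, complements of closed sets with nowhere dense image are connected. -/
theorem isConnected_compl_scheme {X Y : Scheme.{u}} [IsLocallyNoetherian X]
    [IsLocallyNoetherian Y] [ConnectedSpace ↥X]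
    (hY : ∀ y : Y, CAlg2.IsGeomUnibranch (Y.presheaf.stalk y))
    (f : X ⟶ Y) [Flat f] [GeometricallyReduced f]
    (T : Set ↥X) (hT : IsClosed T) (hT' : interior (closure (f.base '' T)) = ∅) :
    _root_.IsConnected Tᶜ := by
  have hloc : ∀ x : X, ∃ C : Set X, _root_.IsConnected C ∧ C ⊆ Tᶜ ∧ (∀ g ∈ C, g ⤳ x) ∧
      ∀ g, g ⤳ x → g ∈ Tᶜ → g ∈ C := by
    intro x
    let φ := X.fromSpecStalk x
    let ψ := Y.fromSpecStalk (f x)
    letI : Algebra (Y.presheaf.stalk (f x)) (X.presheaf.stalk x) := (f.stalkMap x).hom.toAlgebra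
    have : IsLocalHom (algebraMap (Y.presheaf.stalk (f x)) (X.presheaf.stalk x)) :=
      inferInstanceAs (IsLocalHom (f.stalkMap x).hom)
    have : Module.Flat (Y.presheaf.stalk (f x)) (X.presheaf.stalk x) := Flat.stalkMap f x
    have : GeometricallyReduced (Spec.map (CommRingCat.ofHom
        (algebraMap (Y.presheaf.stalk (f x)) (X.presheaf.stalk x)))) := geometricallyReduced_stalkMap f x
    have : IsNoetherianRing (Y.presheaf.stalk (f x)) := inferInstance
    have hA := hY (f x)
    let T₁ : Set (PrimeSpectrum (X.presheaf.stalk x)) := φ ⁻¹' T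
    have hsub : PrimeSpectrum.comap (algebraMap (Y.presheaf.stalk (f x)) (X.presheaf.stalk x)) '' T₁ ⊆
        ψ ⁻¹' closure (f.base '' T) := by
      rintro _ ⟨P, hP, rfl⟩
      refine subset_closure ⟨φ P, hP, ?_⟩
      show (φ ≫ f) P = (Spec.map (f.stalkMap x) ≫ ψ) P
      rw [Scheme.SpecMap_stalkMap_fromSpecStalk]
    have hT₁ : interior (closure (PrimeSpectrum.comap (algebraMap (Y.presheaf.stalk (f x))
        (X.presheaf.stalk x)) '' T₁)) = ∅ := by
      by_contra hne
      obtain ⟨p, hp⟩ := Set.nonempty_iff_ne_empty.2 hne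
      have hN : (nilradical (Y.presheaf.stalk (f x))).IsPrime :=
        Ideal.Quotient.isDomain_iff_prime _ |>.1 hA.1.1
      let η' : Spec (Y.presheaf.stalk (f x)) := ⟨_, hN⟩
      have hgen : ∀ q : Spec (Y.presheaf.stalk (f x)), η' ⤳ q := fun q =>
        (PrimeSpectrum.le_iff_specializes η' q).1 (nilradical_le_prime q.asIdeal)
      have hη' : η' ∈ ψ ⁻¹' closure (f.base '' T) :=
        (closure_minimal hsub (isClosed_closure.preimage ψ.continuous))
          (interior_subset ((hgen p).mem_open isOpen_interior hp))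
      refine notMem_of_interior_eq_empty (fun z hz => ?_) isClosed_closure hT' hη'
      have hzr : z ∈ Set.range ψ := by
        rw [Scheme.range_fromSpecStalk]
        exact hz.trans (((hgen (closedPoint _)).map ψ.continuous).trans
          (specializes_of_eq Scheme.fromSpecStalk_closedPoint))
      obtain ⟨z', rfl⟩ := hzr
      exact hz.antisymm ((hgen z').map ψ.continuous) |>.eq
    have hconn := isConnected_compl hA T₁ hT₁
    refine ⟨φ '' T₁ᶜ, hconn.image _ φ.continuous.continuousOn, ?_, ?_, fun g hg hgT => ?_⟩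
    · rintro _ ⟨P, hP, rfl⟩
      exact hP
    · rintro _ ⟨P, -, rfl⟩
      exact Scheme.range_fromSpecStalk.le ⟨P, rfl⟩
    · obtain ⟨P, rfl⟩ : g ∈ Set.range φ := by rw [Scheme.range_fromSpecStalk]; exact hg
      exact ⟨P, hgT, rfl⟩
  have hdense : ∀ x : X, x ∈ closure Tᶜ := by
    intro x
    obtain ⟨C, ⟨⟨g, hg⟩, -⟩, hC, hCx, -⟩ := hloc x
    exact closure_mono (Set.singleton_subset_iff.2 (hC hg)) (hCx g hg).mem_closure
  obtain ⟨x₀⟩ : Nonempty X := inferInstance
  refine ⟨?_, ?_⟩
  · obtain ⟨C, ⟨⟨g, hg⟩, -⟩, hC, -, -⟩ := hloc x₀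
    exact ⟨g, hC hg⟩
  intro u v hu hv huv hnu hnv
  have hcov : Set.univ ⊆ closure (Tᶜ ∩ u) ∪ closure (Tᶜ ∩ v) := fun x _ => by
    rw [← closure_union, ← Set.inter_union_distrib_left, Set.inter_eq_left.2 huv]
    exact hdense x
  obtain ⟨x, -, hxu, hxv⟩ := isPreconnected_closed_iff.1 isPreconnected_univ _ _ isClosed_closure
    isClosed_closure hcov (hnu.mono fun z hz => ⟨trivial, subset_closure hz⟩)
    (hnv.mono fun z hz => ⟨trivial, subset_closure hz⟩)
  obtain ⟨g₁, ⟨hg₁, hg₁u⟩, hg₁x⟩ := exists_specializes_of_mem_closure (hT.isOpen_compl.inter hu) hxu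
  obtain ⟨g₂, ⟨hg₂, hg₂v⟩, hg₂x⟩ := exists_specializes_of_mem_closure (hT.isOpen_compl.inter hv) hxv
  obtain ⟨C, hCc, hC, -, hCg⟩ := hloc x
  exact (hCc.isPreconnected u v hu hv (hC.trans huv) ⟨g₁, hCg g₁ hg₁x hg₁, hg₁u⟩
    ⟨g₂, hCg g₂ hg₂x hg₂, hg₂v⟩).mono (Set.inter_subset_inter_left _ hC)

end Groth.HensPair.UnibranchIdem
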