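import Groth.Agent.HensPair.UnibranchIdem
import Groth.Agent.HensPair.UnibranchGlobal
import Groth.Agent.Calg8.IntegralDimEq
import Mathlib.RingTheory.Ideal.GoingDown
import Mathlib.RingTheory.Spectrum.Prime.Topology

/-!
# Connectedness of complements of the closed fibre for flat algebras over geometrically unibranch rings (helper92)
-/

set_option autoImplicit false
set_option backward.isDefEq.respectTransparency.types false
set_option backward.isDefEq.respectTransparency false
set_option synthInstance.maxHeartbeats 100000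
universe u

open CategoryTheory AlgebraicGeometry TensorProduct IsLocalRing

namespace Groth.HensPair.UnibranchIdem

variable {A B : Type u} [CommRing A] [IsLocalRing A] [IsNoetherianRing A] [CommRing B] [Algebra A B]
  [Module.Flat A B]

set_option maxHeartbeats 1000000 in
/-- An idempotent of the generic fibre comes from the normalisation. -/
theorem idem_mem_integralClosure_of_dvr [IsDomain (CAlg2.red A)] (e : B ⊗[A] FractionRing (CAlg2.red A))
    (hdvr : ∀ (V : ValuationSubring (FractionRing (CAlg2.red A))) [IsDiscreteValuationRing V] [Algebra A V]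
      [IsScalarTower A V (FractionRing (CAlg2.red A))] (C₀ : Subalgebra (CAlg2.red A) (FractionRing (CAlg2.red A)))
      (p : Ideal C₀) [p.IsPrime], Module.Finite (CAlg2.red A) C₀ → p.height = 1 →
      (∀ c : FractionRing (CAlg2.red A), c ∈ V ↔ ∃ s : C₀, s ∉ p ∧ IsIntegral C₀ ((s : FractionRing (CAlg2.red A)) * c)) →
      e ∈ Set.range (Algebra.TensorProduct.map (AlgHom.id A B)
        (IsScalarTower.toAlgHom A V (FractionRing (CAlg2.red A))))) :
    e ∈ Set.range (Algebra.TensorProduct.map (AlgHom.id A B)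
      (IsScalarTower.toAlgHom A (CAlg2.normRed A) (FractionRing (CAlg2.red A)))) := by
  classical
  let R := CAlg2.red A
  let K := FractionRing R
  have : IsLocalRing R := IsLocalRing.of_surjective' (Ideal.Quotient.mk (nilradical A)) Ideal.Quotient.mk_surjective
  obtain ⟨C₀, hC₀, hV, hmem, hfin⟩ := Groth.Agent.S12124.result (A := R)
  -- a presentation with a single denominator
  obtain ⟨b, a, ha, hea⟩ : ∃ (b : B) (a : R), a ≠ 0 ∧ e = b ⊗ₜ[A] (algebraMap R K a)⁻¹ := by
    clear hdvr
    induction e with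
    | zero => exact ⟨0, 1, one_ne_zero, (zero_tmul B _).symm⟩
    | tmul b x =>
      obtain ⟨c, s, hs, rfl⟩ := IsFractionRing.div_surjective R x
      obtain ⟨c, rfl⟩ := Ideal.Quotient.mk_surjective c
      refine ⟨c • b, s, nonZeroDivisors.ne_zero hs, ?_⟩
      rw [smul_tmul, div_eq_mul_inv, Algebra.smul_def, IsScalarTower.algebraMap_apply A R K]
      rfl
    | add x y hx hy =>
      obtain ⟨b, a, ha, rfl⟩ := hx
      obtain ⟨b', a', ha', rfl⟩ := hy
      obtain ⟨a, rfl⟩ := Ideal.Quotient.mk_surjective a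
      obtain ⟨a', rfl⟩ := Ideal.Quotient.mk_surjective a'
      refine ⟨a' • b + a • b', Ideal.Quotient.mk _ a * Ideal.Quotient.mk _ a', mul_ne_zero ha ha', ?_⟩
      have h0 : algebraMap R K (Ideal.Quotient.mk _ a) ≠ 0 := by simpa using ha
      have h0' : algebraMap R K (Ideal.Quotient.mk _ a') ≠ 0 := by simpa using ha'
      have e1 : a' • (algebraMap R K (Ideal.Quotient.mk _ a * Ideal.Quotient.mk _ a'))⁻¹ =
          (algebraMap R K (Ideal.Quotient.mk _ a))⁻¹ := by
        rw [Algebra.smul_def, IsScalarTower.algebraMap_apply A R K, map_mul, mul_inv, mul_left_comm]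
        show _ * (algebraMap R K (Ideal.Quotient.mk _ a') * _) = _
        rw [mul_inv_cancel₀ h0', mul_one]
      have e2 : a • (algebraMap R K (Ideal.Quotient.mk _ a * Ideal.Quotient.mk _ a'))⁻¹ =
          (algebraMap R K (Ideal.Quotient.mk _ a'))⁻¹ := by
        rw [Algebra.smul_def, IsScalarTower.algebraMap_apply A R K, map_mul, mul_inv, ← mul_assoc]
        show algebraMap R K (Ideal.Quotient.mk _ a) * _ * _ = _
        rw [mul_inv_cancel₀ h0, one_mul]
      rw [add_tmul, smul_tmul, smul_tmul, e1, e2]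
  let x₀ : K := (algebraMap R K a)⁻¹
  have ha0 : algebraMap R K a ≠ 0 := by simpa using ha
  let S := (hfin x₀).toFinset
  choose V hVd hVmem using fun p : {p : Ideal C₀ // p ∈ S} =>
    haveI := ((hfin x₀).mem_toFinset.1 p.2).1
    hV p.1 ((hfin x₀).mem_toFinset.1 p.2).2.1
  have hCV : ∀ (p : {p : Ideal C₀ // p ∈ S}) (c : K), c ∈ integralClosure R K → c ∈ V p := fun p c hc =>
    have := ((hfin x₀).mem_toFinset.1 p.2).1
    (hVmem p c).2 ((hmem c).1 hc p.1 ((hfin x₀).mem_toFinset.1 p.2).2.1)
  let M : Finset {p : Ideal C₀ // p ∈ S} → Submodule A K := fun T =>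
    { carrier := {x | algebraMap R K a * x ∈ integralClosure R K ∧ ∀ p ∈ T, x ∈ V p}
      add_mem' := fun {x y} hx hy => ⟨by rw [mul_add]; exact add_mem hx.1 hy.1, fun p hp => add_mem (hx.2 p hp) (hy.2 p hp)⟩
      zero_mem' := ⟨by rw [mul_zero]; exact zero_mem _, fun p _ => zero_mem _⟩
      smul_mem' := fun r x hx => by
        rw [Algebra.smul_def, IsScalarTower.algebraMap_apply A R K]
        exact ⟨by rw [mul_left_comm]; exact mul_mem ((integralClosure R K).algebraMap_mem _) hx.1,
          fun p hp => mul_mem (hCV p _ ((integralClosure R K).algebraMap_mem _)) (hx.2 p hp)⟩ }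
  suffices h : ∀ T, e ∈ LinearMap.range (LinearMap.lTensor B (M T).subtype) by
    obtain ⟨z, hz⟩ := h Finset.univ
    have hle : ∀ x ∈ M Finset.univ, x ∈ integralClosure R K := by
      intro x hx
      refine (hmem x).2 fun p hp hp1 => ?_
      by_cases hps : p ∈ S
      · exact (hVmem ⟨p, hps⟩ x).1 (hx.2 _ (Finset.mem_univ _))
      · obtain ⟨s, hs, hsx⟩ := not_not.1 fun h => hps ((hfin x₀).mem_toFinset.2 ⟨hp, hp1, h⟩)
        obtain ⟨t, ht, htx⟩ := (hmem _).1 hx.1 p hp1
        refine ⟨s * t, Ideal.IsPrime.mul_notMem hp hs ht, ?_⟩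
        have : ((s * t : C₀) : K) * x = ((s : K) * x₀) * ((t : K) * (algebraMap R K a * x)) := by
          show (s : K) * (t : K) * x = _
          rw [show (s : K) * x₀ * ((t : K) * (algebraMap R K a * x)) = (s : K) * (t : K) * x * (x₀ * algebraMap R K a) by ring,
            show x₀ * algebraMap R K a = 1 from inv_mul_cancel₀ ha0, mul_one]
        rw [this]
        exact hsx.mul htx
    let inc : M Finset.univ →ₗ[A] CAlg2.normRed A :=
      { toFun := fun x => ⟨x.1, hle x.1 x.2⟩
        map_add' := fun _ _ => rfl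
        map_smul' := fun _ _ => rfl }
    refine ⟨LinearMap.lTensor B inc z, ?_⟩
    rw [← hz]
    show LinearMap.lTensor B (IsScalarTower.toAlgHom A (CAlg2.normRed A) K).toLinearMap _ = _
    rw [← LinearMap.lTensor_comp_apply]
    rfl
  intro T
  induction T using Finset.induction with
  | empty =>
    refine ⟨b ⊗ₜ ⟨x₀, by rw [mul_inv_cancel₀ ha0]; exact one_mem _, by simp⟩, ?_⟩
    rw [LinearMap.lTensor_tmul]
    exact hea.symm
  | insert p T hpT ih =>
    obtain ⟨z, hz⟩ := ih
    have := hVd p
    let _ : Algebra A (V p) := (((algebraMap R K).comp (algebraMap A R)).codRestrict (V p)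
      fun r => hCV p _ ((integralClosure R K).algebraMap_mem _)).toAlgebra
    have : IsScalarTower A (V p) K := .of_algebraMap_eq fun r => IsScalarTower.algebraMap_apply A R K r
    have := ((hfin x₀).mem_toFinset.1 p.2).1
    obtain ⟨w, hw⟩ := hdvr (V p) C₀ p.1 hC₀ ((hfin x₀).mem_toFinset.1 p.2).2.1 (hVmem p)
    let ιV : (V p) →ₗ[A] K := (IsScalarTower.toAlgHom A (V p) K).toLinearMap
    let g : M T →ₗ[A] K ⧸ LinearMap.range ιV := (LinearMap.range ιV).mkQ.comp (M T).subtype
    let inc : M (insert p T) →ₗ[A] M T :=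
      Submodule.inclusion fun x hx => ⟨hx.1, fun q hq => hx.2 q (Finset.mem_insert_of_mem hq)⟩
    have hex : Function.Exact inc g := by
      intro x
      show Submodule.Quotient.mk (x : K) = 0 ↔ _
      rw [Submodule.Quotient.mk_eq_zero]
      constructor
      · rintro ⟨v, hv⟩
        refine ⟨⟨x.1, x.2.1, fun q hq => ?_⟩, rfl⟩
        rcases Finset.mem_insert.1 hq with rfl | hq
        · exact hv ▸ v.2
        · exact x.2.2 q hq
      · rintro ⟨y, rfl⟩
        exact ⟨⟨y.1, y.2.2 p (Finset.mem_insert_self _ _)⟩, rfl⟩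
    have hg : LinearMap.lTensor B g z = 0 := by
      show LinearMap.lTensor B ((LinearMap.range ιV).mkQ.comp (M T).subtype) z = 0
      rw [LinearMap.lTensor_comp_apply, hz, ← hw]
      show LinearMap.lTensor B _ (LinearMap.lTensor B ιV w) = 0
      rw [← LinearMap.lTensor_comp_apply, show (LinearMap.range ιV).mkQ.comp ιV = 0 from
        LinearMap.ext fun v => (Submodule.Quotient.mk_eq_zero _).2 ⟨v, rfl⟩, LinearMap.lTensor_zero]
      rfl
    obtain ⟨z', rfl⟩ := ((Module.Flat.lTensor_exact B hex) z).1 hg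
    exact ⟨z', by rw [← LinearMap.lTensor_comp_apply] at hz; exact hz⟩

omit [Module.Flat A B] in
/-- Height-one primes of finite subalgebras of the normalisation avoid the closed point in dimension two. -/
theorem exists_mem_maximalIdeal_notMem [IsDomain A] [IsDomain (CAlg2.red A)] [IsLocalRing (CAlg2.normRed A)]
    (hdim : 2 ≤ ringKrullDim A) (C₀ : Subalgebra (CAlg2.red A) (FractionRing (CAlg2.red A)))
    (hfin : Module.Finite (CAlg2.red A) C₀) (p : Ideal C₀) [p.IsPrime] (hp : p.height = 1) :
    ∃ a ∈ maximalIdeal A, algebraMap (CAlg2.red A) C₀ (Ideal.Quotient.mk (nilradical A) a) ∉ p := by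
  let R := CAlg2.red A
  haveI : IsLocalRing R := IsLocalRing.of_surjective' (Ideal.Quotient.mk (nilradical A)) Ideal.Quotient.mk_surjective
  haveI : Algebra.IsIntegral R C₀ := Algebra.IsIntegral.of_finite R C₀
  have hle : C₀ ≤ integralClosure R (FractionRing R) := fun x hx =>
    (Algebra.IsIntegral.isIntegral (R := R) (⟨x, hx⟩ : C₀)).algebraMap
  let j : C₀ →ₐ[R] CAlg2.normRed A := Subalgebra.inclusion hle
  letI : Algebra C₀ (CAlg2.normRed A) := j.toRingHom.toAlgebra
  haveI : IsScalarTower R C₀ (CAlg2.normRed A) := IsScalarTower.of_algebraMap_eq fun a => (j.commutes a).symm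
  haveI : Algebra.IsIntegral R (CAlg2.normRed A) := IsIntegralClosure.isIntegral_algebra R (FractionRing R)
  haveI : Algebra.IsIntegral C₀ (CAlg2.normRed A) := Algebra.IsIntegral.tower_top (R := R)
  have hinj : Function.Injective (algebraMap C₀ (CAlg2.normRed A)) := Subalgebra.inclusion_injective hle
  have hloc : ∀ M : Ideal C₀, M.IsMaximal →
      M = (maximalIdeal (CAlg2.normRed A)).comap (algebraMap C₀ (CAlg2.normRed A)) := by
    intro M hM
    obtain ⟨P, hP, hPM⟩ := Ideal.exists_ideal_over_maximal_of_isIntegral (S := CAlg2.normRed A) M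
      (by rw [(RingHom.injective_iff_ker_eq_bot _).1 hinj]; exact bot_le)
    rw [← hPM, IsLocalRing.eq_maximalIdeal hP]
  haveI : IsLocalRing C₀ := IsLocalRing.of_unique_max_ideal
    ⟨_, Ideal.isMaximal_comap_of_isIntegral_of_isMaximal _, hloc⟩
  have hdimC : (2 : WithBot ℕ∞) ≤ ringKrullDim C₀ := by
    rw [Groth.Calg8.ringKrullDim_eq_of_integral R C₀ (fun a b h => IsFractionRing.injective R (FractionRing R)
      (congrArg Subtype.val h))]
    exact hdim.trans_eq (ringKrullDim_eq_of_ringEquiv ((Ideal.quotEquivOfEq (nilradical_eq_zero A)).trans (RingEquiv.quotientBot A))).symm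
  have hne : p ≠ maximalIdeal C₀ := by
    intro h
    have h1 := IsLocalRing.maximalIdeal_height_eq_ringKrullDim (R := C₀)
    rw [← h, hp] at h1
    rw [← h1] at hdimC
    exact absurd hdimC (by decide)
  by_contra hcon
  push Not at hcon
  refine hne (IsLocalRing.eq_maximalIdeal (Ideal.isMaximal_of_isIntegral_of_isMaximal_comap (R := R) p ?_))
  have hmax : p.comap (algebraMap R C₀) = maximalIdeal R := by
    refine le_antisymm (IsLocalRing.le_maximalIdeal (Ideal.IsPrime.ne_top inferInstance)) fun r hr => ?_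
    obtain ⟨a, rfl⟩ := Ideal.Quotient.mk_surjective r
    exact hcon a (by
      rw [IsLocalRing.mem_maximalIdeal] at hr ⊢
      exact fun hu => hr (hu.map _))
  rw [hmax]
  infer_instance

set_option maxHeartbeats 1000000 in
/-- **Complements of closed subsets of the closed fibre are connected.** -/
theorem not_separated_compl [IsLocalRing B] [IsLocalHom (algebraMap A B)] [IsDomain A]
    (hA : CAlg2.IsGeomUnibranch A) (hdim : 2 ≤ ringKrullDim A) (T : Set (PrimeSpectrum B)) (hT : IsClosed T)
    (hTm : ∀ q ∈ T, q.asIdeal.comap (algebraMap A B) = maximalIdeal A)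
    (u v : Set (PrimeSpectrum B)) (hu : IsOpen u) (hv : IsOpen v) (huv : Tᶜ ⊆ u ∪ v)
    (hnu : (Tᶜ ∩ u).Nonempty) (hnv : (Tᶜ ∩ v).Nonempty) : (Tᶜ ∩ (u ∩ v)).Nonempty := by
  classical
  by_contra hdis
  rw [Set.not_nonempty_iff_eq_empty] at hdis
  haveI : IsDomain (CAlg2.red A) := hA.1.1
  haveI : IsLocalRing (CAlg2.normRed A) := hA.1.2
  let K := FractionRing (CAlg2.red A)
  have hinj : Function.Injective (algebraMap A K) := by
    rw [IsScalarTower.algebraMap_eq A (CAlg2.red A) K]
    refine (IsFractionRing.injective (CAlg2.red A) K).comp fun a b h => ?_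
    have h1 : a - b ∈ nilradical A := Ideal.Quotient.eq.1 h
    rw [nilradical_eq_zero] at h1
    exact sub_eq_zero.1 h1
  have hmne : maximalIdeal A ≠ ⊥ := by
    intro h
    have hf : IsField A := IsLocalRing.isField_iff_maximalIdeal_eq.2 h
    rw [ringKrullDim_eq_zero_of_isField hf] at hdim
    exact absurd hdim (by decide)
  -- points away from the closed fibre are split
  have hsplit : ∀ (S : Type u) [CommRing S] (φ : B →+* S),
      (∀ P : PrimeSpectrum S, PrimeSpectrum.comap φ P ∉ T) →
      ∃ ε : S, IsIdempotentElem ε ∧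
        PrimeSpectrum.comap φ ⁻¹' u = (PrimeSpectrum.basicOpen ε : Set (PrimeSpectrum S)) := by
    intro S _ φ h
    refine PrimeSpectrum.isClopen_iff.1 ⟨?_, hu.preimage (PrimeSpectrum.continuous_comap φ)⟩
    refine isOpen_compl_iff.1 ?_
    have : (PrimeSpectrum.comap φ ⁻¹' u)ᶜ = PrimeSpectrum.comap φ ⁻¹' v := by
      ext P
      constructor
      · intro hP
        exact (huv (h P)).resolve_left hP
      · intro hP hP'
        exact (Set.eq_empty_iff_forall_notMem.1 hdis) _ ⟨h P, hP', hP⟩
    rw [this]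
    exact hv.preimage (PrimeSpectrum.continuous_comap φ)
  let iK : B →+* B ⊗[A] K := Algebra.TensorProduct.includeLeftRingHom
  have hKT : ∀ P : PrimeSpectrum (B ⊗[A] K), PrimeSpectrum.comap iK P ∉ T := by
    intro P hP
    obtain ⟨a, ha, ha0⟩ := Submodule.exists_mem_ne_zero_of_ne_bot hmne
    have h1 : a ∈ (PrimeSpectrum.comap iK P).asIdeal.comap (algebraMap A B) := (hTm _ hP).ge ha
    have h2 : IsUnit (iK (algebraMap A B a)) := by
      rw [show iK (algebraMap A B a) = Algebra.TensorProduct.includeRight (algebraMap A K a) by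
        simp [iK, Algebra.TensorProduct.tmul_one_eq_one_tmul]]
      exact (isUnit_iff_ne_zero.2 fun h => ha0 (hinj (h.trans (map_zero _).symm))).map _
    exact P.2.ne_top (Ideal.eq_top_of_isUnit_mem _ h1 h2)
  -- every open meeting the complement meets the generic fibre
  have hgen : ∀ w : Set (PrimeSpectrum B), IsOpen w → (Tᶜ ∩ w).Nonempty →
      ∃ P : PrimeSpectrum (B ⊗[A] K), PrimeSpectrum.comap iK P ∈ w := by
    rintro w hw ⟨q, -, hq⟩
    haveI : q.asIdeal.LiesOver (q.asIdeal.comap (algebraMap A B)) := ⟨rfl⟩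
    obtain ⟨Q, hQq, hQ, hQ0⟩ := Ideal.exists_ideal_le_liesOver_of_le (S := B) q.asIdeal
      (p := (⊥ : Ideal A)) (q := q.asIdeal.comap (algebraMap A B)) bot_le
    haveI := hQ
    let F := FractionRing (B ⧸ Q)
    let φB : B →ₐ[A] F := (IsScalarTower.toAlgHom A (B ⧸ Q) F).comp (Ideal.Quotient.mkₐ A Q)
    have hkerB : RingHom.ker φB.toRingHom = Q := by
      rw [show φB.toRingHom = (algebraMap (B ⧸ Q) F).comp (Ideal.Quotient.mk Q) from rfl,
        RingHom.ker_comp_of_injective _ (IsFractionRing.injective _ F), Ideal.mk_ker]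
    let r : CAlg2.red A →ₐ[A] F := Ideal.Quotient.liftₐ (nilradical A) (Algebra.ofId A F) (fun a ha => by
      rw [nilradical_eq_zero] at ha
      rw [show a = 0 from ha, map_zero])
    have hr : Function.Injective r := by
      rw [injective_iff_map_eq_zero]
      intro x hx
      obtain ⟨a, rfl⟩ := Ideal.Quotient.mk_surjective x
      have h1 : φB (algebraMap A B a) = 0 := by
        rw [AlgHom.commutes]; exact hx
      have h2 : a ∈ Q.comap (algebraMap A B) := hkerB.le h1
      have h3 : Q.comap (algebraMap A B) = ⊥ := hQ0.over.symm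
      rw [h3, Ideal.mem_bot] at h2
      rw [h2, map_zero]
    let φK : K →ₐ[A] F := IsFractionRing.liftAlgHom hr
    let Φ : B ⊗[A] K →ₐ[A] F := Algebra.TensorProduct.lift φB φK fun _ _ => Commute.all _ _
    refine ⟨⟨RingHom.ker Φ.toRingHom, RingHom.ker_isPrime _⟩, ?_⟩
    have hc : PrimeSpectrum.comap iK ⟨RingHom.ker Φ.toRingHom, RingHom.ker_isPrime _⟩ = ⟨Q, hQ⟩ := by
      refine PrimeSpectrum.ext ?_
      show (RingHom.ker Φ.toRingHom).comap iK = Q
      refine Eq.trans ?_ hkerB
      ext b
      simp [Φ, iK]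
    rw [hc]
    exact ((PrimeSpectrum.le_iff_specializes (⟨Q, hQ⟩ : PrimeSpectrum B) q).1 hQq).mem_open hw hq
  obtain ⟨e, he, hew⟩ := hsplit _ iK hKT
  have := isLocalRing_tensor_normRed (B := B) hA
  let φN := Algebra.TensorProduct.map (AlgHom.id A B) (IsScalarTower.toAlgHom A (CAlg2.normRed A) K)
  have hφN : Function.Injective φN :=
    Module.Flat.lTensor_preserves_injective_linearMap (M := B)
      (IsScalarTower.toAlgHom A (CAlg2.normRed A) K).toLinearMap Subtype.val_injective
  obtain ⟨z, hz⟩ := idem_mem_integralClosure_of_dvr e (fun V _ _ _ C₀ p _ hfin hp hVmem => by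
    obtain ⟨a, ha, hap⟩ := exists_mem_maximalIdeal_notMem hdim C₀ hfin p hp
    let iV : B →+* B ⊗[A] V := Algebra.TensorProduct.includeLeftRingHom
    let ψ := Algebra.TensorProduct.map (AlgHom.id A B) (IsScalarTower.toAlgHom A V K)
    have haV : IsUnit (algebraMap A V a) := by
      have ha0 : algebraMap A K a ≠ 0 := fun h => by
        refine hap ?_
        rw [hinj (h.trans (map_zero _).symm), map_zero, map_zero]
        exact zero_mem p
      have hinv : (algebraMap A K a)⁻¹ ∈ V := (hVmem _).2 ⟨_, hap, by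
        rw [show ((algebraMap (CAlg2.red A) C₀ (Ideal.Quotient.mk (nilradical A) a) : C₀) : K) = algebraMap A K a from rfl,
          mul_inv_cancel₀ ha0]
        exact isIntegral_one⟩
      refine IsUnit.of_mul_eq_one ⟨_, hinv⟩ (Subtype.ext ?_)
      show ((algebraMap A V a : V) : K) * (algebraMap A K a)⁻¹ = 1
      rw [show ((algebraMap A V a : V) : K) = algebraMap A K a from (IsScalarTower.algebraMap_apply A V K a).symm,
        mul_inv_cancel₀ ha0]
    have hVT : ∀ P : PrimeSpectrum (B ⊗[A] V), PrimeSpectrum.comap iV P ∉ T := by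
      intro P hP
      have h1 : a ∈ (PrimeSpectrum.comap iV P).asIdeal.comap (algebraMap A B) := (hTm _ hP).ge ha
      have h2 : IsUnit (iV (algebraMap A B a)) := by
        rw [show iV (algebraMap A B a) = Algebra.TensorProduct.includeRight (algebraMap A V a) by
          simp [iV, Algebra.TensorProduct.tmul_one_eq_one_tmul]]
        exact haV.map _
      exact P.2.ne_top (Ideal.eq_top_of_isUnit_mem _ h1 h2)
    obtain ⟨ε, hε, hεw⟩ := hsplit _ iV hVT
    refine ⟨ε, PrimeSpectrum.basicOpen_injOn_isIdempotentElem (hε.map ψ) he (SetLike.coe_injective ?_)⟩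
    rw [← hew]
    have hcomp : ψ.toRingHom.comp iV = iK := RingHom.ext fun b => by simp [ψ, iV, iK]
    rw [← hcomp, PrimeSpectrum.comap_comp, Set.preimage_comp, hεw]
    rfl)
  have hzi : IsIdempotentElem z := hφN (by rw [map_mul]; erw [hz]; exact he)
  rcases IsLocalRing.isUnit_or_isUnit_one_sub_self z with h | h
  · -- the second piece is empty
    have hz1 : z = 1 := h.mul_left_cancel (hzi.trans (mul_one z).symm)
    obtain ⟨P, hP⟩ := hgen v hv hnv
    have hPu : PrimeSpectrum.comap iK P ∈ u := by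
      show P ∈ PrimeSpectrum.comap iK ⁻¹' u
      rw [hew, ← hz, hz1, map_one, PrimeSpectrum.basicOpen_one]
      trivial
    exact (Set.eq_empty_iff_forall_notMem.1 hdis) _ ⟨hKT P, hPu, hP⟩
  · have hz0 : z = 0 := h.mul_left_cancel ((hzi.one_sub_mul_self).trans (mul_zero _).symm)
    obtain ⟨P, hP⟩ := hgen u hu hnu
    have hPu : P ∈ PrimeSpectrum.comap iK ⁻¹' u := hP
    rw [hew, ← hz, hz0, map_zero, PrimeSpectrum.basicOpen_zero] at hPu
    exact hPu

end Groth.HensPair.UnibranchIdem
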